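import Cfsg.Agent.Lib.PLocal.TheoremB.Primitive
import Cfsg.Agent.Lib.PLocal.TheoremB.Main

/-! Preliminaries on operators normalizing a `q`-group of linear maps, in coprime characteristic. -/

set_option autoImplicit false
set_option linter.unusedSectionVars false

namespace Cfsg.Agent.GenA.ShultGross

open Module (End finrank)
open Cfsg.Agent.PLocal.TheoremB (Normalizes Moves Minimal)
open scoped commutatorElement

variable {G : Type*} [Group G] {K : Type*} [Field K] {V : Type*} [AddCommGroup V] [Module K V]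

theorem sum_range_mul' {M : Type*} [AddCommMonoid M] (f : ℕ → M) (a b : ℕ) :
    ∑ i ∈ Finset.range (a * b), f i = ∑ l ∈ Finset.range b, ∑ i ∈ Finset.range a, f (a * l + i) := by
  induction b with
  | zero => simp
  | succ b ih => rw [Nat.mul_succ, Finset.sum_range_add, Finset.sum_range_succ, ih]

/-- A `q`-element trivial on a subspace and on the quotient is trivial, `q` invertible. -/
theorem eq_one_of_trivial {ρ : G →* End K V} {q k : ℕ} (hq : (q : K) ≠ 0) {h : G} (hh : h ^ q ^ k = 1)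
    (W : Submodule K V) (h1 : ∀ w ∈ W, ρ h w = w) (h2 : ∀ v, ρ h v - v ∈ W) : ρ h = 1 := by
  refine LinearMap.ext fun v => ?_
  have hiter : ∀ i : ℕ, ρ (h ^ i) v = v + (i : K) • (ρ h v - v) := by
    intro i
    induction i with
    | zero => simp
    | succ i ih =>
      rw [pow_succ', map_mul, Module.End.mul_apply, ih, map_add, map_smul, h1 _ (h2 v), Nat.cast_succ,
        add_smul, one_smul]
      abel
  have := hiter (q ^ k)
  rw [hh, map_one, Module.End.one_apply, left_eq_add, smul_eq_zero, Nat.cast_pow] at this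
  rw [Module.End.one_apply]
  exact sub_eq_zero.mp (this.resolve_left (pow_ne_zero k hq))

variable [Finite G] {p q : ℕ} [hp : Fact p.Prime] [hq : Fact q.Prime] {ρ : G →* End K V} {Q : Subgroup G} {x y : G}

/-- A minimal moved subgroup is generated by its commutators with `y`. -/
theorem closure_eq (hpq : p ≠ q) (hQ : IsPGroup q Q) (hy : y ^ p = 1) (hxy : Commute x y)
    (hxQ : Normalizes x Q) (hyQ : Normalizes y Q) (hmove : Moves ρ Q y) (hmin : Minimal ρ Q x y) :
    Subgroup.closure ((fun g => g⁻¹ * (y * g * y⁻¹)) '' (Q : Set G)) = Q := by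
  set R := Subgroup.closure ((fun g => g⁻¹ * (y * g * y⁻¹)) '' (Q : Set G)) with hR
  have hle : R ≤ Q := by
    rw [hR, Subgroup.closure_le]
    rintro _ ⟨g, hg, rfl⟩
    exact mul_mem (inv_mem hg) (hyQ g hg)
  by_contra hne
  have hinv : Normalizes x R := by
    intro g hg
    induction hg using Subgroup.closure_induction with
    | mem g hg =>
      obtain ⟨a, ha, rfl⟩ := hg
      refine Subgroup.subset_closure ⟨x * a * x⁻¹, hxQ a ha, ?_⟩
      show (x * a * x⁻¹)⁻¹ * (y * (x * a * x⁻¹) * y⁻¹) = x * (a⁻¹ * (y * a * y⁻¹)) * x⁻¹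
      have h1 : y * x = x * y := hxy.symm.eq
      have h2 : x⁻¹ * y⁻¹ = y⁻¹ * x⁻¹ := by rw [← mul_inv_rev, ← mul_inv_rev, h1]
      calc (x * a * x⁻¹)⁻¹ * (y * (x * a * x⁻¹) * y⁻¹)
          = x * a⁻¹ * x⁻¹ * (y * x) * a * (x⁻¹ * y⁻¹) := by group
        _ = x * a⁻¹ * x⁻¹ * (x * y) * a * (y⁻¹ * x⁻¹) := by rw [h1, h2]
        _ = _ := by group
    | one => simpa using one_mem R
    | mul a b _ _ ha hb => rw [show x * (a * b) * x⁻¹ = x * a * x⁻¹ * (x * b * x⁻¹) by group]; exact mul_mem ha hb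
    | inv a _ ha => rw [show x * a⁻¹ * x⁻¹ = (x * a * x⁻¹)⁻¹ by group]; exact inv_mem ha
  have hcen := hmin R hle hne hinv
  obtain ⟨g, hg, hgy⟩ := hmove
  set t := g⁻¹ * (y * g * y⁻¹) with ht
  have htR : t ∈ R := Subgroup.subset_closure ⟨g, hg, rfl⟩
  have hct : Commute (ρ y) (ρ t) := by
    by_contra hc
    exact hcen ⟨t, htR, hc⟩
  have hct' : ρ (y * t * y⁻¹) = ρ t := by
    rw [map_mul, map_mul, hct.eq, mul_assoc, ← map_mul, mul_inv_cancel, map_one, mul_one]
  have hiter : ∀ i : ℕ, ρ (y ^ i * g * (y ^ i)⁻¹) = ρ g * ρ t ^ i := by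
    intro i
    induction i with
    | zero => simp
    | succ i ih =>
      have ht' : ∀ j : ℕ, ρ (y * t ^ j * y⁻¹) = ρ t ^ j := fun j => by
        rw [← conj_pow, map_pow, hct']
      calc ρ (y ^ (i + 1) * g * (y ^ (i + 1))⁻¹)
          = ρ y * ρ (y ^ i * g * (y ^ i)⁻¹) * ρ y⁻¹ := by
            simp only [← map_mul]; congr 1; rw [pow_succ']; group
        _ = ρ (y * g * y⁻¹) * ρ (y * t ^ i * y⁻¹) := by
            rw [ih, ← map_pow]; simp only [← map_mul]; congr 1; group
        _ = _ := by rw [ht', show y * g * y⁻¹ = g * t by rw [ht]; group, map_mul, mul_assoc, ← pow_succ']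
  have hone : ρ t ^ p = 1 := by
    have := hiter p
    rw [hy, inv_one, one_mul, mul_one] at this
    calc ρ t ^ p = ρ g⁻¹ * (ρ g * ρ t ^ p) := by rw [← mul_assoc, ← map_mul, inv_mul_cancel, map_one, one_mul]
      _ = 1 := by rw [← this, ← map_mul, inv_mul_cancel, map_one]
  obtain ⟨k, hk⟩ := hQ ⟨t, hle htR⟩
  have hqk : ρ t ^ q ^ k = 1 := by
    have := congrArg (fun a : Q => ρ (a : G)) hk
    simpa using this
  have hcop : Nat.gcd p (q ^ k) = 1 := Nat.Coprime.pow_right k ((Nat.coprime_primes hp.out hq.out).mpr hpq)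
  have : ρ t = 1 := by
    have h := pow_gcd_eq_one.mpr ⟨hone, hqk⟩
    rwa [hcop, pow_one] at h
  refine hgy ?_
  have h2 : ρ (y * g) = ρ (g * y) := by
    rw [show y * g = g * t * y by rw [ht]; group, map_mul, map_mul, this, mul_one, map_mul]
  simpa [Commute, SemiconjBy] using h2

/-- A normal subgroup centralized by `y` is central in the image of a subgroup generated by commutators with `y`. -/
theorem commute_of_centralized (hgen : Subgroup.closure ((fun g => g⁻¹ * (y * g * y⁻¹)) '' (Q : Set G)) = Q)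
    {R : Subgroup G} (hRn : ∀ g ∈ Q, ∀ d ∈ R, g * d * g⁻¹ ∈ R) (hRc : ∀ d ∈ R, Commute (ρ y) (ρ d)) :
    ∀ d ∈ R, ∀ k ∈ Q, Commute (ρ d) (ρ k) := by
  intro d hd k hk
  rw [← hgen] at hk
  suffices hall : ∀ d ∈ R, Commute (ρ d) (ρ k) from hall d hd
  clear hd d
  induction hk using Subgroup.closure_induction with
  | mem k hk =>
    intro d hd
    obtain ⟨g, hg, rfl⟩ := hk
    have h1 := hRc _ (hRn g hg d hd)
    have hy : ρ (y * (g * d * g⁻¹) * y⁻¹) = ρ (g * d * g⁻¹) := by
      rw [map_mul, map_mul, h1.eq, mul_assoc, ← map_mul, mul_inv_cancel, map_one, mul_one]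
    have hd' : ρ (y * d * y⁻¹) = ρ d := by
      rw [map_mul, map_mul, (hRc d hd).eq, mul_assoc, ← map_mul, mul_inv_cancel, map_one, mul_one]
    show ρ d * ρ (g⁻¹ * (y * g * y⁻¹)) = ρ (g⁻¹ * (y * g * y⁻¹)) * ρ d
    symm
    calc ρ (g⁻¹ * (y * g * y⁻¹)) * ρ d = ρ (g⁻¹ * (y * g * y⁻¹)) * ρ (y * d * y⁻¹) := by rw [hd']
      _ = ρ g⁻¹ * ρ (y * (g * d * g⁻¹) * y⁻¹) * ρ (y * g * y⁻¹) := by simp only [← map_mul]; congr 1; group
      _ = ρ g⁻¹ * ρ (g * d * g⁻¹) * ρ (y * g * y⁻¹) := by rw [hy]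
      _ = _ := by simp only [← map_mul]; congr 1; group
  | one => intro d hd; simp
  | mul a b _ _ ha hb => intro d hd; rw [map_mul]; exact (ha d hd).mul_right (hb d hd)
  | inv a _ ha =>
    intro d hd
    exact Commute.units_inv_right (u := ⟨ρ a, ρ a⁻¹, by rw [← map_mul]; simp, by rw [← map_mul]; simp⟩) (ha d hd)

end Cfsg.Agent.GenA.ShultGross
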