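import Cfsg.Agent.GenA.ShultGross.Module
import Cfsg.Agent.Lib.Cores.Fitting
import Cfsg.Agent.Lib.Coprime.Commutator
import Cfsg.Agent.Lib.Coprime.Sylow
import Cfsg.Agent.Lib.PLocal.PSolvable
import Cfsg.Agent.Lib.CN.Basic
import Cfsg.Agent.Lib.Coprime.PGroup
import Cfsg.Agent.Solvable.Basics

/-!
A fixed-point-free automorphism of order dividing `p ^ (n + 1)`, `p` odd, of a solvable group has its
`p ^ n`-th power trivial modulo the Fitting subgroup.
-/

set_option autoImplicit false

namespace Cfsg.Agent.GenA.ShultGross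

open Cfsg Subgroup
open scoped TensorProduct commutatorElement

universe u

variable {G : Type u} [Group G] [Finite G]

/-- An action by automorphisms as a representation over `ZMod r`. -/
noncomputable def toEnd {A : Type*} [CommGroup A] (r : ℕ) [Module (ZMod r) (Additive A)] {Γ : Type*}
    [Group Γ] (φ : Γ →* MulAut A) : Γ →* Module.End (ZMod r) (Additive A) where
  toFun γ := (MonoidHom.toAdditive (φ γ).toMonoidHom).toZModLinearMap r
  map_one' := LinearMap.ext fun v => by
    apply Additive.toMul.injective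
    show φ 1 (Additive.toMul v) = Additive.toMul v
    rw [map_one, MulAut.one_apply]
  map_mul' a b := LinearMap.ext fun v => by
    apply Additive.toMul.injective
    show φ (a * b) (Additive.toMul v) = φ a (φ b (Additive.toMul v))
    rw [map_mul, MulAut.mul_apply]

theorem toMul_toEnd {A : Type*} [CommGroup A] (r : ℕ) [Module (ZMod r) (Additive A)] {Γ : Type*}
    [Group Γ] (φ : Γ →* MulAut A) (γ : Γ) (v : Additive A) :
    Additive.toMul (toEnd r φ γ v) = φ γ (Additive.toMul v) := rfl

/-- The module step for a finite `ZMod r`-module. -/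
theorem commute_of_fpf' {Γ : Type u} [Group Γ] [Finite Γ] {A : Type u} [CommGroup A] [Finite A]
    {p q r : ℕ} [hp : Fact p.Prime] [hq : Fact q.Prime] [hr : Fact r.Prime] (hp2 : p ≠ 2) (hpq : p ≠ q)
    (hpr : p ≠ r) (hqr : q ≠ r) [Module (ZMod r) (Additive A)] (φ : Γ →* MulAut A) (Q : Subgroup Γ) (x : Γ)
    {n : ℕ} (hn : 1 ≤ n) (hQ : IsPGroup q Q) (hxP : x ^ p ^ n = 1)
    (hxQ : ∀ b ∈ Q, x * b * x⁻¹ ∈ Q) (hQfix : ∀ b ∈ Q, x * b * x⁻¹ = b → b = 1)
    (hAfix : ∀ a : A, φ x a = a → a = 1) :
    ∀ g ∈ Q, φ (x ^ p ^ (n - 1)) * φ g = φ g * φ (x ^ p ^ (n - 1)) := by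
  classical
  haveI : Finite (Additive A) := Finite.of_equiv _ Additive.ofMul
  haveI : Module.Finite (ZMod r) (Additive A) := Module.Finite.of_finite
  let Kr := AlgebraicClosure (ZMod r)
  haveI : CharP Kr r := charP_of_injective_algebraMap (algebraMap (ZMod r) Kr).injective r
  let β : Module.End (ZMod r) (Additive A) →ₐ[ZMod r] Module.End Kr (Kr ⊗[ZMod r] Additive A) :=
    Module.End.baseChangeHom (ZMod r) Kr (Additive A)
  have hβ : Function.Injective β := fun a b h => LinearMap.baseChangeHom_injective (ZMod r) _ (M := Additive A) h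
  let ρ : Γ →* Module.End Kr (Kr ⊗[ZMod r] Additive A) := β.toMonoidHom.comp (toEnd r φ)
  have hne : ∀ s : ℕ, s.Prime → s ≠ r → (s : Kr) ≠ 0 := fun s hs hsr h => hsr
    ((Nat.prime_dvd_prime_iff_eq hr.out hs).mp ((CharP.cast_eq_zero_iff Kr r s).mp h)).symm
  have hfix : ∀ w, ρ x w = w → w = 0 := by
    have h0 : Function.Injective (toEnd r φ x - 1 : Module.End (ZMod r) (Additive A)) := by
      refine (injective_iff_map_eq_zero _).mpr fun v hv => ?_
      refine Additive.toMul.injective (hAfix _ ?_)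
      exact congrArg Additive.toMul (sub_eq_zero.mp hv)
    have h1 : Function.Injective (β (toEnd r φ x - 1)) := by
      show Function.Injective ((toEnd r φ x - 1).baseChange Kr)
      rw [LinearMap.baseChange_eq_ltensor]
      exact Module.Flat.lTensor_preserves_injective_linearMap _ h0
    intro w hw
    refine h1 ?_
    rw [map_sub, map_one, LinearMap.sub_apply, Module.End.one_apply, map_zero, sub_eq_zero]
    exact hw
  have hnot := not_moves (p := p) (q := q) hp2 hpq (hne p hp.out hpr) (hne q hq.out hqr) hn (Nat.card Q) _ Γ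
    (Kr ⊗[ZMod r] Additive A) ρ Q x le_rfl le_rfl hQ hxP hxQ hQfix hfix
  simp only [Cfsg.Agent.PLocal.TheoremB.Moves, not_exists, not_and, not_not] at hnot
  intro g hg
  have h := (hnot g hg).eq
  have h' : toEnd r φ (x ^ p ^ (n - 1) * g) = toEnd r φ (g * x ^ p ^ (n - 1)) := hβ (by
    show ρ _ = ρ _
    rw [map_mul, map_mul]; exact h)
  rw [← map_mul, ← map_mul]
  exact MulEquiv.ext fun a => congrArg Additive.toMul (LinearMap.congr_fun h' (Additive.ofMul a))

/-- The module step for a finite abelian group of prime exponent. -/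
theorem commute_of_fpf {Γ : Type u} [Group Γ] [Finite Γ] {A : Type u} [CommGroup A] [Finite A]
    {p q r : ℕ} [hp : Fact p.Prime] [hq : Fact q.Prime] [hr : Fact r.Prime] (hp2 : p ≠ 2) (hpq : p ≠ q)
    (hpr : p ≠ r) (hqr : q ≠ r) (hexp : ∀ a : A, a ^ r = 1) (φ : Γ →* MulAut A) (Q : Subgroup Γ) (x : Γ)
    {n : ℕ} (hn : 1 ≤ n) (hQ : IsPGroup q Q) (hxP : x ^ p ^ n = 1)
    (hxQ : ∀ b ∈ Q, x * b * x⁻¹ ∈ Q) (hQfix : ∀ b ∈ Q, x * b * x⁻¹ = b → b = 1)
    (hAfix : ∀ a : A, φ x a = a → a = 1) :
    ∀ g ∈ Q, φ (x ^ p ^ (n - 1)) * φ g = φ g * φ (x ^ p ^ (n - 1)) := by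
  have hsmul : ∀ v : Additive A, r • v = 0 := fun v => by
    refine Additive.toMul.injective ?_
    rw [toMul_nsmul, toMul_zero, hexp]
  haveI hM : Module (ZMod r) (Additive A) := AddCommGroup.zmodModule hsmul
  exact commute_of_fpf' (r := r) hp2 hpq hpr hqr φ Q x hn hQ hxP hxQ hQfix hAfix

theorem fix_quotient (σ : G ≃* G) (hfpf : ∀ g, σ g = g → g = 1) (N : Subgroup G)
    (hN : ∀ g ∈ N, σ g ∈ N) {g : G} (hg : g⁻¹ * σ g ∈ N) : g ∈ N := by
  have hinj : Function.Injective (fun u : G => u⁻¹ * σ u) := fun u v e => by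
    have e' : u⁻¹ * σ u = v⁻¹ * σ v := e
    have h : σ (v * u⁻¹) = v * u⁻¹ := by
      rw [map_mul, map_inv]
      calc σ v * (σ u)⁻¹ = v * (v⁻¹ * σ v) * (u⁻¹ * σ u)⁻¹ * u⁻¹ := by group
        _ = _ := by rw [e', mul_inv_cancel_right]
    exact (mul_inv_eq_one.mp (hfpf _ h)).symm
  obtain ⟨⟨u, hu⟩, hue⟩ := Finite.surjective_of_injective
    (f := fun u : N => (⟨u.1⁻¹ * σ u.1, mul_mem (inv_mem u.2) (hN _ u.2)⟩ : N))
    (fun a b e => Subtype.ext (hinj (congrArg Subtype.val e))) ⟨_, hg⟩
  have e : u = g := hinj (congrArg Subtype.val hue)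
  exact e ▸ hu

theorem not_dvd_card {p : ℕ} [hp : Fact p.Prime] (σ : MulAut G) {n : ℕ} (hσ : σ ^ p ^ n = 1)
    (hfpf : ∀ g : G, σ g = g → g = 1) : ¬ p ∣ Nat.card G := by
  obtain ⟨k, -, hk⟩ := (Nat.dvd_prime_pow hp.out).mp (orderOf_dvd_of_pow_eq_one hσ)
  have hA : IsPGroup p (zpowers σ) := IsPGroup.of_card (n := k) (by rw [Nat.card_zpowers, hk])
  letI : MulAction (zpowers σ) G := MulAction.compHom G (zpowers σ).subtype
  have h1 := hA.card_modEq_card_fixedPoints G
  have h2 : MulAction.fixedPoints (zpowers σ) G = {1} := by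
    ext g
    simp only [MulAction.mem_fixedPoints, Set.mem_singleton_iff]
    exact ⟨fun h => hfpf g (h ⟨σ, mem_zpowers σ⟩), fun h a => by subst h; exact map_one (a : MulAut G)⟩
  rw [h2] at h1
  intro hd
  have h3 : p ∣ Nat.card ({1} : Set G) := (Nat.ModEq.dvd_iff h1 (dvd_refl p)).mp hd
  rw [Nat.card_unique] at h3
  exact hp.out.not_dvd_one h3

theorem map_char (σ : MulAut G) {N : Subgroup G} [hN : N.Characteristic] :
    ∀ g ∈ N, σ g ∈ N := fun g hg => by
  have := characteristic_iff_map_eq.mp hN σ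
  exact this.le ⟨g, hg, rfl⟩

set_option maxHeartbeats 1600000 in
theorem pow_trivial_mod_fitting {p : ℕ} [hp : Fact p.Prime] (hp2 : p ≠ 2) (hG : Group.IsSolvable G)
    (σ : MulAut G) {n : ℕ} (hσ : σ ^ p ^ (n + 1) = 1) (hfpf : ∀ g : G, σ g = g → g = 1) (g : G) :
    g⁻¹ * (σ ^ p ^ n) g ∈ fittingSubgroup G := by
  classical
  haveI hFc : (fittingSubgroup G).Characteristic := Cores.fittingSubgroup_characteristic
  set F := fittingSubgroup G with hF
  have hFnil : Group.IsNilpotent F := Cores.fittingSubgroup_isNilpotent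
  set y := σ ^ p ^ n with hy
  have hpG := not_dvd_card σ hσ hfpf
  set π := QuotientGroup.mk' F with hπ
  let yq : MulAut (G ⧸ F) := QuotientGroup.congr F F y
    (le_antisymm (by rintro _ ⟨a, ha, rfl⟩; exact map_char y a ha)
      (fun a ha => ⟨y.symm a, map_char y.symm a ha, y.apply_symm_apply a⟩))
  have hyq : ∀ a : G, yq (π a) = π (y a) := fun a => rfl
  suffices hX : ∀ u ∈ fittingSubgroup (G ⧸ F), yq u = u by
    haveI : Group.IsSolvable (G ⧸ F) := inferInstance
    have hcent : ∀ u : G ⧸ F, u⁻¹ * yq u ∈ fittingSubgroup (G ⧸ F) := fun u => by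
      haveI : (fittingSubgroup (G ⧸ F)).Characteristic := Cores.fittingSubgroup_characteristic
      refine Cores.centralizer_fittingSubgroup_le (mem_centralizer_iff.mpr fun f hf => ?_)
      have h1 : yq (u * f * u⁻¹) = u * f * u⁻¹ := hX _ (Normal.conj_mem inferInstance f hf u)
      rw [map_mul, map_mul, map_inv, hX f hf] at h1
      calc f * (u⁻¹ * yq u) = u⁻¹ * (u * f * u⁻¹) * yq u := by group
        _ = u⁻¹ * (yq u * f * (yq u)⁻¹) * yq u := by rw [h1]
        _ = _ := by group
    set u := π g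
    set t := u⁻¹ * yq u with ht
    have ht' : yq t = t := hX t (hcent u)
    have hiter : ∀ i : ℕ, (yq ^ i) u = u * t ^ i := by
      intro i
      induction i with
      | zero => simp
      | succ i ih => rw [pow_succ' yq, MulAut.mul_apply, ih, map_mul, map_pow, ht', pow_succ', ← mul_assoc,
          show u * t = yq u by rw [ht]; group]
    have hyP : y ^ p = 1 := by rw [hy, ← pow_mul, ← pow_succ, hσ]
    have hk : ∀ (i : ℕ) (a : G), (yq ^ i) (π a) = π ((y ^ i) a) := by
      intro i
      induction i with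
      | zero => intro a; rfl
      | succ i ih => intro a; rw [pow_succ', MulAut.mul_apply, ih, hyq, pow_succ' y, MulAut.mul_apply]
    have htp : t ^ p = 1 := by
      have h1 := hiter p
      rw [hk, hyP, MulAut.one_apply] at h1
      exact left_eq_mul.mp h1
    have ht1 : t = 1 := by
      by_contra h
      exact hpG ((orderOf_eq_prime htp h ▸ orderOf_dvd_natCard t).trans (card_quotient_dvd_card F))
    rw [← QuotientGroup.eq_one_iff]
    show π (g⁻¹ * y g) = 1
    rw [map_mul, map_inv, ← hyq, ← ht1, ht]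
  intro u hu
  rw [Cores.fittingSubgroup_eq_iSup] at hu
  induction hu using Subgroup.iSup_induction' with
  | h1 => exact map_one yq
  | hmul a b _ _ ha hb => rw [map_mul, ha, hb]
  | hp qq u hu =>
    set q := (qq : ℕ) with hqdef
    haveI hq : Fact q.Prime := ⟨Nat.prime_of_mem_primeFactors qq.2⟩
    have hqG : q ∣ Nat.card G := (Nat.dvd_of_mem_primeFactors qq.2).trans (card_quotient_dvd_card F)
    have hpq : p ≠ q := fun h => hpG (h ▸ hqG)
    set Oq := pCore q (G ⧸ F) with hOq
    haveI hOc : Oq.Characteristic := Cores.pCore_characteristic q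
    set M := Oq.comap π with hM
    haveI : Oq.Normal := inferInstance
    have hFM : F ≤ M := fun a ha => by
      rw [hM, mem_comap, hπ, QuotientGroup.mk'_apply, (QuotientGroup.eq_one_iff a).mpr ha]; exact one_mem _
    have hMσ : ∀ a ∈ M, σ a ∈ M := fun a ha => by
      let sq : MulAut (G ⧸ F) := QuotientGroup.congr F F σ
        (le_antisymm (by rintro _ ⟨a, ha, rfl⟩; exact map_char σ a ha)
          (fun a ha => ⟨σ.symm a, map_char σ.symm a ha, σ.apply_symm_apply a⟩))
      exact map_char (N := Oq) sq (π a) ha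
    -- the semidirect product
    let φ : zpowers σ →* MulAut G := (zpowers σ).subtype
    let Γ := G ⋊[φ] zpowers σ
    haveI : Finite Γ := Finite.of_equiv _ SemidirectProduct.equivProd.symm
    let ι : G →* Γ := SemidirectProduct.inl
    have hι : Function.Injective ι := SemidirectProduct.inl_injective
    let x : Γ := SemidirectProduct.inr ⟨σ, mem_zpowers σ⟩
    have hxι : ∀ a : G, x * ι a * x⁻¹ = ι (σ a) := fun a => by
      show SemidirectProduct.inr _ * _ * (SemidirectProduct.inr _)⁻¹ = _
      rw [← map_inv]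
      exact (SemidirectProduct.inl_aut (φ := φ) ⟨σ, mem_zpowers σ⟩ a).symm
    have hxk : ∀ (i : ℕ) (a : G), x ^ i * ι a * (x ^ i)⁻¹ = ι ((σ ^ i) a) := by
      intro i
      induction i with
      | zero => intro a; simp
      | succ i ih =>
        intro a
        rw [show x ^ (i + 1) * ι a * (x ^ (i + 1))⁻¹ = x * (x ^ i * ι a * (x ^ i)⁻¹) * x⁻¹ by
          rw [pow_succ']; group, ih, hxι, pow_succ', MulAut.mul_apply]
    have hxP : x ^ p ^ (n + 1) = 1 := by
      show (SemidirectProduct.inr _) ^ p ^ (n + 1) = 1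
      rw [← map_pow, show (⟨σ, mem_zpowers σ⟩ : zpowers σ) ^ p ^ (n + 1) = 1 from Subtype.ext hσ, map_one]
    -- an invariant Sylow subgroup
    have hAM : zpowers x ≤ normalizer ((M.map ι : Subgroup Γ) : Set Γ) := by
      rw [zpowers_le]
      refine mem_normalizer_fintype ?_
      rintro _ ⟨a, ha, rfl⟩
      exact ⟨σ a, hMσ a ha, (hxι a).symm⟩
    have hcop : (Nat.card (zpowers x)).Coprime (Nat.card (M.map ι : Subgroup Γ)) := by
      obtain ⟨k, -, hk⟩ := (Nat.dvd_prime_pow hp.out).mp (orderOf_dvd_of_pow_eq_one hxP)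
      rw [Nat.card_zpowers, hk, card_map_of_injective hι]
      exact ((hp.out.coprime_iff_not_dvd.mpr fun h => hpG (h.trans (card_subgroup_dvd_card M))).pow_left k)
    obtain ⟨S, hSA⟩ := Coprime.exists_invariant_sylow q hAM hcop
      (Or.inl (Coprime.isSolvable_of_isMulCommutative (zpowers x)))
    set Q := (S : Subgroup ↥(M.map ι)).map (M.map ι).subtype with hQ
    have hQM : Q ≤ M.map ι := map_subtype_le _
    have hQp : IsPGroup q Q := S.isPGroup'.map _
    set Qg := Q.comap ι with hQg
    have hQgM : Qg ≤ M := fun a ha => by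
      obtain ⟨b, hb, e⟩ := hQM ha
      rwa [← hι e]
    have hQgQ : Qg.map ι = Q := map_comap_eq_self (hQM.trans (map_le_range ι M))
    obtain ⟨v, hv, rfl⟩ : ∃ v ∈ Qg, π v = u := by
      have hsup : Qg ⊔ F = M := by
        refine le_antisymm (sup_le hQgM hFM) (relIndex_eq_one.mp ?_)
        have h1 : (Qg ⊔ F).relIndex M ∣ Qg.relIndex M := relIndex_dvd_of_le_left M le_sup_left
        have h2 : (Qg ⊔ F).relIndex M ∣ F.relIndex M := relIndex_dvd_of_le_left M le_sup_right
        have h3 : ¬ q ∣ Qg.relIndex M := by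
          have h4 : Qg.relIndex M = Q.relIndex (M.map ι) := by
            rw [← hQgQ, relIndex_map_map_of_injective _ _ hι]
          rw [h4, hQ, relIndex, subgroupOf, comap_map_eq_self_of_injective (M.map ι).subtype_injective]
          exact S.not_dvd_index
        obtain ⟨i, hi⟩ := (Cores.pCore_isPGroup (G := G ⧸ F) q).exists_card_eq
        have h5 : F.relIndex M = q ^ i := by
          have h6 := relIndex_ker π (K := M)
          rw [QuotientGroup.ker_mk', hM, map_comap_eq_self_of_surjective (QuotientGroup.mk'_surjective F)] at h6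
          exact h6.trans hi
        obtain ⟨j, -, hj⟩ := (Nat.dvd_prime_pow hq.out).mp (h5 ▸ h2)
        rcases Nat.eq_zero_or_pos j with rfl | hj0
        · simpa using hj
        · exact absurd ((dvd_pow_self q hj0.ne').trans (hj ▸ h1)) h3
      obtain ⟨a, rfl⟩ := QuotientGroup.mk'_surjective F u
      obtain ⟨v, hv, f, hf, e⟩ := mem_sup_of_normal_right.mp (hsup.ge hu : a ∈ Qg ⊔ F)
      refine ⟨v, hv, ?_⟩
      rw [← e, map_mul, show π f = 1 from (QuotientGroup.eq_one_iff f).mpr hf, mul_one]
    set h' := v⁻¹ * y v with hh'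
    suffices hF' : h' ∈ F by
      rw [hyq]
      exact ((QuotientGroup.eq (s := F)).mpr (by rw [← hh']; exact hF')).symm
    have hQgσ : ∀ a ∈ Qg, σ a ∈ Qg := fun a ha => by
      show ι (σ a) ∈ Q
      rw [← hxι]
      exact ((mem_normalizer_iff.mp (hSA (mem_zpowers x))) _).mp ha
    have hyQg : y v ∈ Qg := by
      have : ∀ i : ℕ, (σ ^ i) v ∈ Qg := by
        intro i
        induction i with
        | zero => simpa using hv
        | succ i ih => rw [pow_succ', MulAut.mul_apply]; exact hQgσ _ ih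
      exact this _
    have hh'Q : h' ∈ Qg := mul_mem (inv_mem hv) hyQg
    -- centralizing the `r`-parts of `F` for all `r ≠ q` suffices
    suffices hcen : ∀ r : ℕ, r.Prime → r ≠ q → h' ∈ centralizer (pCore r G : Set G) by
      set Fp := (pPrimeCore q ↥F).map F.subtype with hFp
      haveI : (pPrimeCore q ↥F).Characteristic := Cores.pPrimeCore_characteristic q
      haveI hFpn : Fp.Normal := by rw [hFp]; infer_instance
      have hFpF : Fp ≤ F := map_subtype_le _
      have hFpc : (Nat.card Fp).Coprime q := by rw [hFp, card_subtype]; exact Cores.pPrimeCore_card_coprime q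
      obtain ⟨i, hi⟩ : ∃ i, Fp.relIndex F = q ^ i := by
        refine ⟨_, Nat.eq_prime_pow_of_unique_prime_dvd ((Fp.subgroupOf F).index_ne_zero_of_finite) fun {s} hs hsd => ?_⟩
        by_contra hsq
        haveI := Fact.mk hs
        obtain ⟨Ss⟩ : Nonempty (Sylow s F) := inferInstance
        haveI : (Ss : Subgroup F).Normal :=
          (Group.isNilpotent_of_finite_tfae.out 0 3 rfl rfl).1 hFnil s inferInstance Ss
        have hle : (Ss : Subgroup F) ≤ pPrimeCore q ↥F := Cores.le_pPrimeCore (by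
          obtain ⟨n, hn⟩ := Ss.isPGroup'.exists_card_eq
          rw [hn]; exact ((Nat.coprime_primes hs Fact.out).mpr hsq).pow_left n)
        refine Ss.not_dvd_index (hsd.trans ?_)
        rw [relIndex, hFp, subgroupOf, comap_map_eq_self_of_injective F.subtype_injective]
        exact index_dvd_of_le hle
      obtain ⟨i', hi'⟩ := (Cores.pCore_isPGroup (G := G ⧸ F) q).exists_card_eq
      have hj : Fp.relIndex M = q ^ (i + i') := by
        have h6 := relIndex_ker π (K := M)
        rw [QuotientGroup.ker_mk', hM, map_comap_eq_self_of_surjective (QuotientGroup.mk'_surjective F)] at h6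
        rw [← relIndex_mul_relIndex Fp F M hFpF hFM, hi, h6, pow_add, hi']
      haveI hMn : M.Normal := Normal.comap inferInstance π
      set CM := M ⊓ centralizer (Fp : Set G) with hCM
      haveI hCMn : CM.Normal := inferInstance
      have hCMF : CM ≤ F := by
        refine Cores.le_fittingSubgroup ?_
        set E := Fp.subgroupOf CM with hE
        haveI : E.Normal := hFpn.subgroupOf CM
        have hEc : E ≤ center CM := fun z hz => mem_center_iff.mpr fun w =>
          Subtype.ext (mem_centralizer_iff.mp w.2.2 z hz).symm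
        have hQg' : IsPGroup q (CM ⧸ E) := by
          obtain ⟨j, -, hj'⟩ := (Nat.dvd_prime_pow hq.out).mp
            ((PLocal.PSolvable.relIndex_dvd_of_le_right (A := Fp) (inf_le_left : CM ≤ M)).trans (dvd_of_eq hj))
          exact IsPGroup.of_card (n := j) ((index_eq_card E).symm.trans hj')
        haveI := hQg'.isNilpotent
        exact Subgroup.isNilpotent_of_ker_le_center (QuotientGroup.mk' E) (by rw [QuotientGroup.ker_mk']; exact hEc)
      refine hCMF ⟨hQgM hh'Q, ?_⟩
      refine zpowers_le.mp (le_centralizer_iff.mp ?_)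
      refine CN.le_of_forall_isPGroup fun r hr w hw hwr => ?_
      haveI := Fact.mk hr
      by_cases hw1 : w = 1
      · exact hw1 ▸ one_mem _
      have hrq : r ≠ q := by
        rintro rfl
        obtain ⟨m, hm⟩ := hwr.exists_card_eq
        rw [Nat.card_zpowers] at hm
        have hd : orderOf w ∣ Nat.card Fp := Subgroup.orderOf_dvd_natCard Fp hw
        exact hw1 (orderOf_eq_one_iff.mp (Nat.eq_one_of_dvd_coprimes ((hFpc.pow_right m)) hd hm.dvd))
      have h1 : IsPGroup r ((zpowers w).subgroupOf F) := hwr.comap_subtype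
      obtain ⟨Sw, hSw⟩ := h1.exists_le_sylow
      have h2 : w ∈ pCore r G := by
        rw [← Cores.sylow_fitting_map Sw]
        exact ⟨⟨w, hFpF hw⟩, hSw (show (⟨w, hFpF hw⟩ : F) ∈ (zpowers w).subgroupOf F from mem_zpowers w), rfl⟩
      refine mem_centralizer_iff.mpr fun z hz => ?_
      obtain ⟨j, rfl⟩ := mem_zpowers_iff.mp hz
      exact ((show Commute w h' from mem_centralizer_iff.mp (hcen r hr hrq) w h2).zpow_right j).symm.eq
    intro r hr hrq
    haveI := Fact.mk hr
    by_cases hR1 : pCore r G = ⊥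
    · rw [hR1]; exact mem_centralizer_iff.mpr fun z hz => by rw [mem_bot.mp hz, one_mul, mul_one]
    have hrG : r ∣ Nat.card G := by
      obtain ⟨m, hm⟩ := (Cores.pCore_isPGroup (G := G) r).exists_card_eq
      rcases Nat.eq_zero_or_pos m with rfl | h
      · exact absurd (eq_bot_of_card_eq _ (by rw [hm, pow_zero])) hR1
      · exact (hm ▸ dvd_pow_self r h.ne').trans (card_subgroup_dvd_card _)
    haveI hRc : (pCore r G).Characteristic := Cores.pCore_characteristic r
    set R : Subgroup Γ := (pCore r G).map ι with hR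
    haveI hRn : R.Normal := by
      refine ⟨?_⟩
      rintro _ ⟨a, ha, rfl⟩ γ
      obtain ⟨b, hb⟩ : ∃ b ∈ pCore r G, ι b = γ * ι a * γ⁻¹ := by
        obtain ⟨m, hm⟩ := mem_zpowers_iff.mp γ.right.2
        refine ⟨γ.left * ((γ.right : MulAut G) a) * γ.left⁻¹,
          Normal.conj_mem inferInstance _ (map_char (γ.right : MulAut G) a ha) _, ?_⟩
        rw [map_mul, map_mul, map_inv]
        show SemidirectProduct.inl γ.left * SemidirectProduct.inl (φ γ.right a) * (SemidirectProduct.inl γ.left)⁻¹ =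
          γ * SemidirectProduct.inl a * γ⁻¹
        conv_rhs => rw [← SemidirectProduct.inl_left_mul_inr_right γ]
        rw [SemidirectProduct.inl_aut]
        simp only [map_inv, mul_inv_rev, mul_assoc]
      exact ⟨b, hb.1, hb.2⟩
    set Φ := frattini ↥R with hΦ
    let cq : Γ →* MulAut (↥R ⧸ Φ) :=
      MonoidHom.mk' (fun γ => QuotientGroup.congr Φ Φ (MulAut.conjNormal γ)
        (characteristic_iff_map_eq.mp inferInstance _)) fun a b => MulEquiv.ext fun z => by
        obtain ⟨z, rfl⟩ := QuotientGroup.mk'_surjective Φ z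
        show QuotientGroup.mk' Φ (MulAut.conjNormal (a * b) z) = QuotientGroup.mk' Φ (MulAut.conjNormal a (MulAut.conjNormal b z))
        rw [map_mul]; rfl
    have hRp : IsPGroup r R := (Cores.pCore_isPGroup r).map ι
    have hcm : ∀ a b : ↥R ⧸ Φ, a * b = b * a := fun a b => by
      obtain ⟨a, rfl⟩ := QuotientGroup.mk'_surjective Φ a
      obtain ⟨b, rfl⟩ := QuotientGroup.mk'_surjective Φ b
      rw [← map_mul, ← map_mul]
      refine QuotientGroup.eq.mpr ?_
      haveI := hRp.isNilpotent
      rw [show (a * b)⁻¹ * (b * a) = ⁅b⁻¹, a⁻¹⁆ by rw [commutatorElement_def]; group]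
      exact Coprime.commutator_le_frattini R (commutator_mem_commutator (mem_top b⁻¹) (mem_top a⁻¹))
    letI : CommGroup (↥R ⧸ Φ) := { (inferInstance : Group (↥R ⧸ Φ)) with mul_comm := hcm }
    have hexp : ∀ a : ↥R ⧸ Φ, a ^ r = 1 := fun a => by
      obtain ⟨a, rfl⟩ := QuotientGroup.mk'_surjective Φ a
      rw [← map_pow]
      exact (QuotientGroup.eq_one_iff _).mpr (Solvable.Basics.pow_mem_frattini hRp a)
    have hfixA : ∀ a : ↥R ⧸ Φ, cq x a = a → a = 1 := fun a ha => by
      obtain ⟨a, rfl⟩ := QuotientGroup.mk'_surjective Φ a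
      have hfp : ∀ a : R, MulAut.conjNormal x a = a → a = 1 := fun a e => by
        obtain ⟨b, hb, hbe⟩ := a.2
        have e' : x * (a : Γ) * x⁻¹ = a := by rw [← MulAut.conjNormal_apply, e]
        rw [← hbe, hxι] at e'
        refine Subtype.ext ?_
        rw [← hbe, hfpf b (hι e'), map_one, coe_one]
      exact (QuotientGroup.eq_one_iff a).mpr (fix_quotient (MulAut.conjNormal (H := R) x) hfp Φ (map_char _) (g := a)
        (QuotientGroup.eq.mp ha.symm))
    have hQfix : ∀ b ∈ Q, x * b * x⁻¹ = b → b = 1 := fun b hb e => by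
      obtain ⟨a, -, rfl⟩ := hQgQ.ge hb
      rw [hxι] at e
      rw [hfpf a (hι e), map_one]
    have hc := commute_of_fpf (p := p) (q := q) (r := r) hp2 hpq (fun h => hpG (h ▸ hrG)) (Ne.symm hrq) hexp cq Q x
      (Nat.le_add_left 1 n) hQp hxP (fun b hb => (mem_normalizer_iff.mp (hSA (mem_zpowers x)) b).mp hb)
      hQfix hfixA (ι v) hv
    rw [Nat.add_sub_cancel] at hc
    have h1' : cq (ι h') = 1 := by
      rw [hh', map_mul ι, ← hxk, map_mul, map_mul, map_mul, hc, mul_assoc (cq (ι v)), ← map_mul cq (x ^ _),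
        mul_inv_cancel, map_one, mul_one, ← map_mul, ← map_mul ι, inv_mul_cancel, map_one, map_one]
    have hrcop : (Nat.card (zpowers (ι h'))).Coprime (Nat.card Φ) := by
      obtain ⟨m, hm⟩ := (hQp.to_le (zpowers_le.mpr (show ι h' ∈ Q from hh'Q))).exists_card_eq
      obtain ⟨m', hm'⟩ := (hRp.to_subgroup Φ).exists_card_eq
      rw [hm, hm']
      exact ((Nat.coprime_primes hq.out hr).mpr (Ne.symm hrq)).pow _ _
    have hcent := Coprime.le_centralizer_of_frattini (A := zpowers (ι h')) (K := R) le_normalizer_of_normal hrcop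
      (fun a ha k hk => by
        obtain ⟨j, rfl⟩ := mem_zpowers_iff.mp ha
        have h2 : cq (ι h' ^ j) (QuotientGroup.mk' Φ ⟨k, hk⟩) = QuotientGroup.mk' Φ ⟨k, hk⟩ := by
          rw [map_zpow, h1', one_zpow]; rfl
        have h3 := QuotientGroup.eq.mp h2.symm
        refine ⟨(⟨ι h' ^ j * k * (ι h' ^ j)⁻¹, hRn.conj_mem k hk _⟩ : R) * ⟨k, hk⟩⁻¹, ?_, rfl⟩
        have hnorm : Φ.Normal := inferInstance
        have h4 := hnorm.conj_mem _ h3 ⟨k, hk⟩
        rwa [mul_inv_cancel_left] at h4)
    refine mem_centralizer_iff.mpr fun z hz => hι ?_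
    have := mem_centralizer_iff.mp (hcent (mem_zpowers (ι h'))) (ι z) (mem_map_of_mem ι hz)
    rw [map_mul, map_mul]
    exact this

end Cfsg.Agent.GenA.ShultGross
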