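import Mathlib

/-! The arithmetic of the exceptional case, and free actions of cyclic groups. -/

set_option autoImplicit false

namespace Cfsg.Agent.GenA.ShultGross

theorem dvd_exponent {p a k r D : ℕ} [hp : Fact p.Prime] (hp2 : p ≠ 2) (ha : 1 ≤ a) (hr : 1 ≤ r)
    (hP : p ^ a = 2 ^ r + 1) (hD : p ^ (a + k) ∣ 2 ^ D - 1) (hD0 : D ≠ 0) : 2 * r * p ^ k ∣ D := by
  set P := p ^ a with hPdef
  have hodd : Odd p := hp.out.odd_of_ne_two hp2
  have h1 : (2 : ZMod P) ^ r = -1 := by
    have h : ((2 ^ r + 1 : ℕ) : ZMod P) = 0 := (ZMod.natCast_eq_zero_iff _ _).mpr (hP ▸ dvd_rfl)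
    push_cast at h
    exact eq_neg_of_add_eq_zero_left h
  have h2 : (2 : ZMod P) ^ D = 1 := by
    have h : ((2 ^ D - 1 : ℕ) : ZMod P) = 0 :=
      (ZMod.natCast_eq_zero_iff _ _).mpr (dvd_trans (pow_dvd_pow p (Nat.le_add_right a k)) hD)
    rw [Nat.cast_sub (Nat.one_le_two_pow), sub_eq_zero] at h
    simpa using h
  obtain ⟨j, rfl⟩ : 2 * r ∣ D := by
    refine Nat.dvd_of_mod_eq_zero ?_
    set e := D % (2 * r) with he
    have he2 : (2 : ZMod P) ^ e = 1 := by
      rw [← h2, ← Nat.mod_add_div D (2 * r), ← he, pow_add, pow_mul, mul_comm 2 r, pow_mul, h1, neg_one_sq,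
        one_pow, mul_one]
    have helt : e < 2 * r := Nat.mod_lt _ (by omega)
    rcases Nat.lt_or_ge e r with hlt | hge
    · have h : ((2 ^ e - 1 : ℕ) : ZMod P) = 0 := by
        rw [Nat.cast_sub Nat.one_le_two_pow]; simp [he2]
      have hd := (ZMod.natCast_eq_zero_iff _ _).mp h
      have : 2 ^ e < 2 ^ r := Nat.pow_lt_pow_right (by norm_num) hlt
      have := Nat.one_le_two_pow (n := e)
      have h0 : 2 ^ e - 1 = 0 := Nat.eq_zero_of_dvd_of_lt hd (by omega)
      rcases Nat.eq_zero_or_pos e with h | h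
      · exact h
      · have : 2 ≤ 2 ^ e := by simpa using Nat.pow_le_pow_right (show 1 ≤ 2 by norm_num) h
        omega
    · exfalso
      have h : ((2 ^ (e - r) + 1 : ℕ) : ZMod P) = 0 := by
        have : (2 : ZMod P) ^ e = -(2 : ZMod P) ^ (e - r) := by
          conv_lhs => rw [show e = r + (e - r) by omega, pow_add, h1, neg_one_mul]
        rw [this] at he2
        push_cast
        rw [← he2, add_neg_cancel]
      have hd := (ZMod.natCast_eq_zero_iff _ _).mp h
      have : 2 ^ (e - r) < 2 ^ r := Nat.pow_lt_pow_right (by norm_num) (by omega)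
      have := Nat.one_le_two_pow (n := e - r)
      have := Nat.le_of_dvd (by omega) hd
      omega
  refine mul_dvd_mul_left _ ?_
  have hj : j ≠ 0 := fun h => hD0 (by rw [h, mul_zero])
  have hx : 2 ^ (2 * r) - 1 = (2 ^ r - 1) * P := by
    rw [hP, mul_comm (2 ^ r - 1), ← Nat.sq_sub_sq, ← pow_mul, one_pow, mul_comm r]
  have hnd : ¬ p ∣ 2 ^ r - 1 := fun h => by
    have h3 : p ∣ P := dvd_pow_self p (by omega)
    have h4 : p ∣ 2 := by
      have := Nat.dvd_sub h3 h
      rwa [hP, show 2 ^ r + 1 - (2 ^ r - 1) = 2 by have := Nat.one_le_two_pow (n := r); omega] at this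
    exact hp2 ((Nat.prime_dvd_prime_iff_eq hp.out Nat.prime_two).mp h4)
  have hv := padicValNat.pow_sub_pow (p := p) hodd (x := 2 ^ (2 * r)) (y := 1)
    (Nat.one_lt_two_pow (by omega)) (by rw [hx]; exact Dvd.dvd.mul_left (dvd_pow_self p (by omega)) _)
    (fun h => hp2 ((Nat.prime_dvd_prime_iff_eq hp.out Nat.prime_two).mp (hp.out.dvd_of_dvd_pow h)))
    hj
  rw [one_pow, ← pow_mul] at hv
  have hne : 2 ^ (2 * r * j) - 1 ≠ 0 := by
    have := Nat.one_lt_two_pow (show 2 * r * j ≠ 0 by positivity)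
    omega
  have h5 := (padicValNat_dvd_iff_le hne).mp hD
  have hPv : padicValNat p P = a := by rw [hPdef, padicValNat.prime_pow]
  rw [hv, hx, padicValNat.mul (by have := Nat.one_lt_two_pow (show r ≠ 0 by omega); omega)
    (pow_ne_zero a hp.out.ne_zero),
    padicValNat.eq_zero_of_not_dvd hnd, hPv] at h5
  exact (padicValNat_dvd_iff_le hj).mpr (by omega)

/-- A cyclic group acting freely on the non-identity elements. -/
theorem dvd_card_sub_one {M : Type*} [Group M] [Finite M] (φ : MulAut M) {N : ℕ} (hN : φ ^ N = 1)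
    (hN0 : N ≠ 0) (hfree : ∀ (k : ℕ) (u : M), u ≠ 1 → (φ ^ k) u = u → N ∣ k) : N ∣ Nat.card M - 1 := by
  classical
  rcases subsingleton_or_nontrivial M with h | h
  · simp
  obtain ⟨u₁, hu₁⟩ := exists_ne (1 : M)
  have hord : orderOf φ = N := Nat.dvd_antisymm (orderOf_dvd_of_pow_eq_one hN)
    (hfree _ u₁ hu₁ (by rw [pow_orderOf_eq_one]; rfl))
  haveI : Finite (MulAut M) := inferInstance
  let act : MulAction (Subgroup.zpowers φ) {u : M // u ≠ 1} :=
    { smul := fun g u => ⟨(g : MulAut M) u.1, fun h => u.2 ((g : MulAut M).injective (h.trans (map_one _).symm))⟩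
      one_smul := fun u => Subtype.ext rfl
      mul_smul := fun g g' u => Subtype.ext rfl }
  have hstab : ∀ u : {u : M // u ≠ 1}, MulAction.stabilizer (Subgroup.zpowers φ) u = ⊥ := by
    intro u
    refine eq_bot_iff.mpr fun g hg => ?_
    obtain ⟨k, hk⟩ := (mem_powers_iff_mem_zpowers.mpr g.2)
    have hg' : (g : MulAut M) u.1 = u.1 := congrArg Subtype.val (MulAction.mem_stabilizer_iff.mp hg)
    simp only at hk
    rw [← hk] at hg'
    obtain ⟨c, rfl⟩ := hfree k u.1 u.2 hg'
    exact Subgroup.mem_bot.mpr (Subtype.ext (by rw [← hk, pow_mul, hN, one_pow]; rfl))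
  have e := Nat.card_congr (MulAction.selfEquivOrbitsQuotientProd hstab)
  rw [Nat.card_prod, Nat.card_zpowers, hord] at e
  haveI := Fintype.ofFinite M
  rw [Nat.card_eq_fintype_card, Fintype.card_subtype_compl, Fintype.card_subtype_eq,
    ← Nat.card_eq_fintype_card] at e
  exact ⟨_, e.trans (mul_comm _ _)⟩

end Cfsg.Agent.GenA.ShultGross
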