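import Cfsg.Agent.GenA.ShultGross.Scalar

/-!
An eigenspace of the central elements, with the stabilizer of its system of eigenvalues.
-/

set_option autoImplicit false

namespace Cfsg.Agent.GenA.ShultGross

open Module (End finrank)

variable {K : Type*} [Field K] [IsAlgClosed K] {W : Type*} [AddCommGroup W] [Module K W]
  [FiniteDimensional K W] {H : Type*} [Group H] [Finite H]

/-- The elements whose image commutes with every image. -/
def IsCentralImage (τ : H →* End K W) (h : H) : Prop := ∀ g, Commute (τ h) (τ g)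

theorem exists_eigen_stab (τ : H →* End K W) (β : MulAut H) (B : End K W)
    (hβ : ∀ h, B * τ h = τ (β h) * B) {p : ℕ} (hp : p.Prime) (e : ℕ) (hB : B ^ p ^ e = 1) [Nontrivial W] :
    ∃ j ≤ e, ∃ W' : Submodule K W, W' ≠ ⊥ ∧ (∀ h, ∀ w ∈ W', τ h w ∈ W') ∧
      (∀ w ∈ W', (B ^ p ^ j) w ∈ W') ∧
      (∀ h, IsCentralImage τ h → ∃ c : K, ∀ w ∈ W', τ h w = c • w) ∧
      ∀ w ∈ W', w ≠ 0 → ∑ l ∈ Finset.range (p ^ j), (B ^ l) w ≠ 0 := by
  classical
  set P := p ^ e with hP
  have hP0 : 0 < P := pow_pos hp.pos e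
  set Bi := B ^ (P - 1) with hBi
  have hBBi : B * Bi = 1 := by rw [hBi, ← pow_succ', Nat.sub_add_cancel hP0, hB]
  have hBiB : Bi * B = 1 := by rw [hBi, ← pow_succ, Nat.sub_add_cancel hP0, hB]
  have hβk : ∀ (k : ℕ) h, B ^ k * τ h = τ ((β ^ k) h) * B ^ k := by
    intro k
    induction k with
    | zero => intro h; simp
    | succ k ih =>
      intro h
      rw [pow_succ, mul_assoc, hβ, ← mul_assoc, ih, mul_assoc, ← pow_succ, pow_succ β, MulAut.mul_apply]
  have hBinj : ∀ k : ℕ, Function.Injective ((B ^ k : End K W) : W → W) := by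
    intro k
    have h1 : Function.Injective B := Function.LeftInverse.injective (g := Bi) fun w => by
      rw [← Module.End.mul_apply, hBiB, Module.End.one_apply]
    rw [Module.End.coe_pow]
    exact h1.iterate k
  have hcen : ∀ (k : ℕ) h, IsCentralImage τ ((β ^ k) h) → IsCentralImage τ h := by
    intro k h hh g
    refine LinearMap.ext fun w => hBinj k ?_
    rw [← Module.End.mul_apply, ← Module.End.mul_apply]
    refine LinearMap.congr_fun ?_ w
    rw [← mul_assoc, hβk, mul_assoc, hβk, ← mul_assoc, (hh ((β ^ k) g)).eq, mul_assoc, ← hβk, ← mul_assoc,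
      ← hβk, mul_assoc]
  -- a system of eigenvalues
  obtain ⟨U, ⟨hU0, hUH⟩, hUmin⟩ := (wellFounded_lt (α := Submodule K W)).has_min
    {U : Submodule K W | U ≠ ⊥ ∧ ∀ g : H, ∀ w ∈ U, τ g w ∈ U}
    ⟨⊤, top_ne_bot, fun _ _ _ => Submodule.mem_top⟩
  haveI : Nontrivial U := Submodule.nontrivial_iff_ne_bot.mpr hU0
  have hscalU : ∀ s : {h : H // IsCentralImage τ h}, ∃ c : K, ∀ w ∈ U, τ s.1 w = c • w := by
    intro s
    obtain ⟨c, hc⟩ := Module.End.exists_eigenvalue ((τ s.1).restrict (hUH s.1))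
    refine ⟨c, ?_⟩
    set X := U ⊓ (τ s.1).eigenspace c with hX
    have hX0 : X ≠ ⊥ := by
      obtain ⟨v, hv, hv0⟩ := hc.exists_hasEigenvector
      refine (Submodule.ne_bot_iff _).mpr ⟨v.1, ⟨v.2, ?_⟩, fun h => hv0 (Subtype.ext h)⟩
      rw [SetLike.mem_coe, Module.End.mem_eigenspace_iff]
      exact congrArg Subtype.val (Module.End.mem_eigenspace_iff.mp hv)
    have hXH : ∀ g : H, ∀ w ∈ X, τ g w ∈ X := by
      rintro g w ⟨hwU, hw⟩
      refine ⟨hUH g w hwU, ?_⟩
      rw [SetLike.mem_coe, Module.End.mem_eigenspace_iff] at hw ⊢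
      rw [← Module.End.mul_apply, (s.2 g).eq, Module.End.mul_apply, hw, map_smul]
    have := eq_of_le_of_not_lt (inf_le_left : X ≤ U) (hUmin X ⟨hX0, hXH⟩)
    intro w hw
    exact Module.End.mem_eigenspace_iff.mp ((this.ge hw : w ∈ X).2)
  choose χ hχ using hscalU
  set W' : Submodule K W := ⨅ s : {h : H // IsCentralImage τ h}, (τ s.1).eigenspace (χ s) with hW'
  have hmem : ∀ {w}, w ∈ W' ↔ ∀ s : {h : H // IsCentralImage τ h}, τ s.1 w = χ s • w := fun {w} => by
    simp [hW', Submodule.mem_iInf, Module.End.mem_eigenspace_iff]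
  have hW'0 : W' ≠ ⊥ := fun h => hU0 (le_bot_iff.mp (h ▸ fun w hw => hmem.mpr fun s => hχ s w hw))
  have hW'H : ∀ h, ∀ w ∈ W', τ h w ∈ W' := fun h w hw => hmem.mpr fun s => by
    rw [← Module.End.mul_apply, (s.2 h).eq, Module.End.mul_apply, hmem.mp hw s, map_smul]
  -- its stabilizer
  set T := {l : ℕ | 0 < l ∧ ∀ w ∈ W', (B ^ l) w ∈ W'} with hT
  have hPT : P ∈ T := ⟨hP0, fun w hw => by rw [hB]; exact hw⟩
  set L := Nat.find (⟨P, hPT⟩ : ∃ l, l ∈ T) with hL
  obtain ⟨hL0, hLW⟩ : L ∈ T := Nat.find_spec (⟨P, hPT⟩ : ∃ l, l ∈ T)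
  have hLmul : ∀ m, ∀ w ∈ W', (B ^ (L * m)) w ∈ W' := by
    intro m
    induction m with
    | zero => intro w hw; simpa using hw
    | succ m ih => intro w hw; rw [Nat.mul_succ, pow_add, Module.End.mul_apply]; exact ih _ (hLW w hw)
  have hLdvd : L ∣ P := by
    by_contra hnd
    have hr : 0 < P % L := Nat.pos_of_ne_zero fun h => hnd (Nat.dvd_of_mod_eq_zero h)
    refine Nat.find_min (⟨P, hPT⟩ : ∃ l, l ∈ T) (Nat.mod_lt P hL0) ⟨hr, fun w hw => ?_⟩
    obtain ⟨⟨w', hw'⟩, he⟩ := LinearMap.surjective_of_injective (K := K)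
      (f := (B ^ (L * (P / L))).restrict (hLmul _))
      (fun a b h => Subtype.ext (hBinj _ (congrArg Subtype.val h))) ⟨w, hw⟩
    have he' : (B ^ (L * (P / L))) w' = w := congrArg Subtype.val he
    rw [← he', ← Module.End.mul_apply, ← pow_add, Nat.mod_add_div, hB]
    exact hw'
  obtain ⟨j, hj, hLj⟩ := (Nat.dvd_prime_pow hp).mp hLdvd
  refine ⟨j, hj, W', hW'0, hW'H, hLj ▸ hLW, fun h hh => ⟨χ ⟨h, hh⟩, fun w hw => hmem.mp hw ⟨h, hh⟩⟩, ?_⟩
  intro w hw hw0 hsum
  rw [← hLj] at hsum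
  have hc : ∀ (l : ℕ) (s : {h : H // IsCentralImage τ h}), IsCentralImage τ ((β ^ l).symm s.1) := fun l s =>
    hcen l _ (by rw [MulEquiv.apply_symm_apply]; exact s.2)
  let c : ℕ → {h : H // IsCentralImage τ h} → K := fun l s => χ ⟨_, hc l s⟩
  have hv : ∀ l, ∀ v ∈ W', ∀ s : {h : H // IsCentralImage τ h}, τ s.1 ((B ^ l) v) = c l s • (B ^ l) v := by
    intro l v hv s
    rw [← Module.End.mul_apply, ← (β ^ l).apply_symm_apply s.1, ← hβk, Module.End.mul_apply,
      hmem.mp hv ⟨_, hc l s⟩, map_smul]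
  have hd : ∀ a b : ℕ, a < b → b < L → c a ≠ c b := by
    intro a b hab hb e
    refine Nat.find_min (⟨P, hPT⟩ : ∃ l, l ∈ T) (show b - a < L by omega) ⟨by omega, fun v hvW => hmem.mpr fun s => ?_⟩
    rw [hv _ v hvW s]
    congr 1
    have hta : IsCentralImage τ ((β ^ a) s.1) := fun g => by
      obtain ⟨g', rfl⟩ := (β ^ a).surjective g
      refine LinearMap.ext fun u => ?_
      obtain ⟨u', rfl⟩ := LinearMap.surjective_of_injective (hBinj a) u
      rw [← Module.End.mul_apply, ← Module.End.mul_apply]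
      refine LinearMap.congr_fun ?_ u'
      rw [mul_assoc, ← hβk, ← mul_assoc, ← hβk, mul_assoc, (s.2 g').eq, ← mul_assoc, hβk, mul_assoc, hβk, mul_assoc]
    have h1 := congrFun e ⟨(β ^ a) s.1, hta⟩
    have e1 : ((β ^ a).symm ((β ^ a) s.1)) = s.1 := MulEquiv.symm_apply_apply _ _
    have e2 : ((β ^ b).symm ((β ^ a) s.1)) = (β ^ (b - a)).symm s.1 := by
      refine (β ^ b).injective ?_
      rw [MulEquiv.apply_symm_apply]
      conv_rhs => rw [show b = a + (b - a) by omega, pow_add, MulAut.mul_apply,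
        show a + (b - a) - a = b - a by omega, MulEquiv.apply_symm_apply]
    simp only [c, e1, e2] at h1
    exact h1.symm
  have := eigen_indep (fun s : {h : H // IsCentralImage τ h} => τ s.1) c (Finset.range L)
    (fun l => (B ^ l) w) (fun l _ s => hv l w hw s) (fun a ha b hb e => by
      rcases Nat.lt_trichotomy a b with h | h | h
      · exact absurd e (hd a b h (Finset.mem_range.mp hb))
      · exact h
      · exact absurd e.symm (hd b a h (Finset.mem_range.mp ha))) hsum 0 (Finset.mem_range.mpr hL0)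
  exact hw0 (by simpa using this)

end Cfsg.Agent.GenA.ShultGross
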