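import Mathlib

/-!
An operator of order dividing `P` whose conjugation permutes a basis of the endomorphisms, fixing one
vector and moving the others in regular orbits, has every `P`-th root of unity as eigenvalue, unless
the dimension is `P - 1`.
-/

set_option autoImplicit false

namespace Cfsg.Agent.GenA.ShultGross

open Module (End finrank)

variable {K : Type*} [Field K] {P : ℕ} [NeZero P]

/-- The character `a ↦ ζ ^ a` of `ZMod P`. -/
def chi (ζ : K) (a : ZMod P) : K := ζ ^ a.val

theorem pow_val_add {M : Type*} [Monoid M] {x : M} (hx : x ^ P = 1) (a b : ZMod P) :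
    x ^ (a + b).val = x ^ a.val * x ^ b.val := by
  rw [← pow_add, ZMod.val_add]
  exact (pow_eq_pow_mod _ hx).symm

variable {ζ : K}

theorem chi_add (hζ : IsPrimitiveRoot ζ P) (a b : ZMod P) : chi ζ (a + b) = chi ζ a * chi ζ b :=
  pow_val_add hζ.pow_eq_one a b

theorem chi_zero : chi ζ (0 : ZMod P) = 1 := by simp [chi]

theorem sum_chi_mul (hζ : IsPrimitiveRoot ζ P) (a : ZMod P) :
    ∑ i : ZMod P, chi ζ (a * i) = if a = 0 then (P : K) else 0 := by
  classical
  split_ifs with h
  · subst h; simp [chi_zero]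
  have h1 : chi ζ a ≠ 1 := by
    intro hc
    refine h ((ZMod.val_eq_zero a).mp ?_)
    by_contra h0
    exact hζ.pow_ne_one_of_pos_of_lt h0 (ZMod.val_lt a) hc
  have h2 : (∑ i : ZMod P, chi ζ (a * i)) = chi ζ a * ∑ i : ZMod P, chi ζ (a * i) := by
    rw [Finset.mul_sum]
    refine (Fintype.sum_equiv (Equiv.addRight 1) _ _ fun i => ?_).symm
    show chi ζ a * chi ζ (a * i) = chi ζ (a * (i + 1))
    rw [← chi_add hζ, mul_add, mul_one, add_comm]
  by_contra hne
  exact h1 (mul_right_cancel₀ hne (by rw [one_mul]; exact h2.symm))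

variable {W : Type*} [AddCommGroup W] [Module K W]

/-- The projection to the `ζ ^ j` eigenspace. -/
noncomputable def proj (ζ : K) (L : End K W) (j : ZMod P) : End K W :=
  (P : K)⁻¹ • ∑ i : ZMod P, chi ζ (-(j * i)) • L ^ i.val

theorem sum_proj (hζ : IsPrimitiveRoot ζ P) (hP : (P : K) ≠ 0) (L : End K W) :
    ∑ j : ZMod P, proj ζ L j = 1 := by
  classical
  unfold proj
  rw [← Finset.smul_sum, Finset.sum_comm]
  have : ∀ i : ZMod P, ∑ j : ZMod P, chi ζ (-(j * i)) • L ^ i.val =
      if i = 0 then (P : K) • (1 : End K W) else 0 := fun i => by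
    rw [← Finset.sum_smul, Finset.sum_congr rfl (fun j _ => by rw [show -(j * i) = -i * j by ring]),
      sum_chi_mul hζ]
    split_ifs with h1 h2 h2
    · subst h2; simp
    · exact absurd (neg_eq_zero.mp h1) h2
    · exact absurd (neg_eq_zero.mpr h2) h1
    · simp
  rw [Finset.sum_congr rfl (fun i _ => this i), Finset.sum_ite_eq' Finset.univ (0 : ZMod P),
    if_pos (Finset.mem_univ _), smul_smul, inv_mul_cancel₀ hP, one_smul]

theorem mul_proj (hζ : IsPrimitiveRoot ζ P) {L : End K W} (hL : L ^ P = 1) (j : ZMod P) :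
    L * proj ζ L j = chi ζ j • proj ζ L j := by
  classical
  unfold proj
  rw [mul_smul_comm, Finset.mul_sum, smul_comm]
  congr 1
  rw [Finset.smul_sum]
  refine Fintype.sum_equiv (Equiv.addRight 1) _ _ fun i => ?_
  show L * (chi ζ (-(j * i)) • L ^ i.val) = chi ζ j • chi ζ (-(j * (i + 1))) • L ^ (i + 1).val
  rw [mul_smul_comm, smul_smul, ← chi_add hζ, pow_val_add hL]
  congr 1
  · congr 1; ring
  · rcases eq_or_ne P 1 with rfl | h1
    · have : L = 1 := by rwa [pow_one] at hL
      simp [this]
    · have : Fact (1 < P) := ⟨by have := NeZero.ne P; omega⟩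
      rw [ZMod.val_one, pow_one, ← pow_succ, ← pow_succ']

theorem apply_proj (hζ : IsPrimitiveRoot ζ P) {L : End K W} (hL : L ^ P = 1) (j : ZMod P) (w : W) :
    L (proj ζ L j w) = chi ζ j • proj ζ L j w := by
  rw [← Module.End.mul_apply, mul_proj hζ hL, LinearMap.smul_apply]

theorem proj_eigen (hζ : IsPrimitiveRoot ζ P) (hP : (P : K) ≠ 0) {L : End K W} {a : ZMod P} {w : W}
    (hw : L w = chi ζ a • w) (j : ZMod P) : proj ζ L j w = if j = a then w else 0 := by
  classical
  have hpow : ∀ k : ℕ, (L ^ k) w = chi ζ a ^ k • w := by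
    intro k
    induction k with
    | zero => simp
    | succ k ih => rw [pow_succ', Module.End.mul_apply, ih, map_smul, hw, smul_smul, pow_succ]
  unfold proj
  rw [LinearMap.smul_apply, LinearMap.sum_apply]
  have hk : ∀ k : ℕ, chi ζ a ^ k = chi ζ (a * (k : ZMod P)) := by
    intro k
    induction k with
    | zero => simp [chi_zero]
    | succ k ih => rw [pow_succ, ih, ← chi_add hζ, Nat.cast_succ, mul_add, mul_one]
  rw [Finset.sum_congr rfl (fun i _ => by
    rw [LinearMap.smul_apply, hpow, smul_smul, hk, ZMod.natCast_zmod_val, ← chi_add hζ,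
      show -(j * i) + a * i = (a - j) * i by ring]), ← Finset.sum_smul, sum_chi_mul hζ]
  split_ifs with h1 h2 h2
  · rw [smul_smul, inv_mul_cancel₀ hP, one_smul]
  · exact absurd (sub_eq_zero.mp h1).symm h2
  · exact absurd (by rw [h2, sub_self]) h1
  · simp

theorem sum_two_values {a : ZMod P → ℕ} {M : ℕ} {d : ZMod P} (h0 : ∑ j, a j * a j = M + 1)
    (hd : ∑ j, a j * a (j + d) = M) : ∑ j, ((a j : ℤ) - a (j + d)) ^ 2 = 2 := by
  have h0' : (∑ j, (a j : ℤ) * a j) = M + 1 := by exact_mod_cast h0
  have hd' : (∑ j, (a j : ℤ) * a (j + d)) = M := by exact_mod_cast hd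
  have h1 : (∑ j, (a (j + d) : ℤ) * a (j + d)) = M + 1 := by
    rw [← h0']; exact Fintype.sum_equiv (Equiv.addRight d) _ _ fun j => rfl
  have e : ∀ j, ((a j : ℤ) - a (j + d)) ^ 2 =
      (a j : ℤ) * a j + (a (j + d) : ℤ) * a (j + d) - 2 * ((a j : ℤ) * a (j + d)) := fun j => by ring
  rw [Finset.sum_congr rfl (fun j _ => e j), Finset.sum_sub_distrib, Finset.sum_add_distrib,
    ← Finset.mul_sum, h0', h1, hd']
  ring

variable {U : Type*} [AddCommGroup U] [Module K U] [FiniteDimensional K U]

theorem exists_all_eigen {ι : Type*} [Fintype ι] [DecidableEq ι] (hP3 : 2 ≤ P)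
    (hζ : IsPrimitiveRoot ζ P) (hP : (P : K) ≠ 0) {T : End K U} (hT : T ^ P = 1) {e : ι → End K U}
    (hli : LinearIndependent K e) (hcard : Fintype.card ι = finrank K U * finrank K U)
    (hone : 1 < finrank K U) (π : Equiv.Perm ι) (i₀ : ι) (hi₀ : e i₀ = 1) (hπP : π ^ P = 1)
    (hfree : ∀ i, i ≠ i₀ → ∀ k : ℕ, (π ^ k) i = i → P ∣ k) (hfix : π i₀ = i₀) (s : ι → K)
    (hs : ∀ i, T * e i = s i • (e (π i) * T)) :
    (∀ j : ZMod P, proj ζ T j ≠ 0) ∨ finrank K U + 1 = P := by
  classical
  set Ti := T ^ (P - 1) with hTi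
  have hTTi : T * Ti = 1 := by rw [hTi, ← pow_succ', Nat.sub_add_cancel (by omega), hT]
  -- conjugation by `T`
  let θ : End K (End K U) :=
    { toFun := fun f => T * f * Ti
      map_add' := fun f g => by rw [mul_add, add_mul]
      map_smul' := fun c f => by simp }
  have hθpow : ∀ (k : ℕ) f, (θ ^ k) f = T ^ k * f * Ti ^ k := by
    intro k f
    induction k with
    | zero => simp
    | succ k ih =>
      rw [pow_succ', Module.End.mul_apply, ih, pow_succ' T k, pow_succ Ti k]
      show T * (T ^ k * f * Ti ^ k) * Ti = T * T ^ k * f * (Ti ^ k * Ti)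
      simp only [mul_assoc]
  have hθP : θ ^ P = 1 := LinearMap.ext fun f => by
    rw [hθpow, hT, hTi, ← pow_mul, mul_comm (P - 1), pow_mul, hT, one_pow, one_mul, mul_one,
      Module.End.one_apply]
  have hθe : ∀ i, θ (e i) = s i • e (π i) := fun i => by
    show T * e i * Ti = _
    rw [hs, smul_mul_assoc, mul_assoc, hTTi, mul_one]
  have hs0 : ∀ i, s i ≠ 0 := fun i h => by
    have hz := hθe i
    rw [h, zero_smul] at hz
    have h1 : θ ^ P = θ ^ (P - 1) * θ := by rw [← pow_succ, Nat.sub_add_cancel (by omega)]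
    have h2 : e i = 0 := by
      have := LinearMap.congr_fun (hθP ▸ h1) (e i)
      rw [Module.End.one_apply, Module.End.mul_apply, hz, map_zero] at this
      exact this
    exact hli.ne_zero i h2
  -- representatives of the free orbits
  set eq' := Fintype.equivFin ι with heq
  set orb : ι → Finset (Fin (Fintype.card ι)) :=
    fun i => Finset.univ.image fun k : ZMod P => eq' ((π ^ k.val) i) with horb
  have hperiod : ∀ a b : ZMod P, ∀ i, (π ^ (a + b).val) i = (π ^ a.val) ((π ^ b.val) i) :=
    fun a b i => by rw [pow_val_add hπP, Equiv.Perm.mul_apply]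
  have hshift : ∀ (a : ZMod P) i, orb ((π ^ a.val) i) = orb i := by
    intro a i
    ext x
    simp only [horb, Finset.mem_image, Finset.mem_univ, true_and]
    constructor
    · rintro ⟨k, rfl⟩; exact ⟨k + a, by rw [hperiod]⟩
    · rintro ⟨k, rfl⟩; exact ⟨k - a, by rw [← hperiod, sub_add_cancel]⟩
  have hne : ∀ i, (orb i).Nonempty := fun i => Finset.image_nonempty.mpr Finset.univ_nonempty
  set R := {i : ι // i ≠ i₀ ∧ eq' i = (orb i).min' (hne i)} with hR
  have hfixk : ∀ k : ℕ, (π ^ k) i₀ = i₀ := by
    intro k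
    induction k with
    | zero => rfl
    | succ k ih => rw [pow_succ', Equiv.Perm.mul_apply, ih, hfix]
  let F : R × ZMod P → {i : ι // i ≠ i₀} := fun x => ⟨(π ^ x.2.val) x.1, fun h =>
    x.1.2.1 ((π ^ x.2.val).injective (h.trans (hfixk _).symm))⟩
  have hFbij : Function.Bijective F := by
    constructor
    · rintro ⟨⟨a, ha0, ha⟩, k⟩ ⟨⟨b, hb0, hb⟩, l⟩ h
      have h' : (π ^ k.val) a = (π ^ l.val) b := congrArg Subtype.val h
      have hab : a = b := by
        refine eq'.injective ?_
        rw [ha, hb]
        congr 1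
        rw [← hshift k a, h', hshift]
      subst hab
      have h2 : (π ^ (k - l).val) a = a := by
        refine (π ^ l.val).injective ?_
        rw [← hperiod, add_sub_cancel, h']
      have h3 := hfree a ha0 _ h2
      have h4 : k - l = 0 := (ZMod.val_eq_zero _).mp (Nat.eq_zero_of_dvd_of_lt h3 (ZMod.val_lt _))
      rw [sub_eq_zero.mp h4]
    · rintro ⟨i, hi⟩
      obtain ⟨k, -, hk⟩ := Finset.mem_image.mp ((orb i).min'_mem (hne i))
      have hne' : (π ^ k.val) i ≠ i₀ := fun h => hi ((π ^ k.val).injective (h.trans (hfixk _).symm))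
      refine ⟨(⟨(π ^ k.val) i, hne', ?_⟩, -k), Subtype.ext ?_⟩
      · rw [hk]
        congr 1
        rw [hshift]
      · show (π ^ (-k).val) ((π ^ k.val) i) = i
        rw [← hperiod, neg_add_cancel, ZMod.val_zero, pow_zero, Equiv.Perm.one_apply]
  set M := Fintype.card R with hM
  have hcount : finrank K U * finrank K U = P * M + 1 := by
    have h1 := Fintype.card_congr (Equiv.ofBijective F hFbij)
    rw [Fintype.card_prod, ZMod.card, Fintype.card_subtype_compl, Fintype.card_subtype_eq] at h1
    have h2 : 0 < finrank K U * finrank K U := Nat.mul_pos (by omega) (by omega)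
    have h3 : P * M = Fintype.card R * P := by rw [hM, mul_comm]
    omega
  -- eigenspaces of the conjugation
  set E : ZMod P → Submodule K (End K U) := fun d => LinearMap.ker (θ - chi ζ d • 1) with hE
  have hmemE : ∀ {d f}, f ∈ E d ↔ θ f = chi ζ d • f := fun {d f} => by
    rw [hE, LinearMap.mem_ker, LinearMap.sub_apply, sub_eq_zero, LinearMap.smul_apply, Module.End.one_apply]
  have hθk : ∀ (k : ℕ) i, ∃ c : K, c ≠ 0 ∧ (θ ^ k) (e i) = c • e ((π ^ k) i) := by
    intro k i
    induction k with
    | zero => exact ⟨1, one_ne_zero, by simp⟩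
    | succ k ih =>
      obtain ⟨c, hc, hc'⟩ := ih
      exact ⟨c * s ((π ^ k) i), mul_ne_zero hc (hs0 _), by
        rw [pow_succ', Module.End.mul_apply, hc', map_smul, hθe, smul_smul, pow_succ', Equiv.Perm.mul_apply]⟩
  choose cf hcf0 hcf using hθk
  have hlow : ∀ d, M ≤ finrank K (E d) ∧ (d = 0 → M + 1 ≤ finrank K (E d)) := by
    intro d
    have hmem : ∀ a : R, proj ζ θ d (e a.1) ∈ E d := fun a => hmemE.mpr (apply_proj hζ hθP d _)
    have hexp : ∀ a : R, proj ζ θ d (e a.1) =
        ∑ k : ZMod P, ((P : K)⁻¹ * (chi ζ (-(d * k)) * cf k.val a.1)) • e (F (a, k)).1 := fun a => by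
      unfold proj
      rw [LinearMap.smul_apply, LinearMap.sum_apply, Finset.smul_sum]
      refine Finset.sum_congr rfl fun k _ => ?_
      rw [LinearMap.smul_apply, hcf, smul_smul, smul_smul, mul_assoc]
    have hkey : ∀ (c : R → K) (c₀ : K), ∑ a : R, c a • proj ζ θ d (e a.1) + c₀ • e i₀ = 0 →
        (∀ a, c a = 0) ∧ c₀ = 0 := by
      intro c c₀ h
      let g : ι → K := fun i => if hi : i = i₀ then c₀ else
        c ((Equiv.ofBijective F hFbij).symm ⟨i, hi⟩).1 *
          ((P : K)⁻¹ * (chi ζ (-(d * ((Equiv.ofBijective F hFbij).symm ⟨i, hi⟩).2)) *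
            cf ((Equiv.ofBijective F hFbij).symm ⟨i, hi⟩).2.val ((Equiv.ofBijective F hFbij).symm ⟨i, hi⟩).1.1))
      have hg : ∑ i, g i • e i = 0 := by
        rw [← h, ← Fintype.sum_subtype_add_sum_subtype (fun i => i ≠ i₀) (fun i => g i • e i)]
        congr 1
        · rw [← (Equiv.ofBijective F hFbij).sum_comp, Fintype.sum_prod_type]
          refine Finset.sum_congr rfl fun a _ => ?_
          rw [hexp, Finset.smul_sum]
          refine Finset.sum_congr rfl fun k _ => ?_
          rw [smul_smul, Equiv.ofBijective_apply]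
          congr 1
          simp only [g, dif_neg (F (a, k)).2, Subtype.coe_eta]
          rw [show (Equiv.ofBijective F hFbij).symm (F (a, k)) = (a, k) from
            Equiv.symm_apply_apply (Equiv.ofBijective F hFbij) (a, k)]
        · haveI : Unique {i : ι // ¬ i ≠ i₀} := ⟨⟨⟨i₀, fun h => h rfl⟩⟩, fun x => Subtype.ext (not_not.mp x.2)⟩
          rw [Fintype.sum_unique, show ((default : {i : ι // ¬ i ≠ i₀}) : ι) = i₀ from
            not_not.mp (default : {i : ι // ¬ i ≠ i₀}).2]
          simp [g]
      have h0 := Fintype.linearIndependent_iff.mp hli g hg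
      refine ⟨fun a => ?_, by simpa [g] using h0 i₀⟩
      have ha := h0 (F (a, 0)).1
      simp only [g, dif_neg (F (a, 0)).2, Subtype.coe_eta] at ha
      rw [show (Equiv.ofBijective F hFbij).symm (F (a, 0)) = (a, 0) from
        Equiv.symm_apply_apply (Equiv.ofBijective F hFbij) (a, 0)] at ha
      simpa [hP, chi_zero, hcf0] using ha
    constructor
    · have hind : LinearIndependent K (fun a : R => (⟨_, hmem a⟩ : E d)) := by
        rw [Fintype.linearIndependent_iff]
        intro c hc
        refine (hkey c 0 ?_).1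
        rw [zero_smul, add_zero]
        simpa using congrArg Subtype.val hc
      exact hind.fintype_card_le_finrank
    · rintro rfl
      have h1 : (1 : End K U) ∈ E (0 : ZMod P) := hmemE.mpr (by
        rw [chi_zero, one_smul]; show T * 1 * Ti = 1; rw [mul_one, hTTi])
      have hind : LinearIndependent K
          (fun o : Option R => o.elim (⟨1, h1⟩ : E (0 : ZMod P)) fun a => ⟨_, hmem a⟩) := by
        rw [Fintype.linearIndependent_iff]
        intro c hc o
        have h2 := congrArg Subtype.val hc
        rw [Fintype.sum_option] at h2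
        simp only [Option.elim, Submodule.coe_add, Submodule.coe_sum, Submodule.coe_smul, ← hi₀,
          ZeroMemClass.coe_zero] at h2
        obtain ⟨h3, h4⟩ := hkey (fun a => c (some a)) (c none) (by rw [add_comm]; exact h2)
        cases o with
        | none => exact h4
        | some a => exact h3 a
      simpa [Fintype.card_option] using hind.fintype_card_le_finrank
  have hup : ∑ d, finrank K (E d) ≤ finrank K (End K U) := by
    rw [← Module.finrank_pi_fintype]
    refine LinearMap.finrank_le_finrank_of_injective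
      (f := ∑ d, (E d).subtype ∘ₗ LinearMap.proj d) ((injective_iff_map_eq_zero _).mpr fun f hf => ?_)
    funext j
    have hj := congrArg (proj ζ θ j) hf
    simp only [map_zero, LinearMap.sum_apply, map_sum, LinearMap.comp_apply, LinearMap.proj_apply,
      Submodule.coe_subtype] at hj
    rw [Finset.sum_congr rfl (fun d _ => proj_eigen hζ hP (hmemE.mp (f d).2) j),
      Finset.sum_ite_eq, if_pos (Finset.mem_univ _)] at hj
    exact Subtype.ext hj
  rw [show finrank K (End K U) = finrank K U * finrank K U from Module.finrank_linearMap K K U U] at hup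
  have heq2 : ∀ d, finrank K (E d) = M + if d = 0 then 1 else 0 := by
    have hle : ∀ d ∈ (Finset.univ : Finset (ZMod P)), M + (if d = 0 then 1 else 0) ≤ finrank K (E d) := fun d _ => by
      split_ifs with h
      · exact (hlow d).2 h
      · exact (hlow d).1
    have htot : ∑ d : ZMod P, (M + if d = 0 then 1 else 0) = P * M + 1 := by
      rw [Finset.sum_add_distrib, Finset.sum_ite_eq', if_pos (Finset.mem_univ _), Finset.sum_const,
        Finset.card_univ, ZMod.card, smul_eq_mul]
    intro d
    exact (((Finset.sum_eq_sum_iff_of_le hle).mp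
      (le_antisymm (Finset.sum_le_sum hle) (by rw [htot, ← hcount]; exact hup))) d (Finset.mem_univ d)).symm
  -- multiplicities
  set V : ZMod P → Submodule K U := fun j => LinearMap.range (proj ζ T j) with hV
  set m : ZMod P → ℕ := fun j => finrank K (V j) with hm
  have hVe : ∀ {j} {u : U}, u ∈ V j → T u = chi ζ j • u := by
    rintro j _ ⟨w, rfl⟩; exact apply_proj hζ hT j w
  have hblock : ∀ d, ∑ j, m j * m (j + d) ≤ finrank K (E d) := by
    intro d
    have e : ∑ j, m j * m (j + d) = finrank K ((j : ZMod P) → (V j →ₗ[K] V (j + d))) := by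
      rw [Module.finrank_pi_fintype]
      exact Finset.sum_congr rfl fun j _ => (Module.finrank_linearMap K K (V j) (V (j + d))).symm
    rw [e]
    let Φ : ((j : ZMod P) → (V j →ₗ[K] V (j + d))) →ₗ[K] End K U :=
      ∑ j, (LinearMap.llcomp K U (V j) U).flip (proj ζ T j).rangeRestrict ∘ₗ
        (LinearMap.llcomp K (V j) (V (j + d)) U (V (j + d)).subtype) ∘ₗ LinearMap.proj j
    have hΦ : ∀ f u, Φ f u = ∑ j, ((f j ((proj ζ T j).rangeRestrict u) : V (j + d)) : U) := by
      intro f u
      simp [Φ]
    refine LinearMap.finrank_le_finrank_of_injective (f := Φ.codRestrict (E d) fun f => hmemE.mpr ?_) ?_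
    · refine LinearMap.ext fun u => ?_
      have hTu : ∀ j : ZMod P, proj ζ T j (Ti u) = chi ζ (-j) • proj ζ T j u := fun j => by
        have h1 : proj ζ T j (Ti u) = chi ζ (-j) • (chi ζ j • proj ζ T j (Ti u)) := by
          rw [smul_smul, ← chi_add hζ, neg_add_cancel, chi_zero, one_smul]
        rw [h1]
        congr 1
        rw [← apply_proj hζ hT j]
        have hc : Commute T (proj ζ T j) := by
          unfold proj
          exact (Commute.sum_right _ _ _ fun i _ =>
            ((Commute.refl T).pow_right _).smul_right _).smul_right _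
        rw [← Module.End.mul_apply, hc.eq, Module.End.mul_apply, ← Module.End.mul_apply T, hTTi,
          Module.End.one_apply]
      show T (Φ f (Ti u)) = chi ζ d • Φ f u
      rw [hΦ, hΦ, map_sum, Finset.smul_sum]
      refine Finset.sum_congr rfl fun j _ => ?_
      rw [hVe (f j _).2, show (proj ζ T j).rangeRestrict (Ti u) = chi ζ (-j) • (proj ζ T j).rangeRestrict u
        from Subtype.ext (hTu j), map_smul, Submodule.coe_smul, smul_smul, ← chi_add hζ,
        show j + d + -j = d by abel]
    · refine (injective_iff_map_eq_zero _).mpr fun f hf => funext fun j => LinearMap.ext fun v => ?_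
      have h1 := LinearMap.congr_fun (congrArg Subtype.val hf) (v : U)
      rw [LinearMap.codRestrict_apply, hΦ, ZeroMemClass.coe_zero, LinearMap.zero_apply,
        Finset.sum_eq_single j] at h1
      · rw [show (proj ζ T j).rangeRestrict (v : U) = v from Subtype.ext (by
          simp [proj_eigen hζ hP (hVe v.2)])] at h1
        exact Subtype.ext h1
      · intro i _ hij
        rw [show (proj ζ T i).rangeRestrict (v : U) = 0 from Subtype.ext (by
          simp [proj_eigen hζ hP (hVe v.2), hij]), map_zero, Submodule.coe_zero]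
      · simp
  have hsum : ∑ j, m j = finrank K U := by
    rw [hm, ← Module.finrank_pi_fintype]
    refine (LinearEquiv.ofLinearMap (∑ j, (V j).subtype ∘ₗ LinearMap.proj j)
      (LinearMap.pi fun j => (proj ζ T j).rangeRestrict) ?_ ?_).finrank_eq
    · refine LinearMap.ext fun u => ?_
      simpa [LinearMap.sum_apply] using LinearMap.congr_fun (sum_proj hζ hP T) u
    · refine LinearMap.ext fun f => funext fun i => Subtype.ext ?_
      simp only [LinearMap.comp_apply, LinearMap.sum_apply, LinearMap.pi_apply, LinearMap.id_apply,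
        LinearMap.proj_apply, Submodule.coe_subtype]
      show proj ζ T i (∑ j, (f j : U)) = (f i : U)
      rw [map_sum, Finset.sum_congr rfl (fun j _ => proj_eigen hζ hP (hVe (f j).2) i)]
      simp
  have hmm : ∀ d, ∑ j, m j * m (j + d) = finrank K (E d) := by
    intro d
    refine ((Finset.sum_eq_sum_iff_of_le fun d _ => hblock d).mp ?_) d (Finset.mem_univ d)
    have h1 : ∑ d, ∑ j, m j * m (j + d) = finrank K U * finrank K U := by
      rw [Finset.sum_comm, ← hsum, Finset.sum_mul_sum]
      refine Finset.sum_congr rfl fun j _ => ?_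
      exact Fintype.sum_equiv (Equiv.addLeft j) _ _ fun d => rfl
    refine le_antisymm (Finset.sum_le_sum fun d _ => hblock d) ?_
    rw [h1]; exact hup
  by_cases hall : ∀ j : ZMod P, proj ζ T j ≠ 0
  · exact Or.inl hall
  push_neg at hall
  obtain ⟨j₀, hj₀⟩ := hall
  have hm0 : m j₀ = 0 := by
    show finrank K (LinearMap.range (proj ζ T j₀)) = 0
    rw [hj₀, LinearMap.range_zero, finrank_bot]
  right
  have h00 : ∑ j, m j * m j = M + 1 := by
    have := hmm 0
    rw [heq2, if_pos rfl] at this
    simpa using this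
  have hd : ∀ d : ZMod P, d ≠ 0 → ∑ j, m j * m (j + d) = M := fun d h => by
    rw [hmm, heq2, if_neg h, add_zero]
  have hle1 : ∀ a, m a ≤ 1 := by
    intro a
    by_cases ha : a = j₀
    · rw [ha, hm0]; exact Nat.zero_le _
    have h := sum_two_values h00 (hd (a - j₀) (sub_ne_zero.mpr ha))
    have h2 : ((m j₀ : ℤ) - m (j₀ + (a - j₀))) ^ 2 ≤ 2 :=
      h ▸ Finset.single_le_sum (fun j _ => sq_nonneg ((m j : ℤ) - m (j + (a - j₀)))) (Finset.mem_univ j₀)
    rw [hm0, add_sub_cancel] at h2
    push_cast at h2
    by_contra h3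
    have : (2 : ℤ) ≤ m a := by exact_mod_cast (show 2 ≤ m a by omega)
    nlinarith
  have hS : finrank K U = M + 1 := by
    rw [← hsum, ← h00]
    refine Finset.sum_congr rfl fun j _ => ?_
    rcases Nat.le_one_iff_eq_zero_or_eq_one.mp (hle1 j) with h | h <;> simp [h]
  rw [hS] at hcount hone ⊢
  have : M * (M + 2) = M * P := by nlinarith
  have := Nat.eq_of_mul_eq_mul_left (by omega) this
  omega

end Cfsg.Agent.GenA.ShultGross
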