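import Cfsg.Agent.GenA.ShultGross.Multiplicity
import Cfsg.Agent.Lib.PLocal.TheoremB.Irred

/-!
A `q`-group acting with central elements scalar, normalized by an operator of order dividing `P`
acting semi-regularly modulo the scalars: a fixed vector exists, unless `P - 1` is the degree.
-/

set_option autoImplicit false

namespace Cfsg.Agent.GenA.ShultGross

open Module (End finrank)
open Cfsg.Agent.PLocal.TheoremB (QIrred schur density)
open scoped commutatorElement

variable {K : Type*} [Field K] {W : Type*} [AddCommGroup W] [Module K W]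
variable {H : Type*} [Group H]

/-- An eigenvector for distinct systems of eigenvalues cannot sum to zero. -/
theorem eigen_indep {S ι : Type*} (f : S → End K W) (c : ι → S → K) (F : Finset ι) (v : ι → W)
    (hv : ∀ i ∈ F, ∀ s, f s (v i) = c i s • v i)
    (hd : ∀ i ∈ F, ∀ j ∈ F, c i = c j → i = j) (h0 : ∑ i ∈ F, v i = 0) : ∀ i ∈ F, v i = 0 := by
  classical
  induction F using Finset.induction generalizing v with
  | empty => simp
  | @insert a F ha ih =>
    have hb : ∀ b ∈ F, v b = 0 := by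
      intro b hb
      obtain ⟨s, hs⟩ : ∃ s, c b s ≠ c a s := Function.ne_iff.mp fun e =>
        ha ((hd b (Finset.mem_insert_of_mem hb) a (Finset.mem_insert_self a F) e) ▸ hb)
      have hsum : ∑ i ∈ F, (c i s - c a s) • v i = 0 := by
        have h1 := congrArg (fun w => f s w - c a s • w) h0
        simp only [map_zero, smul_zero, sub_zero] at h1
        rw [map_sum, Finset.smul_sum, ← Finset.sum_sub_distrib, Finset.sum_insert ha,
          hv a (Finset.mem_insert_self a F), sub_self, zero_add] at h1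
        rw [← h1]
        exact Finset.sum_congr rfl fun i hi => by rw [hv i (Finset.mem_insert_of_mem hi), sub_smul]
      have := ih (fun i => (c i s - c a s) • v i)
        (fun i hi t => by rw [map_smul, hv i (Finset.mem_insert_of_mem hi), smul_comm])
        (fun i hi j hj => hd i (Finset.mem_insert_of_mem hi) j (Finset.mem_insert_of_mem hj)) hsum b hb
      exact (smul_eq_zero.mp this).resolve_left (sub_ne_zero.mpr hs)
    intro i hi
    rcases Finset.mem_insert.mp hi with rfl | hi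
    · rwa [Finset.sum_insert ha, Finset.sum_eq_zero hb, add_zero] at h0
    · exact hb i hi

/-- The elements acting as scalars. -/
def scalarSub [Finite H] (τ : H →* End K W) : Subgroup H where
  carrier := {h | ∃ c : K, τ h = c • 1}
  one_mem' := ⟨1, by simp⟩
  mul_mem' := by
    rintro a b ⟨c, hc⟩ ⟨d, hd⟩
    exact ⟨c * d, by rw [map_mul, hc, hd, smul_mul_smul_comm, one_mul]⟩
  inv_mem' := by
    rintro a ⟨c, hc⟩
    refine ⟨c ^ (orderOf a - 1), ?_⟩
    have e : a⁻¹ = a ^ (orderOf a - 1) := inv_eq_of_mul_eq_one_right (by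
      rw [← pow_succ', Nat.sub_add_cancel (orderOf_pos a), pow_orderOf_eq_one])
    rw [e, map_pow, hc, smul_pow, one_pow]

variable [Finite H]

instance scalarSub_normal (τ : H →* End K W) : (scalarSub τ).Normal :=
  ⟨fun a ⟨c, hc⟩ g => ⟨c, by
    rw [map_mul, map_mul, hc, mul_smul_comm, mul_one, smul_mul_assoc, ← map_mul, mul_inv_cancel, map_one]⟩⟩

theorem tau_mul_inv (τ : H →* End K W) (h : H) : τ h * τ h⁻¹ = 1 := by
  rw [← map_mul, mul_inv_cancel, map_one]

/-- Coset representatives are independent on every invariant subspace. -/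
theorem reps_indep (τ : H →* End K W) (hH : (Nat.card H : K) ≠ 0)
    (hscal : ∀ g h : H, ∃ c : K, τ ⁅g, h⁆ = c • 1)
    (hcent : ∀ h : H, (∀ g, Commute (τ h) (τ g)) → h ∈ scalarSub τ)
    (W' : Submodule K W) (hW' : ∀ g, ∀ w ∈ W', τ g w ∈ W') (hW0 : W' ≠ ⊥)
    {ι : Type*} [Fintype ι] (r : ι → H) (hr : ∀ a b, (r a)⁻¹ * r b ∈ scalarSub τ → a = b)
    (c : ι → K) (h0 : ∀ w ∈ W', ∑ a, c a • τ (r a) w = 0) : c = 0 := by
  classical
  haveI := Fintype.ofFinite H
  obtain ⟨w₁, hw₁, hw₁0⟩ := W'.ne_bot_iff.mp hW0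
  haveI : Nontrivial W := ⟨w₁, 0, hw₁0⟩
  choose κ hκ using hscal
  have hconj : ∀ g h, τ g * τ h * τ g⁻¹ = κ g h • τ h := fun g h => by
    rw [← map_mul, ← map_mul, show g * h * g⁻¹ = ⁅g, h⁆ * h by simp [commutatorElement_def], map_mul,
      hκ, smul_mul_assoc, one_mul]
  have hnz : ∀ h, τ h ≠ 0 := fun h e => zero_ne_one
    (by rw [← tau_mul_inv τ h, e, zero_mul] : (0 : End K W) = 1)
  have hκmul : ∀ g g' h, κ (g * g') h = κ g h * κ g' h := fun g g' h => by
    refine smul_left_injective K (hnz h) ?_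
    show κ (g * g') h • τ h = (κ g h * κ g' h) • τ h
    rw [← hconj, mul_inv_rev, map_mul, map_mul, mul_assoc (τ g) (τ g'), ← mul_assoc (τ g * (τ g' * τ h)),
      mul_assoc (τ g) (τ g' * τ h), hconj g' h, mul_smul_comm, smul_mul_assoc, hconj g h, smul_smul,
      mul_comm]
  have hκ0 : ∀ g h, κ g h ≠ 0 := fun g h e => hnz ⁅g, h⁆ (by rw [hκ, e, zero_smul])
  funext b
  by_contra hb
  have hg : ∀ g : H, ∀ w ∈ W', ∑ a, (c a * κ g (r a)) • τ (r a) w = 0 := fun g w hw => by
    have h1 := congrArg (τ g) (h0 (τ g⁻¹ w) (hW' _ w hw))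
    rw [map_zero, map_sum] at h1
    rw [← h1]
    refine Finset.sum_congr rfl fun a _ => ?_
    rw [map_smul, ← smul_smul]
    congr 1
    rw [← LinearMap.smul_apply, ← hconj]
    rfl
  have horth : ∀ a, ∑ g : H, κ g (r a) * (κ g (r b))⁻¹ = if a = b then (Nat.card H : K) else 0 := by
    intro a
    split_ifs with hab
    · subst hab
      rw [Finset.sum_congr rfl (fun g _ => mul_inv_cancel₀ (hκ0 g (r a))), Finset.sum_const,
        Finset.card_univ, nsmul_one, Nat.card_eq_fintype_card]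
    obtain ⟨g₀, hg₀⟩ : ∃ g₀, κ g₀ (r a) * (κ g₀ (r b))⁻¹ ≠ 1 := by
      by_contra! hall
      refine hab (hr b a (hcent _ fun g => ?_)).symm
      have he : κ g (r a) = κ g (r b) := by
        have := hall g
        field_simp [hκ0 g (r b)] at this
        exact this
      have h1 : τ g * τ ((r b)⁻¹ * r a) * τ g⁻¹ = τ ((r b)⁻¹ * r a) := by
        have hu : τ (r b) * (τ g * τ ((r b)⁻¹ * r a) * τ g⁻¹) = τ (r a) := by
          refine smul_right_injective (End K W) (hκ0 g (r b)) ?_
          show κ g (r b) • (τ (r b) * _) = κ g (r b) • τ (r a)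
          rw [← smul_mul_assoc, ← hconj, ← he, ← hconj]
          simp only [← map_mul]
          congr 1
          group
        calc τ g * τ ((r b)⁻¹ * r a) * τ g⁻¹
            = τ (r b)⁻¹ * (τ (r b) * (τ g * τ ((r b)⁻¹ * r a) * τ g⁻¹)) := by
              simp only [← map_mul]; congr 1; group
          _ = _ := by rw [hu, ← map_mul]
      show τ ((r b)⁻¹ * r a) * τ g = τ g * τ ((r b)⁻¹ * r a)
      conv_lhs => rw [← h1]
      simp only [← map_mul]
      congr 1
      group
    have h2 : ∑ g : H, κ g (r a) * (κ g (r b))⁻¹ =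
        (κ g₀ (r a) * (κ g₀ (r b))⁻¹) * ∑ g : H, κ g (r a) * (κ g (r b))⁻¹ := by
      rw [Finset.mul_sum]
      refine (Fintype.sum_equiv (Equiv.mulLeft g₀) _ _ fun g => ?_).symm
      show _ = κ (g₀ * g) (r a) * (κ (g₀ * g) (r b))⁻¹
      rw [hκmul, hκmul, mul_inv]
      ring
    by_contra hne
    exact hg₀ (mul_right_cancel₀ hne (by rw [one_mul]; exact h2.symm))
  have hs : ∀ w ∈ W', ∑ g : H, (κ g (r b))⁻¹ • ∑ a, (c a * κ g (r a)) • τ (r a) w = 0 := fun w hw => by
    simp [hg _ w hw]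
  have hw := hs (τ (r b)⁻¹ w₁) (hW' _ w₁ hw₁)
  simp only [Finset.smul_sum, smul_smul] at hw
  rw [Finset.sum_comm, Finset.sum_congr rfl (fun a _ => by
    rw [← Finset.sum_smul, Finset.sum_congr rfl (fun g _ => by
      rw [show (κ g (r b))⁻¹ * (c a * κ g (r a)) = c a * (κ g (r a) * (κ g (r b))⁻¹) by ring]),
      ← Finset.mul_sum, horth, mul_ite, mul_zero, ite_smul, zero_smul]),
    Finset.sum_ite_eq' Finset.univ b, if_pos (Finset.mem_univ b), ← Module.End.mul_apply,
    tau_mul_inv, Module.End.one_apply, smul_eq_zero] at hw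
  exact mul_ne_zero hb hH (hw.resolve_right hw₁0)

variable [IsAlgClosed K] [FiniteDimensional K W] [Nontrivial W]

theorem fixed_or_exceptional (τ : H →* End K W) (hH : (Nat.card H : K) ≠ 0) (β : MulAut H)
    (B : End K W) (hβ : ∀ h, B * τ h = τ (β h) * B) {P : ℕ} (hP2 : 2 ≤ P) (hPK : (P : K) ≠ 0)
    (hB : B ^ P = 1) (hscal : ∀ g h : H, ∃ c : K, τ ⁅g, h⁆ = c • 1)
    (hcent : ∀ h : H, (∀ g, Commute (τ h) (τ g)) → h ∈ scalarSub τ)
    (hnonab : scalarSub τ ≠ ⊤)
    (hfree : ∀ (k : ℕ) (h : H), h⁻¹ * (β ^ k) h ∈ scalarSub τ → P ∣ k ∨ h ∈ scalarSub τ) :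
    (∃ w : W, w ≠ 0 ∧ B w = w) ∨ ∃ d : ℕ, d * d = (scalarSub τ).index ∧ d + 1 = P := by
  classical
  haveI : NeZero P := ⟨by omega⟩
  haveI : NeZero (P : K) := ⟨hPK⟩
  set S := scalarSub τ with hS
  set Bi := B ^ (P - 1) with hBi
  have hBBi : B * Bi = 1 := by rw [hBi, ← pow_succ', Nat.sub_add_cancel (by omega), hB]
  have hBiB : Bi * B = 1 := by rw [hBi, ← pow_succ, Nat.sub_add_cancel (by omega), hB]
  have hβ' : ∀ h, τ (β h) = B * τ h * Bi := fun h => by rw [hβ, mul_assoc, hBBi, mul_one]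
  have hβk : ∀ (k : ℕ) h, B ^ k * τ h = τ ((β ^ k) h) * B ^ k := by
    intro k
    induction k with
    | zero => intro h; simp
    | succ k ih =>
      intro h
      rw [pow_succ, mul_assoc, hβ, ← mul_assoc, ih, mul_assoc, ← pow_succ, pow_succ β, MulAut.mul_apply]
  have hβP : ∀ h, τ ((β ^ P) h) = τ h := fun h => by simpa [hB] using (hβk P h).symm
  have hβS : S.map (β : H →* H) = S := by
    refine Subgroup.eq_of_le_of_card_ge ?_ (Subgroup.card_map_of_injective β.injective).ge
    rintro _ ⟨h, ⟨c, hc⟩, rfl⟩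
    exact ⟨c, by
      show τ (β h) = _
      rw [hβ', hc, mul_smul_comm, mul_one, smul_mul_assoc, hBBi]⟩
  haveI := Fintype.ofFinite (H ⧸ S)
  let π : Equiv.Perm (H ⧸ S) := (QuotientGroup.congr S S β hβS).toEquiv
  have hπk : ∀ (k : ℕ) (h : H), (π ^ k) (QuotientGroup.mk h) = QuotientGroup.mk ((β ^ k) h) := by
    intro k
    induction k with
    | zero => intro h; simp
    | succ k ih => intro h; rw [pow_succ', Equiv.Perm.mul_apply, ih, pow_succ' β, MulAut.mul_apply]; rfl
  -- representatives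
  let r : H ⧸ S → H := fun a => if a = 1 then 1 else a.out
  have hmk : ∀ a, (QuotientGroup.mk (r a) : H ⧸ S) = a := fun a => by
    simp only [r]
    split_ifs with ha
    · rw [ha]; rfl
    · exact QuotientGroup.out_eq' a
  have hr : ∀ a b, (r a)⁻¹ * r b ∈ S → a = b := fun a b h => by
    rw [← hmk a, ← hmk b]; exact QuotientGroup.eq.mpr h
  set e : H ⧸ S → End K W := fun a => τ (r a) with he
  have hdec : ∀ h : H, ∃ c : K, τ h = c • e (QuotientGroup.mk h) := fun h => by
    obtain ⟨c, hc⟩ : (r (QuotientGroup.mk h))⁻¹ * h ∈ S := QuotientGroup.eq.mp (hmk _)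
    refine ⟨c, ?_⟩
    calc τ h = τ (r (QuotientGroup.mk h)) * τ ((r (QuotientGroup.mk h))⁻¹ * h) := by
          rw [← map_mul, mul_inv_cancel_left]
      _ = _ := by rw [hc, mul_smul_comm, mul_one]
  choose χ hχ using hdec
  -- an irreducible constituent
  obtain ⟨U, ⟨hU0, hUH⟩, hUmin⟩ := (wellFounded_lt (α := Submodule K W)).has_min
    {U : Submodule K W | U ≠ ⊥ ∧ ∀ g : H, ∀ w ∈ U, τ g w ∈ U}
    ⟨⊤, top_ne_bot, fun _ _ _ => Submodule.mem_top⟩
  haveI : Nontrivial U := Submodule.nontrivial_iff_ne_bot.mpr hU0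
  let τU : H →* End K U :=
    { toFun := fun g => (τ g).restrict (hUH g)
      map_one' := by ext w; simp [LinearMap.restrict_apply]
      map_mul' := fun a b => by ext w; simp [LinearMap.restrict_apply] }
  have hτU : ∀ g (u : U), ((τU g u : U) : W) = τ g u := fun g u => rfl
  have hirr : QIrred τU (⊤ : Subgroup H) := by
    intro X hX
    have hinv : ∀ g : H, ∀ w ∈ X.map U.subtype, τ g w ∈ X.map U.subtype := by
      rintro g _ ⟨w, hw, rfl⟩
      exact ⟨τU g w, hX g (Subgroup.mem_top g) w hw, rfl⟩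
    by_cases h0 : X.map U.subtype = ⊥
    · exact Or.inl (Submodule.map_injective_of_injective U.injective_subtype (h0.trans (Submodule.map_bot _).symm))
    · exact Or.inr (Submodule.map_injective_of_injective U.injective_subtype
        ((eq_of_le_of_not_lt (Submodule.map_subtype_le U X) (hUmin _ ⟨h0, hinv⟩)).trans
          (Submodule.map_subtype_top U).symm))
  set eU : H ⧸ S → End K U := fun a => τU (r a) with heU
  have hχU : ∀ h, τU h = χ h • eU (QuotientGroup.mk h) := fun h => LinearMap.ext fun u => Subtype.ext (by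
    rw [hτU, hχ, LinearMap.smul_apply, LinearMap.smul_apply, Submodule.coe_smul]; rfl)
  have hind : ∀ (W' : Submodule K W), (∀ g, ∀ w ∈ W', τ g w ∈ W') → W' ≠ ⊥ → ∀ c : H ⧸ S → K,
      (∀ w ∈ W', ∑ a, c a • τ (r a) w = 0) → c = 0 :=
    fun W' h1 h2 c hc => reps_indep τ hH hscal hcent W' h1 h2 r hr c hc
  have hliU : LinearIndependent K eU := by
    rw [Fintype.linearIndependent_iff]
    intro c hc
    refine congrFun (hind U hUH hU0 c fun w hw => ?_)
    have h1 := congrArg Subtype.val (LinearMap.congr_fun hc ⟨w, hw⟩)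
    simpa [LinearMap.sum_apply, heU, hτU] using h1
  have hspan : ⊤ ≤ Submodule.span K (Set.range eU) := by
    intro f _
    refine Submodule.span_le.mpr ?_ (density hirr f)
    rintro _ ⟨g, -, rfl⟩
    rw [SetLike.mem_coe, hχU g]
    exact Submodule.smul_mem _ _ (Submodule.subset_span ⟨_, rfl⟩)
  let bU := Module.Basis.mk hliU hspan
  have hbU : ∀ a, bU a = eU a := fun a => Module.Basis.mk_apply hliU hspan a
  let Ψ : End K U →ₗ[K] End K W := bU.constr K e
  have hΨ : ∀ h, Ψ (τU h) = τ h := fun h => by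
    rw [hχU, map_smul, ← hbU, Module.Basis.constr_basis, ← hχ]
  have hΨmul : ∀ f g, Ψ (f * g) = Ψ f * Ψ g := by
    have key : Ψ ∘ₗ LinearMap.mulLeft K (1 : End K U) = Ψ := by ext; simp
    intro f g
    have h1 : ∀ a g, Ψ (eU a * g) = Ψ (eU a) * Ψ g := by
      intro a g
      have : Ψ ∘ₗ LinearMap.mulLeft K (eU a) = LinearMap.mulLeft K (Ψ (eU a)) ∘ₗ Ψ := bU.ext fun b => by
        rw [LinearMap.comp_apply, LinearMap.comp_apply, LinearMap.mulLeft_apply, LinearMap.mulLeft_apply,
          hbU, heU, ← map_mul τU, hΨ, hΨ, hΨ, map_mul τ]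
      exact LinearMap.congr_fun this g
    have h2 : Ψ ∘ₗ LinearMap.mulRight K g = LinearMap.mulRight K (Ψ g) ∘ₗ Ψ := bU.ext fun a => by
      rw [LinearMap.comp_apply, LinearMap.comp_apply, LinearMap.mulRight_apply, LinearMap.mulRight_apply,
        hbU, h1]
    exact LinearMap.congr_fun h2 f
  have hΨone : Ψ 1 = 1 := by rw [← map_one τU, hΨ, map_one]
  have hΨpow : ∀ f (k : ℕ), Ψ (f ^ k) = Ψ f ^ k := fun f k => by
    induction k with
    | zero => simp [hΨone]
    | succ k ih => rw [pow_succ, pow_succ, hΨmul, ih]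
  have hΨres : ∀ f (u : U), Ψ f u = (f u : W) := fun f u => by
    have : (LinearMap.applyₗ (u : W)) ∘ₗ Ψ = U.subtype ∘ₗ LinearMap.applyₗ u := bU.ext fun a => by
      rw [LinearMap.comp_apply, LinearMap.comp_apply, hbU, hΨ (r a)]
      rfl
    exact LinearMap.congr_fun this f
  have hΨinj : ∀ (W' : Submodule K W), (∀ g, ∀ w ∈ W', τ g w ∈ W') → W' ≠ ⊥ → ∀ f,
      (∀ w ∈ W', Ψ f w = 0) → f = 0 := by
    intro W' h1 h2 f hf
    have hc := hind W' h1 h2 (bU.repr f) fun w hw => by
      rw [← hf w hw, Module.Basis.constr_apply_fintype, LinearMap.sum_apply]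
      exact Finset.sum_congr rfl fun a _ => by simp [Module.Basis.equivFun_apply, he]
    refine bU.repr.injective ?_
    rw [map_zero]
    exact Finsupp.ext fun a => congrFun hc a
  -- the conjugation by `B` on `End U`
  let θ : End K U →ₗ[K] End K U := bU.constr K fun a => τU (β (r a))
  have hθΨ : ∀ f, Ψ (θ f) = B * Ψ f * Bi := fun f => by
    have : Ψ ∘ₗ θ = (LinearMap.mulRight K Bi ∘ₗ LinearMap.mulLeft K B) ∘ₗ Ψ := bU.ext fun a => by
      rw [LinearMap.comp_apply, Module.Basis.constr_basis, hΨ, hβ', LinearMap.comp_apply, hbU, hΨ]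
      rfl
    exact LinearMap.congr_fun this f
  have hinj : Function.Injective Ψ := (injective_iff_map_eq_zero _).mpr fun f hf =>
    hΨinj U hUH hU0 f fun w _ => by rw [hf]; rfl
  have hθmul : ∀ f g, θ (f * g) = θ f * θ g := fun f g => hinj (by
    rw [hΨmul (θ f), hθΨ, hθΨ, hθΨ, hΨmul]
    calc B * (Ψ f * Ψ g) * Bi = B * Ψ f * (Bi * B) * Ψ g * Bi := by rw [hBiB, mul_one]; simp only [mul_assoc]
      _ = _ := by simp only [mul_assoc])
  have hθτ : ∀ h, θ (τU h) = τU (β h) := fun h => hinj (by rw [hθΨ, hΨ, hΨ, hβ'])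
  obtain ⟨v₀, hv₀⟩ := exists_ne (0 : U)
  obtain ⟨φ, hφ⟩ : ∃ φ : Module.Dual K U, φ v₀ = 1 := by
    obtain ⟨φ, hφ⟩ : ∃ φ : Module.Dual K U, φ v₀ ≠ 0 := by
      by_contra! hc
      exact hv₀ ((Module.forall_dual_apply_eq_zero_iff K _).mp hc)
    exact ⟨(φ v₀)⁻¹ • φ, by simp [inv_mul_cancel₀ hφ]⟩
  set p₀ := φ.smulRight v₀ with hp₀
  obtain ⟨u₀, hu₀⟩ : ∃ u, θ p₀ u ≠ 0 := by
    by_contra! hc
    have h1 : θ p₀ = 0 := LinearMap.ext hc
    have h2 : Ψ p₀ = 0 := by
      have := hθΨ p₀
      rw [h1, map_zero] at this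
      calc Ψ p₀ = Bi * (B * Ψ p₀ * Bi) * B := by
            rw [← mul_assoc, ← mul_assoc, hBiB, one_mul, mul_assoc, hBiB, mul_one]
        _ = 0 := by rw [← this]; simp
    have h3 : p₀ = 0 := hinj (by rw [h2, map_zero])
    have := LinearMap.congr_fun h3 v₀
    simp [hp₀, hφ, hv₀] at this
  let T₀ : End K U :=
    { toFun := fun w => θ (φ.smulRight w) u₀
      map_add' := fun a b => by
        rw [show φ.smulRight (a + b) = φ.smulRight a + φ.smulRight b by ext; simp, map_add, LinearMap.add_apply]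
      map_smul' := fun c a => by
        rw [show φ.smulRight (c • a) = c • φ.smulRight a by ext x; exact smul_comm _ _ _, map_smul]
        rfl }
  have hT₀ : ∀ h, τU (β h) * T₀ = T₀ * τU h := fun h => LinearMap.ext fun w => by
    show τU (β h) (θ (φ.smulRight w) u₀) = θ (φ.smulRight (τU h w)) u₀
    rw [← hθτ, ← Module.End.mul_apply, ← hθmul]
    congr 2
    ext x
    simp
  have hT₀inj : Function.Injective T₀ := by
    rw [← LinearMap.ker_eq_bot]
    refine (hirr (LinearMap.ker T₀) fun g _ w hw => ?_).resolve_right fun htop => ?_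
    · rw [LinearMap.mem_ker] at hw ⊢
      rw [← Module.End.mul_apply, ← hT₀, Module.End.mul_apply, hw, map_zero]
    · have h1 : T₀ (θ p₀ u₀) = 0 := LinearMap.congr_fun (LinearMap.ker_eq_top.mp htop) _
      have h2 : T₀ v₀ = θ p₀ u₀ := rfl
      exact hu₀ (by rw [← h2, LinearMap.ker_eq_top.mp htop]; rfl)
  have hT₀k : ∀ (k : ℕ) h, τU ((β ^ k) h) * T₀ ^ k = T₀ ^ k * τU h := by
    intro k
    induction k with
    | zero => intro h; simp
    | succ k ih =>
      intro h
      rw [pow_succ T₀, ← mul_assoc, pow_succ β, MulAut.mul_apply, ih, mul_assoc, hT₀, ← mul_assoc]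
  have hτUP : ∀ h, τU ((β ^ P) h) = τU h := fun h => LinearMap.ext fun u => Subtype.ext (by
    rw [hτU, hτU, hβP])
  obtain ⟨c, hc⟩ := schur hirr (T₀ ^ P) fun g _ => by
    show T₀ ^ P * τU g = τU g * T₀ ^ P
    rw [← hT₀k, hτUP]
  have hc0 : c ≠ 0 := fun h => by
    have h1 : Function.Injective (T₀ ^ P) := by
      rw [Module.End.coe_pow]; exact hT₀inj.iterate P
    rw [h, zero_smul] at hc
    exact hv₀ (h1 (by rw [hc]; rfl))
  obtain ⟨c', hc'⟩ := IsAlgClosed.exists_pow_nat_eq c⁻¹ (n := P) (by omega)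
  set T := c' • T₀ with hTdef
  have hTP : T ^ P = 1 := by rw [hTdef, smul_pow, hc', hc, smul_smul, inv_mul_cancel₀ hc0, one_smul]
  have hT : ∀ h, T * τU h = τU (β h) * T := fun h => by
    rw [hTdef, smul_mul_assoc, mul_smul_comm, hT₀]
  set ζ₀ := IsAlgClosed.exists_root (Polynomial.cyclotomic P K)
    (by rw [Polynomial.degree_cyclotomic]; exact_mod_cast (Nat.totient_pos.mpr (by omega)).ne')
  obtain ⟨ζ, hζr⟩ := ζ₀
  have hζ : IsPrimitiveRoot ζ P := Polynomial.isRoot_cyclotomic_iff.mp hζr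
  have hcard : Fintype.card (H ⧸ S) = finrank K U * finrank K U := by
    rw [← Module.finrank_linearMap K K U U]
    exact (Module.finrank_eq_card_basis bU).symm
  have hidx : S.index = finrank K U * finrank K U := by
    rw [Subgroup.index, Nat.card_eq_fintype_card, hcard]
  have hone : 1 < finrank K U := by
    by_contra h
    have h1 : finrank K U = 1 := le_antisymm (not_lt.mp h) Module.finrank_pos
    exact hnonab (Subgroup.index_eq_one.mp (by rw [hidx, h1]))
  rcases exists_all_eigen hP2 hζ hPK hTP hliU hcard hone π 1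
      (by show τU (r 1) = 1; simp [r]) (Equiv.ext fun a => by
        rw [← hmk a, hπk, Equiv.Perm.one_apply]
        refine (QuotientGroup.eq.mpr (show (r a)⁻¹ * (β ^ P) (r a) ∈ S from ⟨1, ?_⟩)).symm
        rw [map_mul, hβP, ← map_mul, inv_mul_cancel, map_one, one_smul])
      (fun a ha k hk => by
        rw [← hmk a, hπk] at hk
        refine (hfree k (r a) (QuotientGroup.eq.mp hk.symm)).resolve_right fun hm => ha ?_
        rw [← hmk a]; exact (QuotientGroup.eq_one_iff _).mpr hm)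
      (map_one (QuotientGroup.congr S S β hβS)) (fun a => χ (β (r a)))
      (fun a => by
        show T * τU (r a) = _
        rw [hT, hχU, smul_mul_assoc]
        congr 2
        show eU (QuotientGroup.mk (β (r a))) = eU (π a)
        rw [show π a = π (QuotientGroup.mk (r a)) by rw [hmk]]
        rfl) with hall | hex
  swap
  · exact Or.inr ⟨finrank K U, hidx.symm, hex⟩
  left
  set Ti := T ^ (P - 1) with hTi
  have hTTi : T * Ti = 1 := by rw [hTi, ← pow_succ', Nat.sub_add_cancel (by omega), hTP]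
  have hTiT : Ti * T = 1 := by rw [hTi, ← pow_succ, Nat.sub_add_cancel (by omega), hTP]
  have hθT : θ T = T := by
    have h1 : LinearMap.mulRight K T ∘ₗ θ = LinearMap.mulLeft K T := bU.ext fun a => by
      rw [LinearMap.comp_apply, Module.Basis.constr_basis, LinearMap.mulRight_apply,
        LinearMap.mulLeft_apply, hbU, hT]
    have h2 : θ T * T = T * T := LinearMap.congr_fun h1 T
    calc θ T = θ T * T * Ti := by rw [mul_assoc, hTTi, mul_one]
      _ = _ := by rw [h2, mul_assoc, hTTi, mul_one]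
  have hBT : Commute B (Ψ T) := by
    show B * Ψ T = Ψ T * B
    conv_rhs => rw [← hθT, hθΨ, mul_assoc, hBiB, mul_one]
  set S' := B * Ψ Ti with hS'
  have hBTi : Commute B (Ψ Ti) := by rw [hTi, hΨpow]; exact hBT.pow_right _
  have hS'P : S' ^ P = 1 := by
    rw [hS', hBTi.mul_pow, hB, one_mul, ← hΨpow, hTi, ← pow_mul, mul_comm, pow_mul, hTP, one_pow, hΨone]
  have hS'τ : ∀ h, S' * τ h = τ h * S' := fun h => by
    obtain ⟨h', rfl⟩ := β.surjective h
    have e : Ti * τU (β h') = τU h' * Ti := by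
      calc Ti * τU (β h') = Ti * (τU (β h') * T) * Ti := by rw [mul_assoc, mul_assoc, hTTi, mul_one]
        _ = _ := by rw [← hT, ← mul_assoc, hTiT, one_mul]
    have e2 := congrArg Ψ e
    rw [hΨmul, hΨmul, hΨ, hΨ] at e2
    rw [hS', mul_assoc, e2, ← mul_assoc, hβ, mul_assoc]
  obtain ⟨l, hl⟩ : ∃ l : ZMod P, proj ζ S' l ≠ 0 := by
    by_contra! hc
    exact one_ne_zero ((sum_proj hζ hPK S').symm.trans (Finset.sum_eq_zero fun l _ => hc l))
  set W' := LinearMap.range (proj ζ S' l) with hW'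
  have hW'0 : W' ≠ ⊥ := fun h => hl (LinearMap.range_eq_bot.mp h)
  have hW'inv : ∀ g, ∀ w ∈ W', τ g w ∈ W' := by
    rintro g _ ⟨v, rfl⟩
    refine ⟨τ g v, ?_⟩
    have hc : Commute (τ g) (proj ζ S' l) := by
      unfold proj
      exact (Commute.sum_right _ _ _ fun i _ =>
        ((show Commute (τ g) S' from (hS'τ g).symm).pow_right _).smul_right _).smul_right _
    rw [← Module.End.mul_apply, ← Module.End.mul_apply, hc.eq]
  obtain ⟨w₀, hw₀, hne⟩ : ∃ w₀ ∈ W', Ψ (proj ζ T (-l)) w₀ ≠ 0 := by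
    by_contra! hc
    exact hall (-l) (hΨinj W' hW'inv hW'0 _ hc)
  refine ⟨Ψ (proj ζ T (-l)) w₀, hne, ?_⟩
  obtain ⟨v, rfl⟩ := hw₀
  have hcS : Commute S' (Ψ (proj ζ T (-l))) := by
    have hTi' : Commute (Ψ Ti) (Ψ T) := by rw [hTi, hΨpow]; exact (Commute.refl _).pow_left _
    have : Commute S' (Ψ T) := Commute.mul_left hBT hTi'
    unfold proj
    rw [map_smul, map_sum]
    exact (Commute.sum_right _ _ _ fun i _ => by
      rw [map_smul, hΨpow]; exact (this.pow_right _).smul_right _).smul_right _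
  have hBdec : B = S' * Ψ T := by
    rw [hS', mul_assoc, ← hΨmul, hTiT, hΨone, mul_one]
  rw [hBdec, Module.End.mul_apply, ← Module.End.mul_apply (Ψ T), ← hΨmul, mul_proj hζ hTP, map_smul,
    LinearMap.smul_apply, map_smul, ← Module.End.mul_apply, hcS.eq, Module.End.mul_apply,
    apply_proj hζ hS'P, map_smul, smul_smul, ← chi_add hζ, neg_add_cancel, chi_zero, one_smul]

end Cfsg.Agent.GenA.ShultGross
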