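import Cfsg.Agent.GenA.ShultGross.TwoRank

/-!
A space on which the inverted part of a pairing acts through the pairing: its dimension, and the rank of
the half power on it.
-/

set_option autoImplicit false

namespace Cfsg.Agent.GenA.ShultGross.Two

open Module (End finrank)
open Cfsg.Agent.PLocal.TheoremB (Normalizes)
open scoped commutatorElement

variable {K : Type*} [Field K] [IsAlgClosed K] {V : Type*} [AddCommGroup V] [Module K V]
variable {Γ : Type*} [Group Γ] [Finite Γ] {ρ : Γ →* End K V} {D : Subgroup Γ} {lam : Γ → Γ → K}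
variable {h : Pairing ρ D lam} {s : ℕ} [hsf : Fact s.Prime] {t : Γ} {ht : Normalizes t D}
variable {U : Type*} [AddCommGroup U] [Module K U] [FiniteDimensional K U] [Nontrivial U]
variable {G1 : Subgroup Γ} {σ : G1 →* End K U}

/-- `σ` realizes the pairing on the inverted part, the radical acting by scalars. -/
structure Realizes (h : Pairing ρ D lam) (t : Γ) (ht : Normalizes t D) (σ : G1 →* End K U) : Prop where
  le : ∀ g ∈ antiSub h t ht, g ∈ G1
  com : ∀ a b : antiSub h t ht,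
    σ ⁅(⟨a, le a a.2⟩ : G1), ⟨b, le b b.2⟩⁆ = lam a b • 1
  rad : ∀ (g : antiSub h t ht), (g : Γ) ∈ radSub h → ∃ c : K, σ ⟨g, le g g.2⟩ = c • 1

theorem lam_pow_eq_one (hD : IsPGroup s D) {y c : Γ} (hy : y ∈ D) (hc : c ∈ D) (h : Pairing ρ D lam) :
    ∃ m, lam y c ^ s ^ m = 1 := by
  obtain ⟨m, hm⟩ := hD ⟨y, hy⟩
  refine ⟨m, ?_⟩
  have hpow : ∀ i : ℕ, lam (y ^ i) c = lam y c ^ i := by
    intro i
    induction i with
    | zero => rw [pow_zero, pow_zero, h.one_left hc]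
    | succ i ih => rw [pow_succ, h.mul_left (pow_mem hy i) hy hc, ih, pow_succ]
  rw [← hpow, show y ^ s ^ m = 1 by simpa using congrArg Subtype.val hm, h.one_left hc]

theorem not_mem_rad_of_twist {g g' : Γ} (hg : g ∈ D) (hg' : g' ∈ D) (hr : g⁻¹ * g' ∈ radSub h) :
    ∀ c ∈ D, lam g' c = lam g c := fun c hc => by
  have h1 := hr.2 c hc
  rw [h.mul_left (inv_mem hg) hg' hc] at h1
  calc lam g' c = lam g⁻¹ c * lam g c * lam g' c := by rw [h.inv_left hg hc, one_mul]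
    _ = lam g c * (lam g⁻¹ c * lam g' c) := by ring
    _ = _ := by rw [h1, mul_one]

variable (hso : Odd s) (hsK : (s : K) ≠ 0) (hD : IsPGroup s D) (hp : Preserves D lam t) (ht2 : t * t = 1)
  (hσ : Realizes h t ht σ)
include hso hsK hD hp ht2 hσ

omit hsK [IsAlgClosed K] [FiniteDimensional K U] hsf in
theorem mem_rad_of_commute (g : antiSub h t ht)
    (hg : ∀ c : antiSub h t ht, Commute (σ ⟨g, hσ.le g g.2⟩) (σ ⟨c, hσ.le c c.2⟩)) : (g : Γ) ∈ radSub h :=
  anti_nondeg hp ht2 hso hD g.2 fun c hc => by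
    obtain ⟨w, hw⟩ := exists_ne (0 : U)
    refine smul_left_injective K hw ?_
    show lam g c • w = (1 : K) • w
    rw [one_smul, ← Module.End.one_apply (R := K) w, ← LinearMap.smul_apply, ← hσ.com g ⟨c, hc⟩]
    congr 1
    rw [commutatorElement_def, map_mul, map_mul, map_mul, (hg ⟨c, hc⟩).eq, mul_assoc (σ ⟨c, _⟩), ← map_mul σ,
      mul_inv_cancel, map_one, mul_one, ← map_mul, mul_inv_cancel, map_one]

theorem le_finrank (hidx : (radSub h).relIndex (antiSub h t ht) = s ^ 2) : s ≤ finrank K U := by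
  classical
  set N1 := antiSub h t ht with hN1
  let τ : N1 →* End K U := σ.comp (Subgroup.inclusion hσ.le)
  haveI := Fintype.ofFinite (N1 ⧸ scalarSub τ)
  have hrad : ∀ g : N1, (∀ c, Commute (τ g) (τ c)) → (g : Γ) ∈ radSub h :=
    fun g hg => mem_rad_of_commute hso hD hp ht2 hσ g hg
  have hscalR : ∀ g : N1, (g : Γ) ∈ radSub h → g ∈ scalarSub τ := fun g hg => hσ.rad g hg
  obtain ⟨m, hm⟩ := (hD.to_le (show N1 ≤ D from fun g hg => hg.1)).exists_card_eq
  have hcard : (Nat.card N1 : K) ≠ 0 := by rw [hm, Nat.cast_pow]; exact pow_ne_zero _ hsK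
  have hli : LinearIndependent K (fun a : N1 ⧸ scalarSub τ => τ a.out) := by
    refine Fintype.linearIndependent_iff.mpr fun c hc => ?_
    refine congrFun (reps_indep τ hcard (fun a b => ⟨_, hσ.com a b⟩) (fun g hg => hscalR g (hrad g hg)) ⊤
      (fun _ _ _ => Submodule.mem_top) top_ne_bot (fun a => a.out) (fun a b hab => by
        rw [← QuotientGroup.out_eq' a, ← QuotientGroup.out_eq' b]; exact QuotientGroup.eq.mpr hab) c
      fun w _ => ?_)
    simpa [LinearMap.sum_apply] using LinearMap.congr_fun hc w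
  have h1 := hli.fintype_card_le_finrank
  rw [Module.finrank_linearMap, ← Nat.card_eq_fintype_card] at h1
  have h2 : Nat.card (N1 ⧸ scalarSub τ) = s ^ 2 := by
    rw [← hidx, Subgroup.relIndex, ← Subgroup.index_eq_card]
    congr 1
    ext g
    exact ⟨fun ⟨c, hc⟩ => hrad g fun c' => by rw [hc]; exact (Commute.one_left _).smul_left c, hscalR g⟩
  rw [h2, sq] at h1
  exact Nat.mul_self_le_mul_self_iff.mp h1

omit hsK [Nontrivial U] in
theorem rank_bound (htG : t ∈ G1) {g : Γ} (hg : g ∈ antiSub h t ht) (hgR : g ∉ radSub h) {r : ℕ}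
    (hr : finrank K (LinearMap.range (σ ⟨t, htG⟩ - 1)) ≤ r) : (s - 1) * finrank K U ≤ 2 * r * s := by
  set T := σ ⟨t, htG⟩ with hT
  set N1 := antiSub h t ht with hN1
  set y := g⁻¹ * (t * g * t⁻¹) with hy
  have hyN : y ∈ N1 := comm_mem_anti hp ht2 hg.1
  have hyR : y ∉ radSub h := fun hr' => hgR (anti_free hso hD hg (not_mem_rad_of_twist hg.1 (ht g hg.1) hr'))
  obtain ⟨c, hc, hcl⟩ : ∃ c ∈ N1, lam y c ≠ 1 := by
    by_contra! hall
    exact hyR (anti_nondeg hp ht2 hso hD hyN hall)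
  set ζ := lam y c with hζ
  obtain ⟨m, hm⟩ : ∃ m, ζ ^ s ^ m = 1 := lam_pow_eq_one hD hyN.1 hc.1 h
  have hζ0 : ζ ≠ 0 := h.ne_zero hyN.1 hc.1
  have hζinj : ∀ i j, i < s → j < s → ζ ^ i = ζ ^ j → i = j := by
    suffices hlt : ∀ i j, i < j → j < s → ζ ^ i ≠ ζ ^ j by
      intro i j hi hj e
      rcases Nat.lt_trichotomy i j with h' | h' | h'
      · exact absurd e (hlt i j h' hj)
      · exact h'
      · exact absurd e.symm (hlt j i h' hi)
    intro i j hij hj e
    have h1 : ζ ^ (j - i) = 1 := by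
      refine mul_left_cancel₀ (pow_ne_zero i hζ0) ?_
      rw [← pow_add, Nat.add_sub_cancel' hij.le, mul_one, e]
    have hcop : Nat.Coprime (j - i) (s ^ m) := Nat.Coprime.pow_right m
      (Nat.Coprime.symm (hsf.out.coprime_iff_not_dvd.mpr fun hd =>
        absurd (Nat.le_of_dvd (by omega) hd) (by omega)))
    have := pow_gcd_eq_one.mpr ⟨h1, hm⟩
    rw [hcop.gcd_eq_one, pow_one] at this
    exact hcl this
  have hFinj : Function.Injective (σ ⟨c, hσ.le c hc⟩) := Function.LeftInverse.injective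
    (g := σ ⟨c, hσ.le c hc⟩⁻¹) fun w => by rw [← Module.End.mul_apply, ← map_mul, inv_mul_cancel, map_one]; rfl
  have hyc : σ ⟨y, hσ.le y hyN⟩ * σ ⟨c, hσ.le c hc⟩ = ζ • (σ ⟨c, hσ.le c hc⟩ * σ ⟨y, hσ.le y hyN⟩) := by
    rw [← map_mul, ← map_mul, show (⟨y, hσ.le y hyN⟩ * ⟨c, hσ.le c hc⟩ : G1) =
      ⁅(⟨y, hσ.le y hyN⟩ : G1), ⟨c, hσ.le c hc⟩⁆ * (⟨c, hσ.le c hc⟩ * ⟨y, hσ.le y hyN⟩) by
        simp only [commutatorElement_def]; group, map_mul, hσ.com ⟨y, hyN⟩ ⟨c, hc⟩, smul_mul_assoc, one_mul]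
  have heig := eigen_bound (σ ⟨y, hσ.le y hyN⟩) (σ ⟨c, hσ.le c hc⟩) hFinj ζ
    (fun w => LinearMap.congr_fun hyc w) s hζinj
  have hfix : finrank K ↥(LinearMap.ker (T - 1) ⊓ LinearMap.ker ((T - 1) * σ ⟨g, hσ.le g hg⟩)) ≤
      finrank K (LinearMap.ker (σ ⟨y, hσ.le y hyN⟩ - 1)) := by
    refine Submodule.finrank_mono fun w hw => ?_
    obtain ⟨h1, h2⟩ := mem_fix_inf hw
    rw [LinearMap.mem_ker, LinearMap.sub_apply, Module.End.one_apply, sub_eq_zero]
    have e : (⟨y, hσ.le y hyN⟩ : G1) =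
        ⟨g, hσ.le g hg⟩⁻¹ * (⟨t, htG⟩ * ⟨g, hσ.le g hg⟩ * ⟨t, htG⟩⁻¹) := rfl
    have e2 : (⟨t, htG⟩ : G1)⁻¹ = ⟨t, htG⟩ := Subtype.ext (eq_inv_of_mul_eq_one_left ht2).symm
    rw [e, e2, map_mul, map_mul, map_mul, Module.End.mul_apply, Module.End.mul_apply, Module.End.mul_apply,
      ← hT, h1, h2, ← Module.End.mul_apply, ← map_mul, inv_mul_cancel, map_one, Module.End.one_apply]
  have hinf := finrank_fix_inf T (σ ⟨g, hσ.le g hg⟩) hr
  have h3 : s * finrank K U ≤ finrank K U + 2 * r * s := by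
    calc s * finrank K U ≤ s * (finrank K (LinearMap.ker (σ ⟨y, hσ.le y hyN⟩ - 1)) + 2 * r) :=
          Nat.mul_le_mul_left s (hinf.trans (Nat.add_le_add_right hfix _))
      _ ≤ _ := by rw [Nat.mul_add, Nat.mul_comm s (2 * r)]; exact Nat.add_le_add_right heig _
  rw [Nat.sub_mul, one_mul]
  omega

theorem two_le_rank (hs : s = 3) (hidx : (radSub h).relIndex (antiSub h t ht) = s ^ 2) (htG : t ∈ G1)
    {g : Γ} (hg : g ∈ antiSub h t ht) (hgR : g ∉ radSub h) {b : Γ} (hbG : b ∈ G1) (hbp : Preserves D lam b)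
    (hb2 : b * b = t) (hBfix : ∀ w, σ ⟨b, hbG⟩ w = w → w = 0) :
    2 ≤ finrank K (LinearMap.range (σ ⟨t, htG⟩ - 1)) := by
  by_contra hlt
  have hdim := le_finrank hso hsK hD hp ht2 hσ hidx
  set T := σ ⟨t, htG⟩ with hT
  set B := σ ⟨b, hbG⟩ with hB
  have hinf := finrank_fix_inf T (σ ⟨g, hσ.le g hg⟩) (r := 1) (by omega)
  obtain ⟨w, hw, hw0⟩ := Submodule.exists_mem_ne_zero_of_ne_bot
    (p := LinearMap.ker (T - 1) ⊓ LinearMap.ker ((T - 1) * σ ⟨g, hσ.le g hg⟩)) fun e => by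
      rw [e, finrank_bot] at hinf; omega
  obtain ⟨h1, h2⟩ := mem_fix_inf hw
  have hBT : B * B = T := by rw [hB, ← map_mul]; exact congrArg σ (Subtype.ext hb2)
  have hneg : ∀ v, T v = v → B v = -v := fun v hv => by
    refine eq_neg_of_add_eq_zero_left (hBfix _ ?_)
    rw [map_add, ← Module.End.mul_apply, hBT, hv, add_comm]
  have hbt : Commute b t := by rw [← hb2]; exact (Commute.refl b).mul_right (Commute.refl b)
  set g' := b * g * b⁻¹ with hg'
  have hg'N : g' ∈ antiSub h t ht := hbp.conj_antiSub hbt hg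
  set y := g⁻¹ * g' with hy
  have hyN : y ∈ antiSub h t ht := mul_mem (inv_mem hg) hg'N
  have hyR : y ∉ radSub h := fun hyr => hgR (anti_free hso hD hg fun c hc => by
    have hstep := not_mem_rad_of_twist hg.1 hg'N.1 hyr
    have hc' : b⁻¹ * c * b ∈ D := by simpa using hbp.inv.1 c hc
    rw [← hb2, show b * b * g * (b * b)⁻¹ = b * g' * b⁻¹ by rw [hg']; group,
      hbp.lam_conj hg'N.1 hc, hstep _ hc', ← hbp.lam_conj hg.1 hc, ← hg', hstep c hc])
  have hconjB : ∀ (a : Γ) (ha : a ∈ antiSub h t ht) (v : U),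
      σ ⟨b * a * b⁻¹, hσ.le _ (hbp.conj_antiSub hbt ha)⟩ (B v) = B (σ ⟨a, hσ.le a ha⟩ v) := by
    intro a ha v
    rw [hB, ← Module.End.mul_apply, ← Module.End.mul_apply, ← map_mul, ← map_mul]
    congr 2
    exact Subtype.ext (by show b * a * b⁻¹ * b = b * a; group)
  have hg'w : σ ⟨g', hσ.le _ hg'N⟩ w = σ ⟨g, hσ.le g hg⟩ w := by
    have h3 := hconjB g hg w
    rw [hneg w h1, hneg _ h2, map_neg] at h3
    exact neg_injective h3
  have hyw : σ ⟨y, hσ.le _ hyN⟩ w = w := by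
    rw [show (⟨y, hσ.le _ hyN⟩ : G1) = ⟨g, hσ.le g hg⟩⁻¹ * ⟨g', hσ.le _ hg'N⟩ from rfl, map_mul,
      Module.End.mul_apply, hg'w, ← Module.End.mul_apply, ← map_mul, inv_mul_cancel, map_one,
      Module.End.one_apply]
  have hy' := hbp.conj_antiSub hbt hyN
  have hbyw : σ ⟨b * y * b⁻¹, hσ.le _ hy'⟩ w = w := by
    have h3 := hconjB y hyN w
    rw [hyw, hneg w h1, map_neg] at h3
    exact neg_injective h3
  refine hyR (mem_rad_of_orth h hsf.out hs hD hp ht2 hidx hbp hb2 hyN ?_)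
  refine smul_left_injective K hw0 ?_
  show lam y (b * y * b⁻¹) • w = (1 : K) • w
  rw [one_smul, ← Module.End.one_apply (R := K) w, ← LinearMap.smul_apply,
    ← hσ.com ⟨y, hyN⟩ ⟨_, hy'⟩, Module.End.one_apply]
  have hinv : ∀ a : G1, σ a w = w → σ a⁻¹ w = w := fun a ha => by
    conv_lhs => rw [← ha]
    rw [← Module.End.mul_apply, ← map_mul, inv_mul_cancel, map_one, Module.End.one_apply]
  rw [commutatorElement_def, map_mul, map_mul, map_mul, Module.End.mul_apply, Module.End.mul_apply,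
    Module.End.mul_apply, hinv _ hbyw, hinv _ hyw, hbyw, hyw]

end Cfsg.Agent.GenA.ShultGross.Two
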