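import Cfsg.Agent.GenA.ShultGross.TwoKey
import Cfsg.Agent.GenA.ShultGross.Group

/-!
A fixed-point-free automorphism of order dividing `2 ^ (n + 1)` of a solvable group has its `2 ^ n`-th power
trivial modulo the second Fitting subgroup.
-/

set_option autoImplicit false

namespace Cfsg.Agent.GenA.ShultGross.Two

open Cfsg Subgroup
open scoped TensorProduct commutatorElement

universe u

variable {G : Type u} [Group G] [Finite G]

/-- An element of the preimage of `O_q(G / F(G))` centralizing the `q'`-part of `F(G)` is in `F(G)`. -/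
theorem mem_fitting_of_centralizes {q : ℕ} [hq : Fact q.Prime] [(fittingSubgroup G).Normal] {h' : G}
    (hh' : h' ∈ (pCore q (G ⧸ fittingSubgroup G)).comap (QuotientGroup.mk' (fittingSubgroup G)))
    (hcen : ∀ r : ℕ, r.Prime → r ≠ q → h' ∈ centralizer (pCore r G : Set G)) : h' ∈ fittingSubgroup G := by
  haveI hFc : (fittingSubgroup G).Characteristic := Cores.fittingSubgroup_characteristic
  have hFnil : Group.IsNilpotent (fittingSubgroup G) := Cores.fittingSubgroup_isNilpotent
  haveI : (pCore q (G ⧸ fittingSubgroup G)).Characteristic := Cores.pCore_characteristic q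
  set F := fittingSubgroup G with hF
  set π := QuotientGroup.mk' F with hπ
  set M := (pCore q (G ⧸ F)).comap π with hM
  have hFM : F ≤ M := fun a ha => by
    rw [hM, mem_comap, hπ, QuotientGroup.mk'_apply, (QuotientGroup.eq_one_iff a).mpr ha]; exact one_mem _
  set Fp := (pPrimeCore q ↥F).map F.subtype with hFp
  haveI : (pPrimeCore q ↥F).Characteristic := Cores.pPrimeCore_characteristic q
  haveI hFpn : Fp.Normal := by rw [hFp]; infer_instance
  have hFpF : Fp ≤ F := map_subtype_le _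
  have hFpc : (Nat.card Fp).Coprime q := by rw [hFp, card_subtype]; exact Cores.pPrimeCore_card_coprime q
  obtain ⟨i, hi⟩ : ∃ i, Fp.relIndex F = q ^ i := by
    refine ⟨_, Nat.eq_prime_pow_of_unique_prime_dvd ((Fp.subgroupOf F).index_ne_zero_of_finite) fun {s} hs hsd => ?_⟩
    by_contra hsq
    haveI := Fact.mk hs
    obtain ⟨Ss⟩ : Nonempty (Sylow s F) := inferInstance
    haveI : (Ss : Subgroup F).Normal :=
      (Group.isNilpotent_of_finite_tfae.out 0 3 rfl rfl).1 hFnil s inferInstance Ss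
    have hle : (Ss : Subgroup F) ≤ pPrimeCore q ↥F := Cores.le_pPrimeCore (by
      obtain ⟨n, hn⟩ := Ss.isPGroup'.exists_card_eq
      rw [hn]; exact ((Nat.coprime_primes hs Fact.out).mpr hsq).pow_left n)
    refine Ss.not_dvd_index (hsd.trans ?_)
    rw [relIndex, hFp, subgroupOf, comap_map_eq_self_of_injective F.subtype_injective]
    exact index_dvd_of_le hle
  obtain ⟨i', hi'⟩ := (Cores.pCore_isPGroup (G := G ⧸ F) q).exists_card_eq
  have hj : Fp.relIndex M = q ^ (i + i') := by
    have h6 := relIndex_ker π (K := M)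
    rw [QuotientGroup.ker_mk', hM, map_comap_eq_self_of_surjective (QuotientGroup.mk'_surjective F)] at h6
    rw [← relIndex_mul_relIndex Fp F M hFpF hFM, hi, h6, pow_add, hi']
  haveI hMn : M.Normal := Normal.comap inferInstance π
  set CM := M ⊓ centralizer (Fp : Set G) with hCM
  haveI hCMn : CM.Normal := inferInstance
  have hCMF : CM ≤ F := by
    refine Cores.le_fittingSubgroup ?_
    set E := Fp.subgroupOf CM with hE
    haveI : E.Normal := hFpn.subgroupOf CM
    have hEc : E ≤ center CM := fun z hz => mem_center_iff.mpr fun w =>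
      Subtype.ext (mem_centralizer_iff.mp w.2.2 z hz).symm
    have hQg' : IsPGroup q (CM ⧸ E) := by
      obtain ⟨j, -, hj'⟩ := (Nat.dvd_prime_pow hq.out).mp
        ((PLocal.PSolvable.relIndex_dvd_of_le_right (A := Fp) (inf_le_left : CM ≤ M)).trans (dvd_of_eq hj))
      exact IsPGroup.of_card (n := j) ((index_eq_card E).symm.trans hj')
    haveI := hQg'.isNilpotent
    exact Subgroup.isNilpotent_of_ker_le_center (QuotientGroup.mk' E) (by rw [QuotientGroup.ker_mk']; exact hEc)
  refine hCMF ⟨hh', ?_⟩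
  refine zpowers_le.mp (le_centralizer_iff.mp ?_)
  refine CN.le_of_forall_isPGroup fun r hr w hw hwr => ?_
  haveI := Fact.mk hr
  by_cases hw1 : w = 1
  · exact hw1 ▸ one_mem _
  have hrq : r ≠ q := by
    rintro rfl
    obtain ⟨m, hm⟩ := hwr.exists_card_eq
    rw [Nat.card_zpowers] at hm
    have hd : orderOf w ∣ Nat.card Fp := Subgroup.orderOf_dvd_natCard Fp hw
    exact hw1 (orderOf_eq_one_iff.mp (Nat.eq_one_of_dvd_coprimes ((hFpc.pow_right m)) hd hm.dvd))
  have h1 : IsPGroup r ((zpowers w).subgroupOf F) := hwr.comap_subtype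
  obtain ⟨Sw, hSw⟩ := h1.exists_le_sylow
  have h2 : w ∈ pCore r G := by
    rw [← Cores.sylow_fitting_map Sw]
    exact ⟨⟨w, hFpF hw⟩, hSw (show (⟨w, hFpF hw⟩ : F) ∈ (zpowers w).subgroupOf F from mem_zpowers w), rfl⟩
  refine mem_centralizer_iff.mpr fun z hz => ?_
  obtain ⟨j, rfl⟩ := mem_zpowers_iff.mp hz
  exact ((show Commute w h' from mem_centralizer_iff.mp (hcen r hr hrq) w h2).zpow_right j).symm.eq

set_option maxHeartbeats 1600000 in
/-- A power is trivial modulo the Fitting subgroup if its commutators with invariant Sylow parts centralize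
the parts of the Fitting subgroup. -/
theorem trivial_mod_fitting_of_centralizes {p : ℕ} [hp : Fact p.Prime] (hG : Group.IsSolvable G)
    (σ : MulAut G) {n : ℕ} (hσ : σ ^ p ^ (n + 1) = 1) (hfpf : ∀ g : G, σ g = g → g = 1)
    (hcen : ∀ s : ℕ, s.Prime → ∀ S : Subgroup G, IsPGroup s S → (∀ a ∈ S, σ a ∈ S) → ∀ v ∈ S,
      ∀ r : ℕ, r.Prime → r ≠ s → v⁻¹ * (σ ^ p ^ n) v ∈ centralizer (pCore r G : Set G)) (g : G) :
    g⁻¹ * (σ ^ p ^ n) g ∈ fittingSubgroup G := by
  classical
  haveI hFc : (fittingSubgroup G).Characteristic := Cores.fittingSubgroup_characteristic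
  set F := fittingSubgroup G with hF
  have hFnil : Group.IsNilpotent F := Cores.fittingSubgroup_isNilpotent
  set y := σ ^ p ^ n with hy
  have hpG := not_dvd_card σ hσ hfpf
  set π := QuotientGroup.mk' F with hπ
  let yq : MulAut (G ⧸ F) := QuotientGroup.congr F F y
    (le_antisymm (by rintro _ ⟨a, ha, rfl⟩; exact map_char y a ha)
      (fun a ha => ⟨y.symm a, map_char y.symm a ha, y.apply_symm_apply a⟩))
  have hyq : ∀ a : G, yq (π a) = π (y a) := fun a => rfl
  suffices hX : ∀ u ∈ fittingSubgroup (G ⧸ F), yq u = u by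
    haveI : Group.IsSolvable (G ⧸ F) := inferInstance
    have hcent : ∀ u : G ⧸ F, u⁻¹ * yq u ∈ fittingSubgroup (G ⧸ F) := fun u => by
      haveI : (fittingSubgroup (G ⧸ F)).Characteristic := Cores.fittingSubgroup_characteristic
      refine Cores.centralizer_fittingSubgroup_le (mem_centralizer_iff.mpr fun f hf => ?_)
      have h1 : yq (u * f * u⁻¹) = u * f * u⁻¹ := hX _ (Normal.conj_mem inferInstance f hf u)
      rw [map_mul, map_mul, map_inv, hX f hf] at h1
      calc f * (u⁻¹ * yq u) = u⁻¹ * (u * f * u⁻¹) * yq u := by group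
        _ = u⁻¹ * (yq u * f * (yq u)⁻¹) * yq u := by rw [h1]
        _ = _ := by group
    set u := π g
    set t := u⁻¹ * yq u with ht
    have ht' : yq t = t := hX t (hcent u)
    have hiter : ∀ i : ℕ, (yq ^ i) u = u * t ^ i := by
      intro i
      induction i with
      | zero => simp
      | succ i ih => rw [pow_succ' yq, MulAut.mul_apply, ih, map_mul, map_pow, ht', pow_succ', ← mul_assoc,
          show u * t = yq u by rw [ht]; group]
    have hyP : y ^ p = 1 := by rw [hy, ← pow_mul, ← pow_succ, hσ]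
    have hk : ∀ (i : ℕ) (a : G), (yq ^ i) (π a) = π ((y ^ i) a) := by
      intro i
      induction i with
      | zero => intro a; rfl
      | succ i ih => intro a; rw [pow_succ', MulAut.mul_apply, ih, hyq, pow_succ' y, MulAut.mul_apply]
    have htp : t ^ p = 1 := by
      have h1 := hiter p
      rw [hk, hyP, MulAut.one_apply] at h1
      exact left_eq_mul.mp h1
    have ht1 : t = 1 := by
      by_contra h
      exact hpG ((orderOf_eq_prime htp h ▸ orderOf_dvd_natCard t).trans (card_quotient_dvd_card F))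
    rw [← QuotientGroup.eq_one_iff]
    show π (g⁻¹ * y g) = 1
    rw [map_mul, map_inv, ← hyq, ← ht1, ht]
  intro u hu
  rw [Cores.fittingSubgroup_eq_iSup] at hu
  induction hu using Subgroup.iSup_induction' with
  | h1 => exact map_one yq
  | hmul a b _ _ ha hb => rw [map_mul, ha, hb]
  | hp qq u hu =>
    set q := (qq : ℕ) with hqdef
    haveI hq : Fact q.Prime := ⟨Nat.prime_of_mem_primeFactors qq.2⟩
    have hqG : q ∣ Nat.card G := (Nat.dvd_of_mem_primeFactors qq.2).trans (card_quotient_dvd_card F)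
    have hpq : p ≠ q := fun h => hpG (h ▸ hqG)
    set Oq := pCore q (G ⧸ F) with hOq
    haveI hOc : Oq.Characteristic := Cores.pCore_characteristic q
    set M := Oq.comap π with hM
    haveI : Oq.Normal := inferInstance
    have hFM : F ≤ M := fun a ha => by
      rw [hM, mem_comap, hπ, QuotientGroup.mk'_apply, (QuotientGroup.eq_one_iff a).mpr ha]; exact one_mem _
    have hMσ : ∀ a ∈ M, σ a ∈ M := fun a ha => by
      let sq : MulAut (G ⧸ F) := QuotientGroup.congr F F σ
        (le_antisymm (by rintro _ ⟨a, ha, rfl⟩; exact map_char σ a ha)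
          (fun a ha => ⟨σ.symm a, map_char σ.symm a ha, σ.apply_symm_apply a⟩))
      exact map_char (N := Oq) sq (π a) ha
    -- the semidirect product
    let φ : zpowers σ →* MulAut G := (zpowers σ).subtype
    let Γ := G ⋊[φ] zpowers σ
    haveI : Finite Γ := Finite.of_equiv _ SemidirectProduct.equivProd.symm
    let ι : G →* Γ := SemidirectProduct.inl
    have hι : Function.Injective ι := SemidirectProduct.inl_injective
    let x : Γ := SemidirectProduct.inr ⟨σ, mem_zpowers σ⟩
    have hxι : ∀ a : G, x * ι a * x⁻¹ = ι (σ a) := fun a => by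
      show SemidirectProduct.inr _ * _ * (SemidirectProduct.inr _)⁻¹ = _
      rw [← map_inv]
      exact (SemidirectProduct.inl_aut (φ := φ) ⟨σ, mem_zpowers σ⟩ a).symm
    have hxk : ∀ (i : ℕ) (a : G), x ^ i * ι a * (x ^ i)⁻¹ = ι ((σ ^ i) a) := by
      intro i
      induction i with
      | zero => intro a; simp
      | succ i ih =>
        intro a
        rw [show x ^ (i + 1) * ι a * (x ^ (i + 1))⁻¹ = x * (x ^ i * ι a * (x ^ i)⁻¹) * x⁻¹ by
          rw [pow_succ']; group, ih, hxι, pow_succ', MulAut.mul_apply]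
    have hxP : x ^ p ^ (n + 1) = 1 := by
      show (SemidirectProduct.inr _) ^ p ^ (n + 1) = 1
      rw [← map_pow, show (⟨σ, mem_zpowers σ⟩ : zpowers σ) ^ p ^ (n + 1) = 1 from Subtype.ext hσ, map_one]
    -- an invariant Sylow subgroup
    have hAM : zpowers x ≤ normalizer ((M.map ι : Subgroup Γ) : Set Γ) := by
      rw [zpowers_le]
      refine mem_normalizer_fintype ?_
      rintro _ ⟨a, ha, rfl⟩
      exact ⟨σ a, hMσ a ha, (hxι a).symm⟩
    have hcop : (Nat.card (zpowers x)).Coprime (Nat.card (M.map ι : Subgroup Γ)) := by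
      obtain ⟨k, -, hk⟩ := (Nat.dvd_prime_pow hp.out).mp (orderOf_dvd_of_pow_eq_one hxP)
      rw [Nat.card_zpowers, hk, card_map_of_injective hι]
      exact ((hp.out.coprime_iff_not_dvd.mpr fun h => hpG (h.trans (card_subgroup_dvd_card M))).pow_left k)
    obtain ⟨S, hSA⟩ := Coprime.exists_invariant_sylow q hAM hcop
      (Or.inl (Coprime.isSolvable_of_isMulCommutative (zpowers x)))
    set Q := (S : Subgroup ↥(M.map ι)).map (M.map ι).subtype with hQ
    have hQM : Q ≤ M.map ι := map_subtype_le _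
    have hQp : IsPGroup q Q := S.isPGroup'.map _
    set Qg := Q.comap ι with hQg
    have hQgM : Qg ≤ M := fun a ha => by
      obtain ⟨b, hb, e⟩ := hQM ha
      rwa [← hι e]
    have hQgQ : Qg.map ι = Q := map_comap_eq_self (hQM.trans (map_le_range ι M))
    obtain ⟨v, hv, rfl⟩ : ∃ v ∈ Qg, π v = u := by
      have hsup : Qg ⊔ F = M := by
        refine le_antisymm (sup_le hQgM hFM) (relIndex_eq_one.mp ?_)
        have h1 : (Qg ⊔ F).relIndex M ∣ Qg.relIndex M := relIndex_dvd_of_le_left M le_sup_left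
        have h2 : (Qg ⊔ F).relIndex M ∣ F.relIndex M := relIndex_dvd_of_le_left M le_sup_right
        have h3 : ¬ q ∣ Qg.relIndex M := by
          have h4 : Qg.relIndex M = Q.relIndex (M.map ι) := by
            rw [← hQgQ, relIndex_map_map_of_injective _ _ hι]
          rw [h4, hQ, relIndex, subgroupOf, comap_map_eq_self_of_injective (M.map ι).subtype_injective]
          exact S.not_dvd_index
        obtain ⟨i, hi⟩ := (Cores.pCore_isPGroup (G := G ⧸ F) q).exists_card_eq
        have h5 : F.relIndex M = q ^ i := by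
          have h6 := relIndex_ker π (K := M)
          rw [QuotientGroup.ker_mk', hM, map_comap_eq_self_of_surjective (QuotientGroup.mk'_surjective F)] at h6
          exact h6.trans hi
        obtain ⟨j, -, hj⟩ := (Nat.dvd_prime_pow hq.out).mp (h5 ▸ h2)
        rcases Nat.eq_zero_or_pos j with rfl | hj0
        · simpa using hj
        · exact absurd ((dvd_pow_self q hj0.ne').trans (hj ▸ h1)) h3
      obtain ⟨a, rfl⟩ := QuotientGroup.mk'_surjective F u
      obtain ⟨v, hv, f, hf, e⟩ := mem_sup_of_normal_right.mp (hsup.ge hu : a ∈ Qg ⊔ F)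
      refine ⟨v, hv, ?_⟩
      rw [← e, map_mul, show π f = 1 from (QuotientGroup.eq_one_iff f).mpr hf, mul_one]
    set h' := v⁻¹ * y v with hh'
    suffices hF' : h' ∈ F by
      rw [hyq]
      exact ((QuotientGroup.eq (s := F)).mpr (by rw [← hh']; exact hF')).symm
    have hQgσ : ∀ a ∈ Qg, σ a ∈ Qg := fun a ha => by
      show ι (σ a) ∈ Q
      rw [← hxι]
      exact ((mem_normalizer_iff.mp (hSA (mem_zpowers x))) _).mp ha
    have hyQg : y v ∈ Qg := by
      have : ∀ i : ℕ, (σ ^ i) v ∈ Qg := by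
        intro i
        induction i with
        | zero => simpa using hv
        | succ i ih => rw [pow_succ', MulAut.mul_apply]; exact hQgσ _ ih
      exact this _
    have hh'Q : h' ∈ Qg := mul_mem (inv_mem hv) hyQg
    -- centralizing the `r`-parts of `F` for all `r ≠ q` suffices
    refine mem_fitting_of_centralizes (hQgM hh'Q) fun r hr hrq => ?_
    exact hcen q hq.out Qg (hQp.comap_of_injective ι hι) hQgσ v hv r hr hrq

set_option maxHeartbeats 1000000 in
/-- The key lemma for an image of `G` acting faithfully on a module. -/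
theorem commutator_image_eq_one {K : Type*} [Field K] [IsAlgClosed K] {V : Type*} [AddCommGroup V] [Module K V]
    [FiniteDimensional K V] {X : Type u} [Group X] [Finite X] (ρ : X →* Module.End K V)
    (hinj : ∀ a, ρ a = 1 → a = 1) (f : G →* X) (x' : X) (σ : MulAut G) {n : ℕ}
    (hfpf : ∀ g : G, σ g = g → g = 1) (hxf : ∀ a : G, x' * f a * x'⁻¹ = f (σ a)) (hxP : x' ^ 2 ^ (n + 1) = 1)
    (hVfix : ∀ w : V, ρ x' w = w → w = 0) (hF : fittingSubgroup G ≤ f.ker) {q s : ℕ} [Fact q.Prime] [Fact s.Prime]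
    (hqo : Odd q) (hso : Odd s) (hqs : q ≠ s) (hqK : (q : K) ≠ 0) (h2K : (2 : K) ≠ 0) (Qm Sm : Subgroup G)
    (hQn : (Qm.map f).Normal) (hSσ : ∀ a ∈ Sm, σ a ∈ Sm)
    (hQq : ∀ a ∈ Qm, ∃ k : ℕ, a ^ q ^ k ∈ fittingSubgroup G)
    (hSs : ∀ a ∈ Sm, ∃ k : ℕ, a ^ s ^ k ∈ fittingSubgroup G) {v u : G} (hv : v ∈ Sm) (hu : u ∈ Qm) :
    f ⁅v⁻¹ * (σ ^ 2 ^ n) v, u⁆ = 1 := by
  have hpg : ∀ (l : ℕ) (Y : Subgroup G), (∀ a ∈ Y, ∃ k : ℕ, a ^ l ^ k ∈ fittingSubgroup G) →
      IsPGroup l (Y.map f) := by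
    intro l Y hY
    rintro ⟨_, a, ha, rfl⟩
    obtain ⟨k, hk⟩ := hY a ha
    refine ⟨k, Subtype.ext ?_⟩
    rw [SubmonoidClass.coe_pow, ← map_pow, coe_one]
    exact hF hk
  have hxk : ∀ (i : ℕ) (a : G), x' ^ i * f a * (x' ^ i)⁻¹ = f ((σ ^ i) a) := by
    intro i
    induction i with
    | zero => intro a; simp
    | succ i ih =>
      intro a
      rw [show x' ^ (i + 1) * f a * (x' ^ (i + 1))⁻¹ = x' * (x' ^ i * f a * (x' ^ i)⁻¹) * x'⁻¹ by
        rw [pow_succ']; group, ih, hxf, pow_succ', MulAut.mul_apply]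
  have hNσ : ∀ a ∈ f.ker, σ a ∈ f.ker := fun a ha => by
    show f (σ a) = 1
    rw [← hxf, show f a = 1 from ha, mul_one, mul_inv_cancel]
  have hkey := key (q := q) (s := s) hqo hso hqs hqK h2K ρ (Qm.map f) (Sm.map f) x' (n := n + 1)
    (Nat.le_add_left 1 n) (hpg q Qm hQq) (hpg s Sm hSs) (fun a _ ha => hinj a ha) hxP
    (fun b hb => by
      obtain ⟨a, ha, rfl⟩ := hb
      rw [hxf]
      exact mem_map_of_mem f (hSσ a ha))
    (fun b hb e => by
      obtain ⟨a, -, rfl⟩ := hb
      rw [hxf] at e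
      refine fix_quotient σ hfpf f.ker hNσ (g := a) ?_
      rw [MonoidHom.mem_ker, map_mul, map_inv, e, inv_mul_cancel])
    hVfix (mem_map_of_mem f hv) (mem_map_of_mem f hu)
  rw [Nat.add_sub_cancel, hxk, ← map_inv, ← map_mul] at hkey
  rw [map_commutatorElement, commutatorElement_eq_one_iff_commute]
  exact hkey

set_option maxHeartbeats 1600000 in
/-- On one part of the Fitting subgroup: a commutator with the half power centralizes. -/
theorem commutator_part_centralizes (σ : MulAut G) {n : ℕ} (hσ : σ ^ 2 ^ (n + 1) = 1)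
    (hfpf : ∀ g : G, σ g = g → g = 1) {q s r : ℕ} [hq : Fact q.Prime] [hs : Fact s.Prime] [hr : Fact r.Prime]
    (hqo : Odd q) (hso : Odd s) (hro : Odd r) (hqs : q ≠ s) (hrq : r ≠ q) (Qm Sm : Subgroup G) [hQn : Qm.Normal]
    (hQσ : ∀ a ∈ Qm, σ a ∈ Qm) (hSσ : ∀ a ∈ Sm, σ a ∈ Sm)
    (hQq : ∀ a ∈ Qm, ∃ k : ℕ, a ^ q ^ k ∈ fittingSubgroup G)
    (hSs : ∀ a ∈ Sm, ∃ k : ℕ, a ^ s ^ k ∈ fittingSubgroup G) {v u : G} (hv : v ∈ Sm) (hu : u ∈ Qm) {m : ℕ}
    (hcop : (orderOf (⁅v⁻¹ * (σ ^ 2 ^ n) v, u⁆ ^ m)).Coprime r) :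
    ⁅v⁻¹ * (σ ^ 2 ^ n) v, u⁆ ^ m ∈ centralizer (pCore r G : Set G) := by
  classical
  set c := ⁅v⁻¹ * (σ ^ 2 ^ n) v, u⁆ with hc
  let φ : zpowers σ →* MulAut G := (zpowers σ).subtype
  let Γ := G ⋊[φ] zpowers σ
  haveI : Finite Γ := Finite.of_equiv _ SemidirectProduct.equivProd.symm
  let ι : G →* Γ := SemidirectProduct.inl
  have hι : Function.Injective ι := SemidirectProduct.inl_injective
  let x : Γ := SemidirectProduct.inr ⟨σ, mem_zpowers σ⟩
  have hxι : ∀ a : G, x * ι a * x⁻¹ = ι (σ a) := fun a => by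
    show SemidirectProduct.inr _ * _ * (SemidirectProduct.inr _)⁻¹ = _
    rw [← map_inv]
    exact (SemidirectProduct.inl_aut (φ := φ) ⟨σ, mem_zpowers σ⟩ a).symm
  have hxk : ∀ (i : ℕ) (a : G), x ^ i * ι a * (x ^ i)⁻¹ = ι ((σ ^ i) a) := by
    intro i
    induction i with
    | zero => intro a; simp
    | succ i ih =>
      intro a
      rw [show x ^ (i + 1) * ι a * (x ^ (i + 1))⁻¹ = x * (x ^ i * ι a * (x ^ i)⁻¹) * x⁻¹ by
        rw [pow_succ']; group, ih, hxι, pow_succ', MulAut.mul_apply]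
  have hxP : x ^ 2 ^ (n + 1) = 1 := by
    show (SemidirectProduct.inr _) ^ 2 ^ (n + 1) = 1
    rw [← map_pow, show (⟨σ, mem_zpowers σ⟩ : zpowers σ) ^ 2 ^ (n + 1) = 1 from Subtype.ext hσ, map_one]
  have hnormal : ∀ N : Subgroup G, N.Normal → (∀ a ∈ N, σ a ∈ N) → (N.map ι).Normal := by
    intro N hN hNσ
    refine ⟨?_⟩
    rintro _ ⟨a, ha, rfl⟩ γ
    obtain ⟨i, hi⟩ := Submonoid.mem_powers_iff _ _ |>.mp
      ((isOfFinOrder_of_finite σ).mem_powers_iff_mem_zpowers.mpr γ.right.2)
    have hpow : ∀ i : ℕ, (σ ^ i) a ∈ N := by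
      intro i
      induction i with
      | zero => simpa using ha
      | succ i ih => rw [pow_succ', MulAut.mul_apply]; exact hNσ _ ih
    refine ⟨γ.left * ((γ.right : MulAut G) a) * γ.left⁻¹, hN.conj_mem _ (hi ▸ hpow i) _, ?_⟩
    rw [map_mul, map_mul, map_inv]
    show SemidirectProduct.inl γ.left * SemidirectProduct.inl (φ γ.right a) * (SemidirectProduct.inl γ.left)⁻¹ =
      γ * SemidirectProduct.inl a * γ⁻¹
    conv_rhs => rw [← SemidirectProduct.inl_left_mul_inr_right γ]
    rw [SemidirectProduct.inl_aut]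
    simp only [map_inv, mul_inv_rev, mul_assoc]
  haveI hRc : (pCore r G).Characteristic := Cores.pCore_characteristic r
  set R : Subgroup Γ := (pCore r G).map ι with hR
  haveI hRn : R.Normal := hnormal _ inferInstance (map_char σ)
  set Φ := frattini ↥R with hΦ
  let cq : Γ →* MulAut (↥R ⧸ Φ) :=
    MonoidHom.mk' (fun γ => QuotientGroup.congr Φ Φ (MulAut.conjNormal γ)
      (characteristic_iff_map_eq.mp inferInstance _)) fun a b => MulEquiv.ext fun z => by
      obtain ⟨z, rfl⟩ := QuotientGroup.mk'_surjective Φ z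
      show QuotientGroup.mk' Φ (MulAut.conjNormal (a * b) z) = QuotientGroup.mk' Φ (MulAut.conjNormal a (MulAut.conjNormal b z))
      rw [map_mul]; rfl
  have hRp : IsPGroup r R := (Cores.pCore_isPGroup r).map ι
  have hcm : ∀ a b : ↥R ⧸ Φ, a * b = b * a := fun a b => by
    obtain ⟨a, rfl⟩ := QuotientGroup.mk'_surjective Φ a
    obtain ⟨b, rfl⟩ := QuotientGroup.mk'_surjective Φ b
    rw [← map_mul, ← map_mul]
    refine QuotientGroup.eq.mpr ?_
    haveI := hRp.isNilpotent
    rw [show (a * b)⁻¹ * (b * a) = ⁅b⁻¹, a⁻¹⁆ by rw [commutatorElement_def]; group]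
    exact Coprime.commutator_le_frattini R (commutator_mem_commutator (mem_top b⁻¹) (mem_top a⁻¹))
  letI : CommGroup (↥R ⧸ Φ) := { (inferInstance : Group (↥R ⧸ Φ)) with mul_comm := hcm }
  have hexp : ∀ a : ↥R ⧸ Φ, a ^ r = 1 := fun a => by
    obtain ⟨a, rfl⟩ := QuotientGroup.mk'_surjective Φ a
    rw [← map_pow]
    exact (QuotientGroup.eq_one_iff _).mpr (Solvable.Basics.pow_mem_frattini hRp a)
  have hfixA : ∀ a : ↥R ⧸ Φ, cq x a = a → a = 1 := fun a ha => by
    obtain ⟨a, rfl⟩ := QuotientGroup.mk'_surjective Φ a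
    have hfp : ∀ a : R, MulAut.conjNormal x a = a → a = 1 := fun a e => by
      obtain ⟨b, hb, hbe⟩ := a.2
      have e' : x * (a : Γ) * x⁻¹ = a := by rw [← MulAut.conjNormal_apply, e]
      rw [← hbe, hxι] at e'
      refine Subtype.ext ?_
      rw [← hbe, hfpf b (hι e'), map_one, coe_one]
    exact (QuotientGroup.eq_one_iff a).mpr (fix_quotient (MulAut.conjNormal (H := R) x) hfp Φ (map_char _) (g := a)
      (QuotientGroup.eq.mp ha.symm))
  -- the Fitting subgroup acts trivially
  set N := (cq.comp ι).ker with hN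
  have hFN : fittingSubgroup G ≤ N := by
    rw [Cores.fittingSubgroup_eq_iSup]
    refine iSup_le fun l => fun f hf => MulEquiv.ext fun z => ?_
    haveI : Fact (l : ℕ).Prime := ⟨Nat.prime_of_mem_primeFactors l.2⟩
    obtain ⟨z, rfl⟩ := QuotientGroup.mk'_surjective Φ z
    show QuotientGroup.mk' Φ (MulAut.conjNormal (ι f) z) = QuotientGroup.mk' Φ z
    by_cases hlr : (l : ℕ) = r
    · have hfR : ι f ∈ R := mem_map_of_mem ι (hlr ▸ hf)
      rw [show MulAut.conjNormal (ι f) z = (⟨ι f, hfR⟩ : R) * z * (⟨ι f, hfR⟩ : R)⁻¹ from Subtype.ext (by simp),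
        map_mul, map_mul, map_inv, hcm (QuotientGroup.mk' Φ ⟨ι f, hfR⟩), mul_inv_cancel_right]
    · congr 1
      refine Subtype.ext ?_
      obtain ⟨a, ha, hae⟩ := z.2
      haveI : (pCore (l : ℕ) G).Characteristic := Cores.pCore_characteristic _
      have hd : Disjoint (pCore (l : ℕ) G) (pCore r G) :=
        (Cores.pCore_isPGroup (l : ℕ)).disjoint_of_ne _ _ hlr _ _ (Cores.pCore_isPGroup r)
      have hco : Commute f a := commute_of_normal_of_disjoint _ _ inferInstance inferInstance hd f a hf ha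
      rw [MulAut.conjNormal_apply, ← hae, ← map_mul, hco.eq, map_mul, mul_inv_cancel_right]
  have hNσ : ∀ a ∈ N, σ a ∈ N := fun a ha => by
    show cq (ι (σ a)) = 1
    rw [← hxι, map_mul, map_mul, show cq (ι a) = 1 from ha, mul_one, ← map_mul, mul_inv_cancel, map_one]
  suffices hc1 : cq (ι c) = 1 by
    have hrcop : (Nat.card (zpowers (ι (c ^ m)))).Coprime (Nat.card Φ) := by
      obtain ⟨m', hm'⟩ := (hRp.to_subgroup Φ).exists_card_eq
      rw [Nat.card_zpowers, orderOf_injective ι hι, hm']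
      exact hcop.pow_right _
    have h1' : cq (ι (c ^ m)) = 1 := by rw [map_pow, map_pow, hc1, one_pow]
    have hcent := Coprime.le_centralizer_of_frattini (A := zpowers (ι (c ^ m))) (K := R) le_normalizer_of_normal hrcop
      (fun a ha k hk => by
        obtain ⟨j, rfl⟩ := mem_zpowers_iff.mp ha
        have h2 : cq (ι (c ^ m) ^ j) (QuotientGroup.mk' Φ ⟨k, hk⟩) = QuotientGroup.mk' Φ ⟨k, hk⟩ := by
          rw [map_zpow, h1', one_zpow]; rfl
        have h3 := QuotientGroup.eq.mp h2.symm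
        refine ⟨(⟨ι (c ^ m) ^ j * k * (ι (c ^ m) ^ j)⁻¹, hRn.conj_mem k hk _⟩ : R) * ⟨k, hk⟩⁻¹, ?_, rfl⟩
        have hnorm : Φ.Normal := inferInstance
        have h4 := hnorm.conj_mem _ h3 ⟨k, hk⟩
        rwa [mul_inv_cancel_left] at h4)
    refine mem_centralizer_iff.mpr fun z hz => hι ?_
    have := mem_centralizer_iff.mp (hcent (mem_zpowers _)) (ι z) (mem_map_of_mem ι hz)
    rw [map_mul, map_mul]
    exact this
  -- the linear group
  haveI hM : Module (ZMod r) (Additive (↥R ⧸ Φ)) := AddCommGroup.zmodModule fun w => by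
    refine Additive.toMul.injective ?_
    rw [toMul_nsmul, toMul_zero, hexp]
  haveI : Finite (Additive (↥R ⧸ Φ)) := Finite.of_equiv _ Additive.ofMul
  haveI : Module.Finite (ZMod r) (Additive (↥R ⧸ Φ)) := Module.Finite.of_finite
  let Kr := AlgebraicClosure (ZMod r)
  haveI : CharP Kr r := charP_of_injective_algebraMap (algebraMap (ZMod r) Kr).injective r
  have hne : ∀ l : ℕ, l.Prime → l ≠ r → (l : Kr) ≠ 0 := fun l hl hlr h => hlr
    ((Nat.prime_dvd_prime_iff_eq hr.out hl).mp ((CharP.cast_eq_zero_iff Kr r l).mp h)).symm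
  have h2K : (2 : Kr) ≠ 0 := by
    exact_mod_cast hne 2 Nat.prime_two (by rintro rfl; exact absurd hro (by decide))
  let bc : Module.End (ZMod r) (Additive (↥R ⧸ Φ)) →ₐ[ZMod r] Module.End Kr (Kr ⊗[ZMod r] Additive (↥R ⧸ Φ)) :=
    Module.End.baseChangeHom (ZMod r) Kr (Additive (↥R ⧸ Φ))
  have hbc : Function.Injective bc := fun a b h =>
    LinearMap.baseChangeHom_injective (ZMod r) _ (M := Additive (↥R ⧸ Φ)) h
  let ρ : cq.range →* Module.End Kr (Kr ⊗[ZMod r] Additive (↥R ⧸ Φ)) :=
    bc.toMonoidHom.comp (toEnd r cq.range.subtype)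
  let f : G →* cq.range := cq.rangeRestrict.comp ι
  set x' := cq.rangeRestrict x with hx'
  have hxf : ∀ a : G, x' * f a * x'⁻¹ = f (σ a) := fun a => by
    show _ = cq.rangeRestrict (ι (σ a))
    rw [← hxι, map_mul, map_mul, map_inv]; rfl
  have hinj : ∀ a : cq.range, ρ a = 1 → a = 1 := fun a ha => Subtype.ext (MulEquiv.ext fun z => by
    have h1 : toEnd r cq.range.subtype a = 1 := hbc (by rw [map_one]; exact ha)
    exact congrArg Additive.toMul (LinearMap.congr_fun h1 (Additive.ofMul z)))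
  have hVfix : ∀ w, ρ x' w = w → w = 0 := by
    have h0 : Function.Injective (toEnd r cq.range.subtype x' - 1 : Module.End (ZMod r) (Additive (↥R ⧸ Φ))) := by
      refine (injective_iff_map_eq_zero _).mpr fun v hv => ?_
      refine Additive.toMul.injective (hfixA _ ?_)
      exact congrArg Additive.toMul (sub_eq_zero.mp hv)
    have h1 : Function.Injective (bc (toEnd r cq.range.subtype x' - 1)) := by
      show Function.Injective ((toEnd r cq.range.subtype x' - 1).baseChange Kr)
      rw [LinearMap.baseChange_eq_ltensor]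
      exact Module.Flat.lTensor_preserves_injective_linearMap _ h0
    intro w hw
    refine h1 ?_
    rw [map_sub, map_one, LinearMap.sub_apply, Module.End.one_apply, map_zero, sub_eq_zero]
    exact hw
  have hQ' : (Qm.map f).Normal := by
    rw [← map_map]
    exact (hnormal Qm hQn hQσ).map _ cq.rangeRestrict_surjective
  exact congrArg Subtype.val (commutator_image_eq_one ρ hinj f x' σ hfpf hxf (by rw [hx', ← map_pow, hxP, map_one])
    hVfix (fun a ha => Subtype.ext (hFN ha)) hqo hso hqs (hne q hq.out (Ne.symm hrq)) h2K Qm Sm hQ' hSσ hQq hSs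
    hv hu)

set_option maxHeartbeats 800000 in
/-- The half power is trivial modulo the second Fitting subgroup. -/
theorem pow_trivial_mod_second_fitting (hG : Group.IsSolvable G) [(fittingSubgroup G).Normal] (σ : MulAut G)
    {n : ℕ} (hσ : σ ^ 2 ^ (n + 1) = 1) (hfpf : ∀ g : G, σ g = g → g = 1) (g : G) :
    (QuotientGroup.mk' (fittingSubgroup G) g)⁻¹ * QuotientGroup.mk' (fittingSubgroup G) ((σ ^ 2 ^ n) g) ∈
      fittingSubgroup (G ⧸ fittingSubgroup G) := by
  classical
  haveI hFc : (fittingSubgroup G).Characteristic := Cores.fittingSubgroup_characteristic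
  set F := fittingSubgroup G with hF
  set π := QuotientGroup.mk' F with hπ
  let sq : MulAut (G ⧸ F) := QuotientGroup.congr F F σ
    (le_antisymm (by rintro _ ⟨a, ha, rfl⟩; exact map_char σ a ha)
      (fun a ha => ⟨σ.symm a, map_char σ.symm a ha, σ.apply_symm_apply a⟩))
  have hsq : ∀ a : G, sq (π a) = π (σ a) := fun a => rfl
  have hsqk : ∀ (i : ℕ) (a : G), (sq ^ i) (π a) = π ((σ ^ i) a) := by
    intro i
    induction i with
    | zero => intro a; rfl
    | succ i ihi => intro a; rw [pow_succ', MulAut.mul_apply, ihi, hsq, pow_succ' σ, MulAut.mul_apply]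
  have hsqP : sq ^ 2 ^ (n + 1) = 1 := MulEquiv.ext fun u => by
    obtain ⟨a, rfl⟩ := QuotientGroup.mk'_surjective F u
    rw [hsqk, hσ, MulAut.one_apply, MulAut.one_apply]
  have hsqf : ∀ u : G ⧸ F, sq u = u → u = 1 := fun u hu => by
    obtain ⟨a, rfl⟩ := QuotientGroup.mk'_surjective F u
    rw [hsq] at hu
    exact (QuotientGroup.eq_one_iff a).mpr (fix_quotient σ hfpf F (map_char σ) (QuotientGroup.eq.mp hu.symm))
  have h2G := not_dvd_card (p := 2) σ hσ hfpf
  haveI := hG
  rw [← hsqk]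
  refine trivial_mod_fitting_of_centralizes (p := 2) (inferInstance : Group.IsSolvable (G ⧸ F)) sq hsqP hsqf ?_ (π g)
  intro s hs S hS hSσ v hv q hq hqs
  haveI := Fact.mk hs
  haveI := Fact.mk hq
  haveI hOc : (pCore q (G ⧸ F)).Characteristic := Cores.pCore_characteristic q
  refine mem_centralizer_iff.mpr fun w hw => ?_
  by_cases hw1 : w = 1
  · rw [hw1, one_mul, mul_one]
  by_cases hv1 : v = 1
  · rw [hv1, map_one]; group
  have hodd : ∀ (l : ℕ) (Y : Subgroup (G ⧸ F)), l.Prime → IsPGroup l Y → ∀ z ∈ Y, z ≠ 1 → Odd l := by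
    intro l Y hl hY z hz hz1
    refine hl.odd_of_ne_two fun hl2 => h2G ?_
    subst hl2
    obtain ⟨k, hk⟩ := hY.exists_card_eq
    rcases Nat.eq_zero_or_pos k with rfl | hk0
    · exact absurd (mem_bot.mp ((eq_bot_of_card_eq Y (by rw [hk, pow_zero])) ▸ hz)) hz1
    · exact ((hk ▸ dvd_pow_self 2 hk0.ne').trans (card_subgroup_dvd_card Y)).trans (card_quotient_dvd_card F)
  have hqo : Odd q := hodd q _ hq (Cores.pCore_isPGroup q) w hw hw1
  have hso : Odd s := hodd s S hs hS v hv hv1
  obtain ⟨v, rfl⟩ := QuotientGroup.mk'_surjective F v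
  obtain ⟨u, rfl⟩ := QuotientGroup.mk'_surjective F w
  rw [hsqk]
  set c := ⁅v⁻¹ * (σ ^ 2 ^ n) v, u⁆ with hc
  suffices hcF : c ∈ F by
    have h1 : π c = 1 := (QuotientGroup.eq_one_iff c).mpr hcF
    rw [hc, map_commutatorElement, commutatorElement_eq_one_iff_commute, map_mul, map_inv] at h1
    exact h1.symm.eq
  set M := (pCore q (G ⧸ F)).comap π with hM
  haveI : M.Normal := Normal.comap inferInstance π
  have hMσ : ∀ a ∈ M, σ a ∈ M := fun a ha => map_char (N := pCore q (G ⧸ F)) sq (π a) ha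
  have hpow : ∀ (l : ℕ) (Y : Subgroup (G ⧸ F)), IsPGroup l Y → ∀ a ∈ Y.comap π, ∃ k : ℕ, a ^ l ^ k ∈ F := by
    intro l Y hY a ha
    obtain ⟨k, hk⟩ := hY ⟨π a, ha⟩
    refine ⟨k, (QuotientGroup.eq_one_iff _).mp ?_⟩
    have := congrArg Subtype.val hk
    simpa [hπ] using this
  have hcM : c ∈ M := mul_mem (Normal.conj_mem inferInstance u hw _) (inv_mem hw)
  obtain ⟨k, hk⟩ := hpow q _ (Cores.pCore_isPGroup q) c hcM
  obtain ⟨a, m, hm, hord⟩ := Nat.exists_eq_pow_mul_and_not_dvd (orderOf_pos c).ne' q hq.ne_one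
  have hcm : c ^ m ∈ F := by
    refine mem_fitting_of_centralizes (q := q) (pow_mem hcM m) fun r hr hrq => ?_
    haveI := Fact.mk hr
    by_cases hR1 : pCore r G = ⊥
    · rw [hR1]; exact mem_centralizer_iff.mpr fun z hz => by rw [mem_bot.mp hz, one_mul, mul_one]
    have hro : Odd r := hr.odd_of_ne_two fun hr2 => h2G (by
      subst hr2
      obtain ⟨i, hi⟩ := (Cores.pCore_isPGroup (G := G) 2).exists_card_eq
      rcases Nat.eq_zero_or_pos i with rfl | hi0
      · exact absurd (eq_bot_of_card_eq _ (by rw [hi, pow_zero])) hR1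
      · exact (hi ▸ dvd_pow_self 2 hi0.ne').trans (card_subgroup_dvd_card _))
    refine commutator_part_centralizes σ hσ hfpf hqo hso hro hqs hrq M (S.comap π) hMσ
      (fun a ha => by show π (σ a) ∈ S; rw [← hsq]; exact hSσ _ ha)
      (hpow q _ (Cores.pCore_isPGroup q)) (hpow s S hS) hv hw ?_
    refine Nat.Coprime.coprime_dvd_left ?_ (((Nat.coprime_primes hq hr).mpr (Ne.symm hrq)).pow_left a)
    refine orderOf_dvd_of_pow_eq_one ?_
    rw [← pow_mul, mul_comm, ← hord, pow_orderOf_eq_one]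
  have h1 : π c ^ m = 1 := by rw [← map_pow]; exact (QuotientGroup.eq_one_iff _).mpr hcm
  have h2 : π c ^ q ^ k = 1 := by rw [← map_pow]; exact (QuotientGroup.eq_one_iff _).mpr hk
  have h3 := pow_gcd_eq_one.mpr ⟨h1, h2⟩
  rw [Nat.Coprime.gcd_eq_one (Nat.Coprime.pow_right k (hq.coprime_iff_not_dvd.mpr hm).symm), pow_one] at h3
  exact (QuotientGroup.eq_one_iff c).mp h3

end Cfsg.Agent.GenA.ShultGross.Two
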