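import Cfsg.Agent.GenA.ShultGross.TwoUpper
import Cfsg.Agent.Techniques.Critical
import Cfsg.Agent.Lib.Coprime.PGroup

/-!
An element of two-power order without fixed points on a normal `q`-group and on a faithful module for it:
the commutators of its half power with an invariant `s`-group centralize the `q`-group.
-/

set_option autoImplicit false

namespace Cfsg.Agent.GenA.ShultGross.Two

open Module (End)
open Cfsg.Agent.PLocal.TheoremB (Normalizes)
open scoped commutatorElement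

universe u

variable {K : Type*} [Field K] [IsAlgClosed K] {V : Type*} [AddCommGroup V] [Module K V] [FiniteDimensional K V]
variable {Γ : Type u} [Group Γ] [Finite Γ]

set_option maxHeartbeats 1000000 in
theorem key {q s : ℕ} [hqf : Fact q.Prime] [hsf : Fact s.Prime] (hqo : Odd q) (hso : Odd s) (hqs : q ≠ s)
    (hqK : (q : K) ≠ 0) (h2K : (2 : K) ≠ 0) (ρ : Γ →* End K V) (Q S : Subgroup Γ) [Q.Normal] (x : Γ)
    {n : ℕ} (hn : 1 ≤ n) (hQ : IsPGroup q Q) (hS : IsPGroup s S) (hfaith : ∀ g ∈ Q, ρ g = 1 → g = 1)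
    (hxP : x ^ 2 ^ n = 1) (hxS : Normalizes x S) (hQfix : ∀ g ∈ Q, x * g * x⁻¹ = g → g = 1)
    (hVfix : ∀ v : V, ρ x v = v → v = 0) {v : Γ} (hv : v ∈ S) {g : Γ} (hg : g ∈ Q) :
    Commute (v⁻¹ * (x ^ 2 ^ (n - 1) * v * (x ^ 2 ^ (n - 1))⁻¹)) g := by
  classical
  set t := x ^ 2 ^ (n - 1) with ht
  set e := v⁻¹ * (t * v * t⁻¹) with he
  have ht2 : t * t = 1 := by rw [ht, ← pow_add, ← two_mul, ← pow_succ', Nat.sub_add_cancel hn, hxP]
  have et : t⁻¹ = t := (eq_inv_of_mul_eq_one_left ht2).symm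
  -- a critical subgroup
  obtain ⟨C0, hC0c, hC0Φ, hC0com, hC0C⟩ := Techniques.Critical.exists_critical hQ
  haveI := hC0c
  set C : Subgroup Γ := C0.map Q.subtype with hC
  haveI hCn : C.Normal := by rw [hC]; infer_instance
  have hCQ : C ≤ Q := Subgroup.map_subtype_le _
  have hCmem : ∀ {a : Γ} (ha : a ∈ Q), a ∈ C ↔ (⟨a, ha⟩ : Q) ∈ C0 := fun {a} ha => by
    refine ⟨fun ⟨b, hb, e⟩ => ?_, fun h => ⟨_, h, rfl⟩⟩
    rwa [show (⟨a, ha⟩ : Q) = b from Subtype.ext e.symm]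
  have hcent : ∀ {a : Q}, a ∈ Subgroup.centralizer (C0 : Set Q) → (a : Γ) ∈ Subgroup.centralizer (C : Set Γ) := by
    intro a ha
    refine Subgroup.mem_centralizer_iff.mpr ?_
    rintro _ ⟨b, hb, rfl⟩
    exact congrArg Subtype.val (Subgroup.mem_centralizer_iff.mp ha b hb)
  set Z : Subgroup Γ := C ⊓ Subgroup.centralizer (C : Set Γ) with hZ
  haveI hZn : Z.Normal := inferInstance
  have hcomZ : ∀ a ∈ C, ∀ b ∈ C, ⁅a, b⁆ ∈ Z := by
    rintro _ ⟨a, ha, rfl⟩ _ ⟨b, -, rfl⟩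
    have h1 := hC0com (Subgroup.commutator_mem_commutator ha (Subgroup.mem_top b))
    rw [← map_commutatorElement]
    exact ⟨⟨_, h1.1, rfl⟩, hcent h1.2⟩
  have hpowZ : ∀ a ∈ C, a ^ q ∈ Z := by
    rintro _ ⟨a, ha, rfl⟩
    refine ⟨pow_mem (Subgroup.mem_map_of_mem _ ha) q, ?_⟩
    have h1 : (⟨a, ha⟩ : C0) ^ q ∈ frattini C0 := Solvable.Basics.pow_mem_frattini (hQ.to_subgroup C0) _
    rw [← map_pow]
    exact hcent (a := a ^ q) (hC0Φ ⟨_, h1, by simp⟩)
  have hZcomm : ∀ a ∈ Z, ∀ b ∈ C, Commute a b := fun a ha b hb => (Subgroup.mem_centralizer_iff.mp ha.2 b hb).symm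
  -- `t` centralizes `Z`
  have htZ : ∀ z ∈ Z, t * z * t⁻¹ = z := by
    intro z hz
    have h1 := abelian_fix ρ Z x hn hqK (hQ.to_le (inf_le_left.trans hCQ))
      (fun a ha => hZn.conj_mem a ha x)
      (fun a ha b hb => (hZcomm a ha b hb.1).map ρ) hxP hVfix hz
    refine mul_inv_eq_one.mp (hfaith _ (mul_mem (hCQ (hZn.conj_mem z hz t).1) (inv_mem (hCQ hz.1))) ?_)
    rw [map_mul, h1, ← map_mul, mul_inv_cancel, map_one]
  -- the part of `S` centralizing `Z`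
  set S1 := S ⊓ Subgroup.centralizer (Z : Set Γ) with hS1
  have hxS1 : Normalizes x S1 := fun a ha => ⟨hxS a ha.1, Subgroup.mem_centralizer_iff.mpr fun z hz => by
    have h1 := Subgroup.mem_centralizer_iff.mp ha.2 (x⁻¹ * z * x) (by simpa using hZn.conj_mem z hz x⁻¹)
    calc z * (x * a * x⁻¹) = x * (x⁻¹ * z * x * a) * x⁻¹ := by group
      _ = x * (a * (x⁻¹ * z * x)) * x⁻¹ := by rw [h1]
      _ = _ := by group⟩
  have heS1 : e ∈ S1 := by
    refine Subgroup.mem_inf.mpr ⟨mul_mem (inv_mem hv) (hxS.pow _ v hv), Subgroup.mem_centralizer_iff.mpr fun z hz => ?_⟩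
    have h1 : e * z * e⁻¹ = z := by
      calc e * z * e⁻¹ = v⁻¹ * (t * (v * (t⁻¹ * z * t) * v⁻¹) * t⁻¹) * v := by rw [he]; group
        _ = v⁻¹ * (t * (v * z * v⁻¹) * t⁻¹) * v := by
          congr 6
          conv_lhs => rw [← htZ z hz]
          group
        _ = _ := by rw [htZ _ (hZn.conj_mem z hz v)]; group
    exact (eq_mul_inv_iff_mul_eq.mp h1.symm)
  -- the module `C / Z`
  set N0 := Z.subgroupOf C with hN0
  let cC : Γ →* MulAut (C ⧸ N0) :=
    MonoidHom.mk' (fun γ => QuotientGroup.congr N0 N0 (MulAut.conjNormal γ) (by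
      ext a
      constructor
      · rintro ⟨b, hb, rfl⟩
        exact hZn.conj_mem _ hb γ
      · intro ha
        refine ⟨(MulAut.conjNormal γ).symm a, ?_, (MulAut.conjNormal γ).apply_symm_apply a⟩
        show ((MulAut.conjNormal γ).symm a : Γ) ∈ Z
        rw [MulAut.conjNormal_symm_apply]
        simpa using hZn.conj_mem _ ha γ⁻¹)) fun a b => MulEquiv.ext fun z => by
      obtain ⟨z, rfl⟩ := QuotientGroup.mk'_surjective N0 z
      show QuotientGroup.mk' N0 (MulAut.conjNormal (a * b) z) =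
        QuotientGroup.mk' N0 (MulAut.conjNormal a (MulAut.conjNormal b z))
      rw [map_mul]; rfl
  have hcm : ∀ a b : C ⧸ N0, a * b = b * a := fun a b => by
    obtain ⟨a, rfl⟩ := QuotientGroup.mk'_surjective N0 a
    obtain ⟨b, rfl⟩ := QuotientGroup.mk'_surjective N0 b
    rw [← map_mul, ← map_mul]
    refine QuotientGroup.eq.mpr ?_
    rw [show (a * b)⁻¹ * (b * a) = ⁅b⁻¹, a⁻¹⁆ by rw [commutatorElement_def]; group]
    exact hcomZ _ (inv_mem b.2) _ (inv_mem a.2)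
  letI : CommGroup (C ⧸ N0) := { (inferInstance : Group (C ⧸ N0)) with mul_comm := hcm }
  have hexp : ∀ a : C ⧸ N0, a ^ q = 1 := fun a => by
    obtain ⟨a, rfl⟩ := QuotientGroup.mk'_surjective N0 a
    rw [← map_pow]
    exact (QuotientGroup.eq_one_iff _).mpr (hpowZ _ a.2)
  have hsmul : ∀ w : Additive (C ⧸ N0), q • w = 0 := fun w => by
    refine Additive.toMul.injective ?_
    rw [toMul_nsmul, toMul_zero, hexp]
  haveI hM : Module (ZMod q) (Additive (C ⧸ N0)) := AddCommGroup.zmodModule hsmul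
  have hfixA : ∀ a : C ⧸ N0, cC x a = a → a = 1 := fun a ha => by
    obtain ⟨a, rfl⟩ := QuotientGroup.mk'_surjective N0 a
    have hfp : ∀ a : C, MulAut.conjNormal x a = a → a = 1 := fun a e => Subtype.ext (hQfix _ (hCQ a.2) (by
      rw [← MulAut.conjNormal_apply, e]))
    exact (QuotientGroup.eq_one_iff a).mpr (fix_quotient (MulAut.conjNormal (H := C) x) hfp N0
      (fun b hb => hZn.conj_mem _ hb x) (g := a) (QuotientGroup.eq.mp ha.symm))
  set π := QuotientGroup.mk' N0 with hπ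
  have hN : ∀ a : C ⧸ N0, a ≠ 1 → ∃ N : Subgroup (C ⧸ N0), a ∉ N ∧ (∀ g ∈ S1, ∀ z ∈ N, cC g z ∈ N) ∧
      (∀ z ∈ N, cC (x ^ 2 ^ (n - 1)) z ∈ N) ∧
      ((∀ z : C ⧸ N0, z⁻¹ * cC (x ^ 2 ^ (n - 1)) z ∈ N) ∨
        ∃ k < n, q + 1 = 2 ^ (n - k) ∧ (∀ i, k ≤ i → ∀ z ∈ N, cC (x ^ 2 ^ i) z ∈ N) ∧
          ∃ a b : C ⧸ N0, ∀ z : C ⧸ N0,
            z⁻¹ * cC (x ^ 2 ^ (n - 1)) z ∈ N ⊔ Subgroup.zpowers a ⊔ Subgroup.zpowers b) := by
    intro a ha
    obtain ⟨c, rfl⟩ := QuotientGroup.mk'_surjective N0 a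
    obtain ⟨b, hb, hcb⟩ : ∃ b ∈ C, ⁅(c : Γ), b⁆ ≠ 1 := by
      by_contra! hall
      exact ha ((QuotientGroup.eq_one_iff c).mpr ⟨c.2, Subgroup.mem_centralizer_iff.mpr fun b hb =>
        (commutatorElement_eq_one_iff_commute.mp (hall b hb)).symm⟩)
    have hcomm : ∀ a ∈ C, ∀ b ∈ C, ∀ d ∈ C, Commute (ρ ⁅a, b⁆) (ρ d) := fun a ha b hb d hd =>
      (hZcomm _ (hcomZ a ha b hb) d hd).map ρ
    obtain ⟨lam, h, hlam⟩ : ∃ (lam : Γ → Γ → K) (_ : Pairing ρ C lam), lam c b ≠ 1 := by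
      by_contra! hall
      obtain ⟨k, hk⟩ := hQ ⟨_, hCQ (hcomZ c c.2 b hb).1⟩
      refine hcb (hfaith _ (hCQ (hcomZ c c.2 b hb).1) (eq_one_of_joint (fun p : C × C => ρ ⁅(p.1 : Γ), (p.2 : Γ)⁆)
        (fun p p' => hcomm _ p.1.2 _ p.2.2 _ (hcomZ _ p'.1.2 _ p'.2.2).1) _
        (fun p => hcomm _ c.2 _ hb _ (hcomZ _ p.1.2 _ p.2.2).1) (N := q ^ k)
        (by rw [Nat.cast_pow]; exact pow_ne_zero k hqK)
        (by rw [← map_pow, show ⁅(c : Γ), b⁆ ^ q ^ k = 1 by simpa using congrArg Subtype.val hk, map_one])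
        fun χ w hw => ?_))
      by_cases hW : eigs (fun p : C × C => ρ ⁅(p.1 : Γ), (p.2 : Γ)⁆) χ = ⊥
      · rw [hW, Submodule.mem_bot] at hw
        rw [hw, map_zero]
      let lam : Γ → Γ → K := fun a d => if hac : a ∈ C ∧ d ∈ C then χ (⟨a, hac.1⟩, ⟨d, hac.2⟩) else 1
      have heq : pairSpace ρ C lam = eigs (fun p : C × C => ρ ⁅(p.1 : Γ), (p.2 : Γ)⁆) χ := by
        unfold pairSpace
        congr 1
        funext p
        simp [lam, p.1.2, p.2.2]
      rw [mem_pairSpace (heq ▸ hw : w ∈ pairSpace ρ C lam) c.2 hb, hall lam ⟨hcomm, heq ▸ hW⟩, one_smul]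
    have hZrad : ∀ z ∈ Z, z ∈ radSub h := fun z hz => ⟨hz.1, fun d hd => h.eq_scalar hz.1 hd fun w _ => by
      rw [commutatorElement_eq_one_iff_commute.mpr (hZcomm z hz d hd), map_one, Module.End.one_apply, one_smul]⟩
    set N := ((radSub h).subgroupOf C).map π with hN
    have hmemN : ∀ d : C, π d ∈ N ↔ (d : Γ) ∈ radSub h := fun d => by
      refine ⟨fun ⟨r, hr, e⟩ => ?_, fun hd => ⟨d, hd, rfl⟩⟩
      have h1 : ((r⁻¹ * d : C) : Γ) ∈ radSub h := hZrad _ (show r⁻¹ * d ∈ N0 from QuotientGroup.eq.mp e)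
      have h2 := mul_mem (show (r : Γ) ∈ radSub h from hr) h1
      simpa using h2
    have hinv : ∀ g, Preserves C lam g → ∀ z ∈ N, cC g z ∈ N := by
      rintro g hg _ ⟨r, hr, rfl⟩
      exact (hmemN _).mpr (hg.conj_radSub hr)
    have hpres : ∀ g, (∀ z ∈ Z, g * z * g⁻¹ = z) → Preserves C lam g := fun g hg =>
      ⟨fun a ha => hCn.conj_mem a ha g, fun a ha d hd =>
        h.eq_scalar (hCn.conj_mem a ha g) (hCn.conj_mem d hd g) fun w hw => by
          rw [show ⁅g * a * g⁻¹, g * d * g⁻¹⁆ = g * ⁅a, d⁆ * g⁻¹ by simp only [commutatorElement_def]; group,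
            hg _ (hcomZ a ha d hd), mem_pairSpace hw ha hd]⟩
    refine ⟨N, fun hc => hlam (((hmemN c).mp hc).2 b hb), fun g hg => hinv g (hpres g fun z hz => by
      rw [← Subgroup.mem_centralizer_iff.mp hg.2 z hz, mul_inv_cancel_right]), hinv t (hpres t htZ), ?_⟩
    have hxC : Normalizes x C := fun a ha => hCn.conj_mem a ha x
    have hanti : ∀ z : C, ((z⁻¹ * MulAut.conjNormal t z : C) : Γ) ∈ antiSub h t (hxC.pow _) := fun z => by
      rw [Subgroup.coe_mul, Subgroup.coe_inv, MulAut.conjNormal_apply]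
      exact comm_mem_anti (hpres t htZ) ht2 z.2
    by_cases hle : antiSub h (x ^ 2 ^ (n - 1)) (hxC.pow _) ≤ radSub h
    · refine Or.inl fun z => ?_
      obtain ⟨z, rfl⟩ := QuotientGroup.mk'_surjective N0 z
      exact (hmemN (z⁻¹ * MulAut.conjNormal t z)).mpr (hle (hanti z))
    obtain ⟨k, hkn, hqP, hidx, hkpres, -⟩ := lower hqo hqK h2K (hQ.to_le hCQ) hxC hxP hn hVfix h hle
    obtain ⟨a0, ha0, b0, hb0, hgen⟩ := exists_two_gen (rad_le_anti (hpres t htZ) ht2) hqf.out hidx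
    refine Or.inr ⟨k, hkn, hqP, fun i hi => hinv _ (hkpres i hi), π ⟨a0, ha0.1⟩, π ⟨b0, hb0.1⟩, fun z => ?_⟩
    obtain ⟨z, rfl⟩ := QuotientGroup.mk'_surjective N0 z
    set P3 := (N ⊔ Subgroup.zpowers (π ⟨a0, ha0.1⟩) ⊔ Subgroup.zpowers (π ⟨b0, hb0.1⟩)).comap π with hP3
    have h3 : radSub h ⊔ Subgroup.zpowers a0 ⊔ Subgroup.zpowers b0 ≤ P3.map C.subtype := by
      refine sup_le (sup_le (fun r hr => ⟨⟨r, hr.1⟩, ?_, rfl⟩) (Subgroup.zpowers_le.mpr ⟨⟨a0, ha0.1⟩, ?_, rfl⟩))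
        (Subgroup.zpowers_le.mpr ⟨⟨b0, hb0.1⟩, ?_, rfl⟩)
      · exact Subgroup.mem_sup_left (Subgroup.mem_sup_left ((hmemN ⟨r, hr.1⟩).mpr hr))
      · exact Subgroup.mem_sup_left (Subgroup.mem_sup_right (Subgroup.mem_zpowers _))
      · exact Subgroup.mem_sup_right (Subgroup.mem_zpowers _)
    obtain ⟨d, hd, hde⟩ := h3 (hgen (hanti z))
    have hd' : d = z⁻¹ * MulAut.conjNormal t z := C.subtype_injective hde
    rw [hd'] at hd
    exact hd
  have hc := upper (q := q) hqo hso hqs cC S1 x hn (hS.to_le inf_le_left) hxP hxS1 hfixA hN e heS1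
  -- so `e` centralizes `C / Z`
  have hinv : t * e * t⁻¹ = e⁻¹ := by
    rw [he]
    simp only [et, mul_inv_rev, inv_inv, mul_assoc, ht2, mul_one]
  have he2 : cC e * cC e = 1 := by
    have h1 : cC (t * e * t⁻¹) = cC e := by
      rw [map_mul, map_mul, hc, mul_assoc, ← map_mul cC t, mul_inv_cancel, map_one, mul_one]
    rw [hinv] at h1
    nth_rw 1 [← h1]
    rw [← map_mul, inv_mul_cancel, map_one]
  have he1 : cC e = 1 := by
    obtain ⟨k, hk⟩ := hS ⟨e, heS1.1⟩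
    obtain ⟨m, hm⟩ := hso.pow (n := k)
    have h4 : cC e ^ s ^ k = 1 := by
      rw [← map_pow, show e ^ s ^ k = 1 by simpa using congrArg Subtype.val hk, map_one]
    rwa [hm, pow_succ, pow_mul, sq, he2, one_pow, one_mul] at h4
  set E := Subgroup.zpowers e with hE
  have hEcop : ∀ P : Subgroup Γ, IsPGroup q P → (Nat.card E).Coprime (Nat.card P) := fun P hP => by
    obtain ⟨m, hm⟩ := (hS.to_le (Subgroup.zpowers_le.mpr heS1.1 : E ≤ S)).exists_card_eq
    obtain ⟨m', hm'⟩ := hP.exists_card_eq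
    rw [hm, hm']
    exact ((Nat.coprime_primes hsf.out hqf.out).mpr (Ne.symm hqs)).pow _ _
  have hEC : E ≤ Subgroup.centralizer (C : Set Γ) := by
    refine Coprime.le_centralizer_of_series Subgroup.le_normalizer_of_normal (hEcop C (hQ.to_le hCQ))
      (Or.inl (Coprime.isSolvable_of_isMulCommutative E)) (N := Z)
      (Subgroup.zpowers_le.mpr heS1.2) (Subgroup.commutator_le.mpr fun a ha b hb => ?_)
    obtain ⟨i, rfl⟩ := Subgroup.mem_zpowers_iff.mp hb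
    have h2 : cC (e ^ i) (π ⟨a, ha⟩) = π ⟨a, ha⟩ := by rw [map_zpow, he1, one_zpow]; rfl
    have h3 : ((MulAut.conjNormal (e ^ i) ⟨a, ha⟩ : C) : Γ)⁻¹ * a ∈ Z :=
      (show (MulAut.conjNormal (e ^ i) ⟨a, ha⟩)⁻¹ * ⟨a, ha⟩ ∈ N0 from QuotientGroup.eq.mp h2)
    rw [MulAut.conjNormal_apply] at h3
    have h4 := hZn.conj_mem _ (inv_mem h3) a
    rwa [show a * ((e ^ i * a * (e ^ i)⁻¹)⁻¹ * a)⁻¹ * a⁻¹ = e ^ i * a * (e ^ i)⁻¹ * a⁻¹ by group,
      ← commutatorElement_def, ← commutatorElement_inv, inv_mem_iff] at h4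
  have hEQ : E ≤ Subgroup.centralizer (Q : Set Γ) := by
    refine Coprime.le_centralizer_of_pxq (p := q) (P := C) (hQ.to_le hCQ) ?_ hQ (Subgroup.le_centralizer_iff.mp hEC)
      Subgroup.le_normalizer_of_normal Subgroup.le_normalizer_of_normal ?_
    · obtain ⟨m, hm⟩ := (hS.to_le (Subgroup.zpowers_le.mpr heS1.1 : E ≤ S)).exists_card_eq
      rw [hm]
      exact ((Nat.coprime_primes hsf.out hqf.out).mpr (Ne.symm hqs)).pow_left _
    · rintro a ⟨haQ, haC⟩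
      have h1 : (⟨a, haQ⟩ : Q) ∈ C0 := hC0C (Subgroup.mem_centralizer_iff.mpr fun b hb =>
        Subtype.ext (Subgroup.mem_centralizer_iff.mp haC b (Subgroup.mem_map_of_mem _ hb)))
      exact Subgroup.le_centralizer_iff.mp hEC ((hCmem haQ).mpr h1)
  exact (Subgroup.mem_centralizer_iff.mp (hEQ (Subgroup.mem_zpowers e)) g hg).symm

end Cfsg.Agent.GenA.ShultGross.Two
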