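import Cfsg.Agent.GenA.ShultGross.TwoPairing

/-!
A class two group normalized by a fixed-point-free operator of two-power order: the structure of the
part of a pairing inverted by the half power.
-/

set_option autoImplicit false

namespace Cfsg.Agent.GenA.ShultGross.Two

open Module (End finrank)
open Cfsg.Agent.PLocal.TheoremB (Normalizes Moves)
open scoped commutatorElement

/-- `q ^ r + 1` is a power of two for no `r > 1`. -/
theorem eq_one_of_pow_add_one {q r a : ℕ} (hq : 3 ≤ q) (hqo : Odd q) (hr : 1 ≤ r) (h : q ^ r + 1 = 2 ^ a) :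
    r = 1 := by
  rcases Nat.even_or_odd r with ⟨s, rfl⟩ | hodd
  · exfalso
    obtain ⟨m, hm⟩ := hqo.pow (n := s)
    rw [pow_add, hm, show (2 * m + 1) * (2 * m + 1) + 1 = 2 * (2 * (m * m + m) + 1) by ring] at h
    rcases a with - | a
    · simp at h
    · rw [pow_succ', Nat.mul_left_cancel_iff (by norm_num)] at h
      rcases a with - | a
      · have : 3 ≤ q ^ s := hq.trans (Nat.le_self_pow (by omega) q)
        simp at h
        omega
      · rw [pow_succ'] at h; omega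
  · set c : ℤ := ∑ i ∈ Finset.range r, (-(q : ℤ)) ^ i with hc
    have h1 : c * ((q : ℤ) + 1) = (2 : ℤ) ^ a := by
      have h2 := geom_sum_mul (-(q : ℤ)) r
      rw [← hc, hodd.neg_pow] at h2
      have h3 : ((q ^ r + 1 : ℕ) : ℤ) = ((2 ^ a : ℕ) : ℤ) := by rw [h]
      push_cast at h3
      linear_combination -h2 + h3
    have hcodd : Odd c := by
      rw [← ZMod.intCast_eq_one_iff_odd, hc, Int.cast_sum]
      have hq1 : ((q : ℤ) : ZMod 2) = 1 := ZMod.intCast_eq_one_iff_odd.mpr ((Int.odd_coe_nat q).mpr hqo)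
      simp only [Int.cast_pow, Int.cast_neg, hq1, show (-1 : ZMod 2) = 1 from by decide, one_pow,
        Finset.sum_const, Finset.card_range, nsmul_one]
      exact ZMod.natCast_eq_one_iff_odd.mpr hodd
    have h4 : c.natAbs * (q + 1) = 2 ^ a := by
      have := congrArg Int.natAbs h1
      rw [Int.natAbs_mul, Int.natAbs_pow] at this
      exact_mod_cast this
    obtain ⟨i, hi, hci⟩ := (Nat.dvd_prime_pow Nat.prime_two).mp (Dvd.intro _ h4)
    have hi0 : i = 0 := by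
      by_contra h0
      exact (Nat.not_even_iff_odd.mpr (Int.natAbs_odd.mpr hcodd)) (hci ▸ Nat.even_pow.mpr ⟨even_two, h0⟩)
    rw [hci, hi0, pow_zero, one_mul, ← h, add_left_inj] at h4
    by_contra hr1
    have : q ^ 1 < q ^ r := Nat.pow_lt_pow_right (by omega) (by omega)
    rw [pow_one] at this
    omega

/-- A subgroup of index the square of a prime needs two more generators. -/
theorem exists_two_gen {G : Type*} [Group G] [Finite G] {N A : Subgroup G} (hNA : N ≤ A) {q : ℕ}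
    (hq : q.Prime) (hidx : N.relIndex A = q ^ 2) :
    ∃ a ∈ A, ∃ b ∈ A, A ≤ N ⊔ Subgroup.zpowers a ⊔ Subgroup.zpowers b := by
  classical
  have step : ∀ B : Subgroup G, N ≤ B → B ≤ A → ¬ A ≤ B → ∀ b ∈ A, b ∉ B →
      B.relIndex A ≠ 1 ∧ (B ⊔ Subgroup.zpowers b).relIndex A < B.relIndex A ∧
      (B ⊔ Subgroup.zpowers b).relIndex A ∣ B.relIndex A := by
    intro B _ hBA hAB b hb hbB
    have hle : B ⊔ Subgroup.zpowers b ≤ A := sup_le hBA (Subgroup.zpowers_le.mpr hb)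
    have hmul := Subgroup.relIndex_mul_relIndex B (B ⊔ Subgroup.zpowers b) A le_sup_left hle
    refine ⟨fun h => hAB (Subgroup.relIndex_eq_one.mp h), ?_, Dvd.intro_left _ hmul⟩
    have h1 : 1 < B.relIndex (B ⊔ Subgroup.zpowers b) := by
      have h0 : B.relIndex (B ⊔ Subgroup.zpowers b) ≠ 0 :=
        (B.subgroupOf (B ⊔ Subgroup.zpowers b)).index_ne_zero_of_finite
      have hne : B.relIndex (B ⊔ Subgroup.zpowers b) ≠ 1 := fun h =>
        hbB (Subgroup.relIndex_eq_one.mp h (Subgroup.mem_sup_right (Subgroup.mem_zpowers b)))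
      omega
    have h2 : 0 < (B ⊔ Subgroup.zpowers b).relIndex A :=
      Nat.pos_of_ne_zero ((B ⊔ Subgroup.zpowers b).subgroupOf A).index_ne_zero_of_finite
    rw [← hmul]
    exact lt_mul_of_one_lt_left h2 h1
  obtain ⟨a, ha, haN⟩ : ∃ a ∈ A, a ∉ N := Set.not_subset.mp fun hle => by
    have : N.relIndex A = 1 := Subgroup.relIndex_eq_one.mpr hle
    rw [hidx] at this
    exact absurd this (Nat.one_lt_pow two_ne_zero hq.one_lt).ne'
  refine ⟨a, ha, ?_⟩
  obtain ⟨-, hlt, hdvd⟩ := step N le_rfl hNA (fun hle => haN (hle ha)) a ha haN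
  rw [hidx] at hlt hdvd
  by_cases hB : A ≤ N ⊔ Subgroup.zpowers a
  · exact ⟨a, ha, hB.trans le_sup_left⟩
  obtain ⟨b, hb, hbB⟩ := Set.not_subset.mp hB
  refine ⟨b, hb, ?_⟩
  obtain ⟨hne, hlt', hdvd'⟩ := step _ le_sup_left (sup_le hNA (Subgroup.zpowers_le.mpr ha)) hB b hb hbB
  obtain ⟨i, hi, e⟩ := (Nat.dvd_prime_pow hq).mp hdvd
  obtain ⟨j, hj, e'⟩ := (Nat.dvd_prime_pow hq).mp (hdvd'.trans hdvd)
  rw [e, e'] at hlt'
  rw [e] at hlt
  have h1 := (Nat.pow_lt_pow_iff_right hq.one_lt).mp hlt'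
  have h2 := (Nat.pow_lt_pow_iff_right hq.one_lt).mp hlt
  refine Subgroup.relIndex_eq_one.mp ?_
  rw [e', show j = 0 by omega, pow_zero]

variable {K : Type*} [Field K] {V : Type*} [AddCommGroup V] [Module K V]
variable {Γ : Type*} [Group Γ] [Finite Γ] {ρ : Γ →* End K V} {Q : Subgroup Γ} {lam : Γ → Γ → K}
variable {x : Γ} {n : ℕ}

/-- The orbit of a pairing. -/
theorem stage_one (h : Pairing ρ Q lam) (hxQ : Normalizes x Q) (hxP : x ^ 2 ^ n = 1)
    (hVfix : ∀ v : V, ρ x v = v → v = 0) :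
    ∃ j < n, (∀ i, j ≤ i → Preserves Q lam (x ^ 2 ^ i)) ∧
      (∀ w ∈ pairSpace ρ Q lam, ρ (x ^ 2 ^ j) w = w → w = 0) ∧
      (1 ≤ j → ∃ g ∈ Q, ∃ c c' : K, c' ≠ c ∧ ∀ w ∈ pairSpace ρ Q lam,
        ρ g w = c • w ∧ ρ g (ρ (x ^ 2 ^ (j - 1)) w) = c' • ρ (x ^ 2 ^ (j - 1)) w) := by
  let e : Equiv.Perm Q := (conjAut hxQ).toEquiv
  let θ : Equiv.Perm (Q × Q) := Equiv.prodCongr e e
  have hθ : ∀ (i : ℕ) (p : Q × Q), (θ ^ i) p = ((e ^ i) p.1, (e ^ i) p.2) := by
    intro i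
    induction i with
    | zero => intro p; rfl
    | succ i ih =>
      intro p
      rw [pow_succ', Equiv.Perm.mul_apply, ih, pow_succ', Equiv.Perm.mul_apply, Equiv.Perm.mul_apply]
      rfl
  obtain ⟨j, hjn, hinv, -, hfix, hwit⟩ := orbit (fun p : Q × Q => ρ ⁅(p.1 : Γ), (p.2 : Γ)⁆) θ (ρ x)
    (fun p => by
      show ρ x * ρ ⁅(p.1 : Γ), (p.2 : Γ)⁆ =
        ρ ⁅((conjAut hxQ p.1 : Q) : Γ), ((conjAut hxQ p.2 : Q) : Γ)⁆ * ρ x
      rw [← map_mul, ← map_mul, conjAut_apply, conjAut_apply]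
      congr 1
      simp only [commutatorElement_def]
      group)
    (n := n) (by rw [← map_pow, hxP, map_one]) hVfix _ h.ne
  refine ⟨j, hjn, fun i hi => ⟨hxQ.pow _, fun a ha b hb => ?_⟩,
    fun w hw hwb => hfix w hw (by rwa [← map_pow]), fun hj => ?_⟩
  · have := hinv i hi (⟨a, ha⟩, ⟨b, hb⟩)
    rw [hθ] at this
    simp only [e, pow_aut_toEquiv, conjAut_pow] at this
    exact this
  · obtain ⟨p, c', hc', hw⟩ := hwit hj
    refine ⟨_, show ⁅(p.1 : Γ), (p.2 : Γ)⁆ ∈ Q from mul_mem (mul_mem (mul_mem p.1.2 p.2.2) (inv_mem p.1.2))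
      (inv_mem p.2.2), _, c', hc', fun w hww => ⟨mem_pairSpace hww p.1.2 p.2.2, ?_⟩⟩
    have := hw w hww
    rwa [← map_pow] at this

variable [IsAlgClosed K] [FiniteDimensional K V] {q : ℕ}

/-- If every pairing has trivial inverted part, the half power centralizes the image. -/
theorem not_moves_of_forall (hq : Odd q) (hqK : (q : K) ≠ 0) (hQ : IsPGroup q Q) (hxQ : Normalizes x Q)
    (hxP : x ^ 2 ^ n = 1) (hn : 1 ≤ n) (hVfix : ∀ v : V, ρ x v = v → v = 0)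
    (hcomm : ∀ a ∈ Q, ∀ b ∈ Q, ∀ c ∈ Q, Commute (ρ ⁅a, b⁆) (ρ c))
    (hall : ∀ (lam : Γ → Γ → K) (h : Pairing ρ Q lam),
      antiSub h (x ^ 2 ^ (n - 1)) (hxQ.pow _) ≤ radSub h) :
    ¬ Moves ρ Q (x ^ 2 ^ (n - 1)) := by
  classical
  set t := x ^ 2 ^ (n - 1) with ht
  rintro ⟨g, hg, hne⟩
  have ht2 : t * t = 1 := by rw [ht, ← pow_add, ← two_mul, ← pow_succ', Nat.sub_add_cancel hn, hxP]
  set d := g⁻¹ * (t * g * t⁻¹) with hd
  have hdQ : d ∈ Q := mul_mem (inv_mem hg) (hxQ.pow _ g hg)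
  have hcomQ : ∀ a ∈ Q, ∀ b ∈ Q, ⁅a, b⁆ ∈ Q := fun a ha b hb =>
    mul_mem (mul_mem (mul_mem ha hb) (inv_mem ha)) (inv_mem hb)
  -- the image of `d` is central
  have hcent : ∀ b ∈ Q, Commute (ρ d) (ρ b) := by
    intro b hb
    have h1 : ρ ⁅d, b⁆ = 1 := by
      obtain ⟨k, hk⟩ := hQ ⟨_, hcomQ d hdQ b hb⟩
      refine eq_one_of_joint (fun p : Q × Q => ρ ⁅(p.1 : Γ), (p.2 : Γ)⁆)
        (fun p p' => hcomm _ p.1.2 _ p.2.2 _ (hcomQ _ p'.1.2 _ p'.2.2)) _ (fun p => hcomm d hdQ b hb _ (hcomQ _ p.1.2 _ p.2.2)) (N := q ^ k)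
        (by rw [Nat.cast_pow]; exact pow_ne_zero k hqK)
        (by rw [← map_pow, show ⁅d, b⁆ ^ q ^ k = 1 by simpa using congrArg Subtype.val hk, map_one])
        fun χ w hw => ?_
      by_cases hW : eigs (fun p : Q × Q => ρ ⁅(p.1 : Γ), (p.2 : Γ)⁆) χ = ⊥
      · rw [hW, Submodule.mem_bot] at hw
        rw [hw, map_zero]
      let lam : Γ → Γ → K := fun a c => if hac : a ∈ Q ∧ c ∈ Q then χ (⟨a, hac.1⟩, ⟨c, hac.2⟩) else 1
      have he : pairSpace ρ Q lam = eigs (fun p : Q × Q => ρ ⁅(p.1 : Γ), (p.2 : Γ)⁆) χ := by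
        unfold pairSpace
        congr 1
        funext p
        simp [lam, p.1.2, p.2.2]
      have hP : Pairing ρ Q lam := ⟨hcomm, he ▸ hW⟩
      have hwP : w ∈ pairSpace ρ Q lam := he ▸ hw
      rw [mem_pairSpace hwP hdQ hb]
      have hp : Preserves Q lam t := by
        obtain ⟨j, hjn, hinv, -⟩ := stage_one hP hxQ hxP hVfix
        exact hinv (n - 1) (by omega)
      rw [(hall lam hP (comm_mem_anti (h := hP) hp ht2 hg)).2 b hb, one_smul]
    show ρ d * ρ b = ρ b * ρ d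
    rw [← map_mul, show d * b = ⁅d, b⁆ * (b * d) by simp only [commutatorElement_def]; group, map_mul, h1, one_mul,
      map_mul]
  -- the central image is fixed by `t`
  let A : Subgroup Γ :=
    { carrier := {a | a ∈ Q ∧ ∀ b ∈ Q, Commute (ρ a) (ρ b)}
      one_mem' := ⟨one_mem Q, fun b _ => by rw [map_one]; exact Commute.one_left _⟩
      mul_mem' := fun {a c} ha hc => ⟨mul_mem ha.1 hc.1, fun b hb => by
        rw [map_mul]; exact (ha.2 b hb).mul_left (hc.2 b hb)⟩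
      inv_mem' := fun {a} ha => ⟨inv_mem ha.1, fun b hb => by
        rw [inv_eq_of_mul_eq_one_left (a := a ^ (orderOf a - 1)) (b := a) (by
          rw [← pow_succ, Nat.sub_add_cancel (orderOf_pos a), pow_orderOf_eq_one]), map_pow]
        exact (ha.2 b hb).pow_left _⟩ }
  have hxA : Normalizes x A := by
    rintro a ⟨ha, hac⟩
    refine ⟨hxQ a ha, fun b hb => ?_⟩
    obtain ⟨b', hb'⟩ := (conjAut hxQ).surjective ⟨b, hb⟩
    have e : x * (b' : Γ) * x⁻¹ = b := congrArg Subtype.val hb'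
    show ρ _ * ρ b = ρ b * ρ _
    rw [← map_mul, ← map_mul, ← e, show x * a * x⁻¹ * (x * b' * x⁻¹) = x * (a * b') * x⁻¹ by group,
      show x * b' * x⁻¹ * (x * a * x⁻¹) = x * (b' * a) * x⁻¹ by group]
    simp only [map_mul]
    rw [(hac b' b'.2).eq]
  have hfixd : ρ (t * d * t⁻¹) = ρ d :=
    abelian_fix ρ A x hn hqK (hQ.to_le fun a ha => ha.1) hxA (fun a ha b hb => ha.2 b hb.1) hxP hVfix
      (show d ∈ A from ⟨hdQ, hcent⟩)
  have et : t⁻¹ = t := (eq_inv_of_mul_eq_one_left ht2).symm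
  have e : t * d * t⁻¹ = d⁻¹ := by
    simp only [hd, et, mul_inv_rev, inv_inv, mul_assoc, ht2, mul_one]
  rw [e] at hfixd
  have h2 : ρ d ^ 2 = 1 := by
    rw [sq]
    nth_rw 1 [← hfixd]
    rw [← map_mul, inv_mul_cancel, map_one]
  obtain ⟨k, hk⟩ := hQ ⟨d, hdQ⟩
  obtain ⟨m, hm⟩ := hq.pow (n := k)
  have h3 : ρ d = 1 := by
    have h4 : ρ d ^ q ^ k = 1 := by
      rw [← map_pow, show d ^ q ^ k = 1 by simpa using congrArg Subtype.val hk, map_one]
    rwa [hm, pow_succ, pow_mul, h2, one_pow, one_mul] at h4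
  refine hne ?_
  show ρ t * ρ g = ρ g * ρ t
  rw [← map_mul, show t * g = g * d * t by rw [hd]; group, map_mul, map_mul, h3, mul_one]

set_option maxHeartbeats 1000000 in
/-- The inverted part has order the square of `q`, and `q + 1` is the order of the stabilizer of a piece. -/
theorem lower [hqf : Fact q.Prime] (hq : Odd q) (hqK : (q : K) ≠ 0) (h2K : (2 : K) ≠ 0) (hQ : IsPGroup q Q)
    (hxQ : Normalizes x Q) (hxP : x ^ 2 ^ n = 1) (hn : 1 ≤ n) (hVfix : ∀ v : V, ρ x v = v → v = 0)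
    (h : Pairing ρ Q lam) (hne : ¬ antiSub h (x ^ 2 ^ (n - 1)) (hxQ.pow _) ≤ radSub h) :
    ∃ k < n, q + 1 = 2 ^ (n - k) ∧
      (radSub h).relIndex (antiSub h (x ^ 2 ^ (n - 1)) (hxQ.pow _)) = q ^ 2 ∧
      (∀ i, k ≤ i → Preserves Q lam (x ^ 2 ^ i)) ∧
      ∃ W' ≤ pairSpace ρ Q lam, W' ≠ ⊥ ∧
        (∀ g ∈ antiSub h (x ^ 2 ^ (n - 1)) (hxQ.pow _), ∀ w ∈ W', ρ g w ∈ W') ∧
        (∀ w ∈ W', ρ (x ^ 2 ^ k) w ∈ W') ∧ (∀ w ∈ W', ρ (x ^ 2 ^ k) w = w → w = 0) ∧
        (∀ g ∈ radSub h, ∃ c : K, ∀ w ∈ W', ρ g w = c • w) ∧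
        (1 ≤ k → ∃ g ∈ Q, ∃ c c' : K, c' ≠ c ∧ ∀ w ∈ W',
          ρ g w = c • w ∧ ρ g (ρ (x ^ 2 ^ (k - 1)) w) = c' • ρ (x ^ 2 ^ (k - 1)) w) := by
  classical
  obtain ⟨j, hjn, hinv, hfix1, hwit1⟩ := stage_one h hxQ hxP hVfix
  set t := x ^ 2 ^ (n - 1) with ht
  have ht2 : t * t = 1 := by rw [ht, ← pow_add, ← two_mul, ← pow_succ', Nat.sub_add_cancel hn, hxP]
  have hp : Preserves Q lam t := hinv (n - 1) (by omega)
  set N1 := antiSub h t (hxQ.pow _) with hN1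
  set R := radSub h with hR
  have hRN : R ≤ N1 := rad_le_anti hp ht2
  set W0 := pairSpace ρ Q lam with hW0
  set b := x ^ 2 ^ j with hb
  have hbW : ∀ w ∈ W0, ρ b w ∈ W0 := (hinv j le_rfl).map_pairSpace
  have hbk : ∀ i, b ^ 2 ^ i = x ^ 2 ^ (j + i) := fun i => by rw [hb, ← pow_mul, ← pow_add]
  haveI : Nontrivial W0 := Submodule.nontrivial_iff_ne_bot.mpr h.ne
  -- the radical on the eigenspace
  let f : R → End K W0 := fun g => (ρ (g : Γ)).restrict (h.invariant g.2.1)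
  have hRcomm : ∀ g ∈ R, ∀ c ∈ Q, ∀ w ∈ W0, ρ g (ρ c w) = ρ c (ρ g w) := by
    intro g hg c hc w hw
    have h1 : ρ ⁅g, c⁆ (ρ c (ρ g w)) = ρ c (ρ g w) := by
      rw [mem_pairSpace (h.invariant hc _ (h.invariant hg.1 w hw)) hg.1 hc, hg.2 c hc, one_smul]
    calc ρ g (ρ c w) = ρ ⁅g, c⁆ (ρ c (ρ g w)) := by
          simp only [← Module.End.mul_apply, ← map_mul]
          congr 2
          simp only [commutatorElement_def]
          group
      _ = _ := h1
  obtain ⟨χ, hχ⟩ := exists_joint_eigen f fun a c => LinearMap.ext fun w =>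
    Subtype.ext (hRcomm _ a.2 _ c.2.1 _ w.2)
  have hxR : Normalizes b R := fun g hg => (hinv j le_rfl).conj_radSub hg
  set B : End K W0 := (ρ b).restrict hbW with hB
  have hBk : ∀ (i : ℕ) (w : W0), (((B ^ i) w : W0) : V) = ρ (b ^ i) w := by
    intro i
    induction i with
    | zero => intro w; simp
    | succ i ih =>
      intro w
      rw [pow_succ', pow_succ', map_mul, Module.End.mul_apply, Module.End.mul_apply, ← ih]
      rfl
  obtain ⟨j', hj', -, hW'B, hW'fix, hwit2⟩ := orbit f (conjAut hxR).toEquiv B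
    (fun g => LinearMap.ext fun w => Subtype.ext (by
      show ρ b (ρ g w) = ρ ((conjAut hxR g : R) : Γ) (ρ b w)
      rw [← Module.End.mul_apply, ← Module.End.mul_apply, ← map_mul, ← map_mul, conjAut_apply, inv_mul_cancel_right]))
    (n := n - j) (LinearMap.ext fun w => Subtype.ext (by
      rw [hBk, hbk, Nat.add_sub_cancel' hjn.le, hxP, map_one]; rfl))
    (fun w hw => Subtype.ext (hfix1 w w.2 (congrArg Subtype.val hw))) χ hχ
  set k := j + j' with hk
  set W' := (eigs f χ).map W0.subtype with hW'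
  have hW'le : W' ≤ W0 := Submodule.map_subtype_le _ _
  have hW'0 : W' ≠ ⊥ := fun e =>
    hχ (Submodule.map_injective_of_injective W0.injective_subtype (e.trans (Submodule.map_bot _).symm))
  have hW'Q : ∀ g ∈ N1, ∀ w ∈ W', ρ g w ∈ W' := by
    rintro g hg _ ⟨w, hw, rfl⟩
    exact ⟨_, eigs_invariant (f := f) (g := (ρ g).restrict (h.invariant hg.1))
      (fun r : R => LinearMap.ext fun w => Subtype.ext (hRcomm _ r.2 _ hg.1 _ w.2).symm) w hw, rfl⟩
  have hW'scal : ∀ g ∈ R, ∃ c : K, ∀ w ∈ W', ρ g w = c • w := fun g hg => ⟨χ ⟨g, hg⟩, by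
    rintro _ ⟨w, hw, rfl⟩
    exact congrArg Subtype.val (mem_eigs.mp hw ⟨g, hg⟩)⟩
  have hW'b : ∀ w ∈ W', ρ (x ^ 2 ^ k) w ∈ W' := by
    rintro _ ⟨w, hw, rfl⟩
    exact ⟨_, hW'B w hw, by rw [hk, ← hbk]; exact hBk _ w⟩
  have hW'f : ∀ w ∈ W', ρ (x ^ 2 ^ k) w = w → w = 0 := by
    rintro _ ⟨w, hw, rfl⟩ e
    rw [hW'fix w hw (Subtype.ext (by rw [hBk, hbk]; exact e)), map_zero]
  have hkn : k < n := by omega
  have hwit : 1 ≤ k → ∃ g ∈ Q, ∃ c c' : K, c' ≠ c ∧ ∀ w ∈ W',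
      ρ g w = c • w ∧ ρ g (ρ (x ^ 2 ^ (k - 1)) w) = c' • ρ (x ^ 2 ^ (k - 1)) w := fun hk1 => by
    rcases Nat.eq_zero_or_pos j' with hj0 | hj0
    · obtain ⟨g, hg, c, c', hc, hw⟩ := hwit1 (by omega)
      refine ⟨g, hg, c, c', hc, fun w hww => ?_⟩
      rw [show k - 1 = j - 1 by omega]
      exact hw w (hW'le hww)
    · obtain ⟨s, c', hc, hw⟩ := hwit2 hj0
      refine ⟨s, s.2.1, χ s, c', hc, ?_⟩
      rintro _ ⟨w, hw', rfl⟩
      refine ⟨congrArg Subtype.val (mem_eigs.mp hw' s), ?_⟩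
      have := congrArg Subtype.val (hw w hw')
      rw [show k - 1 = j + (j' - 1) by omega, ← hbk]
      simpa [f, hBk] using this
  haveI : Nontrivial W' := Submodule.nontrivial_iff_ne_bot.mpr hW'0
  let τ : N1 →* End K W' :=
    { toFun := fun g => (ρ (g : Γ)).restrict (hW'Q g g.2)
      map_one' := by ext w; simp [LinearMap.restrict_apply]
      map_mul' := fun a c => by ext w; simp [LinearMap.restrict_apply] }
  have hτcom : ∀ g c : N1, ∀ w : W', ((τ ⁅g, c⁆ w : W') : V) = lam g c • (w : V) := fun g c w =>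
    mem_pairSpace (hW'le w.2) g.2.1 c.2.1
  have hrad : ∀ g : N1, (∀ c, Commute (τ g) (τ c)) → (g : Γ) ∈ R := fun g hg =>
    anti_nondeg hp ht2 hq hQ g.2 fun c hc => by
      obtain ⟨w, hw⟩ := exists_ne (0 : W')
      refine smul_left_injective K (fun e => hw (Subtype.ext e) : (w : V) ≠ 0) ?_
      show lam g c • (w : V) = (1 : K) • (w : V)
      rw [one_smul, ← hτcom g ⟨c, hc⟩ w]
      congr 1
      rw [commutatorElement_def, map_mul, map_mul, map_mul, (hg ⟨c, hc⟩).eq, mul_assoc (τ ⟨c, hc⟩), ← map_mul τ g,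
        mul_inv_cancel, map_one, mul_one, ← map_mul, mul_inv_cancel, map_one, Module.End.one_apply]
  have hscalR : ∀ g : N1, (g : Γ) ∈ R → g ∈ scalarSub τ := fun g hg => by
    obtain ⟨c, hc⟩ := hW'scal _ hg
    exact ⟨c, LinearMap.ext fun w => Subtype.ext (hc w w.2)⟩
  have hscal_iff : ∀ g : N1, g ∈ scalarSub τ ↔ (g : Γ) ∈ R := fun g => by
    refine ⟨fun ⟨c, hc⟩ => hrad g fun c' => ?_, hscalR g⟩
    rw [hc]
    exact (Commute.one_left _).smul_left c
  have hxk : Preserves Q lam (x ^ 2 ^ k) := hinv k (by omega)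
  have hkt : Commute (x ^ 2 ^ k) t := (Commute.refl x).pow_pow _ _
  let β : MulAut N1 := conjAut (x := x ^ 2 ^ k) (A := N1) fun g hg => hxk.conj_antiSub hkt hg
  set B' : End K W' := (ρ (x ^ 2 ^ k)).restrict hW'b with hB'
  have hBk' : ∀ (i : ℕ) (w : W'), (((B' ^ i) w : W') : V) = ρ ((x ^ 2 ^ k) ^ i) w := by
    intro i
    induction i with
    | zero => intro w; simp
    | succ i ih =>
      intro w
      rw [pow_succ', pow_succ' (x ^ 2 ^ k), map_mul, Module.End.mul_apply, Module.End.mul_apply, ← ih]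
      rfl
  obtain ⟨m0, hm0⟩ := (hQ.to_le (show N1 ≤ Q from fun g hg => hg.1)).exists_card_eq
  have hidx : (scalarSub τ).index = R.relIndex N1 := by
    rw [Subgroup.relIndex]
    congr 1
    ext g
    exact hscal_iff g
  have hdvd : (scalarSub τ).index ∣ q ^ m0 := hm0 ▸ Subgroup.index_dvd_card _
  have hfree : ∀ (l : ℕ) (g : N1), g⁻¹ * (β ^ l) g ∈ scalarSub τ → 2 ^ (n - k) ∣ l ∨ g ∈ scalarSub τ := by
    intro l g hg
    rw [hscal_iff] at hg ⊢
    by_contra hcon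
    push_neg at hcon
    obtain ⟨hPl, hgR⟩ := hcon
    -- some power of the conjugation is `t`
    obtain ⟨m, hm⟩ : ∃ m, (x ^ 2 ^ k) ^ (l * m) = t := by
      have hl0 : l ≠ 0 := fun e => hPl (e ▸ dvd_zero _)
      obtain ⟨i, o, ho, rfl⟩ := Nat.exists_eq_two_pow_mul_odd hl0
      have hi : i < n - k := by
        by_contra hi
        exact hPl (Dvd.dvd.mul_right (pow_dvd_pow 2 (not_lt.mp hi)) o)
      obtain ⟨o', rfl⟩ := ho
      refine ⟨2 ^ (n - k - 1 - i), ?_⟩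
      rw [← pow_mul, show 2 ^ k * (2 ^ i * (2 * o' + 1) * 2 ^ (n - k - 1 - i)) =
          2 ^ (n - 1) * (2 * o' + 1) by
        rw [show n - 1 = k + (i + (n - k - 1 - i)) by omega, pow_add, pow_add]; ring, pow_mul, ← ht, pow_succ,
        pow_mul, sq, ht2, one_pow, one_mul]
    set z := (x ^ 2 ^ k) ^ l with hz
    have hzp : Preserves Q lam z := hxk.pow l
    have hzg : ∀ c ∈ Q, lam (z * g * z⁻¹) c = lam g c := fun c hc => by
      have h1 := hg.2 c hc
      push_cast at h1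
      rw [show (((β ^ l) g : N1) : Γ) = z * g * z⁻¹ from conjAut_pow _ l g, h.mul_left (inv_mem g.2.1) (hzp.1 _ g.2.1) hc] at h1
      calc lam (z * g * z⁻¹) c = lam (g : Γ)⁻¹ c * lam g c * lam (z * g * z⁻¹) c := by
            rw [h.inv_left g.2.1 hc, one_mul]
        _ = lam g c * (lam (g : Γ)⁻¹ c * lam (z * g * z⁻¹) c) := by ring
        _ = _ := by rw [h1, mul_one]
    have hiter : ∀ i : ℕ, ∀ c ∈ Q, lam (z ^ i * g * (z ^ i)⁻¹) c = lam g c := by
      intro i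
      induction i with
      | zero => intro c _; simp
      | succ i ih =>
        intro c hc
        have hc' : z⁻¹ * c * z ∈ Q := by simpa using hzp.inv.1 c hc
        rw [show z ^ (i + 1) * (g : Γ) * (z ^ (i + 1))⁻¹ = z * (z ^ i * g * (z ^ i)⁻¹) * z⁻¹ by
            rw [pow_succ']; group,
          hzp.lam_conj ((hzp.pow i).1 _ g.2.1) hc, ih _ hc', ← hzp.lam_conj g.2.1 hc, hzg c hc]
    refine hgR (anti_free hq hQ g.2 fun c hc => ?_)
    rw [← hm, pow_mul, ← hz]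
    exact hiter m c hc
  rcases fixed_or_exceptional τ (by rw [hm0, Nat.cast_pow]; exact pow_ne_zero _ hqK) β B'
      (fun g => LinearMap.ext fun w => Subtype.ext (by
        show ρ (x ^ 2 ^ k) (ρ g w) = ρ (x ^ 2 ^ k * (g : Γ) * (x ^ 2 ^ k)⁻¹) (ρ (x ^ 2 ^ k) w)
        rw [← Module.End.mul_apply, ← Module.End.mul_apply, ← map_mul, ← map_mul,
          inv_mul_cancel_right]))
      (P := 2 ^ (n - k)) (Nat.le_self_pow (by omega) 2)
      (by rw [Nat.cast_pow, Nat.cast_ofNat]; exact pow_ne_zero _ h2K)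
      (LinearMap.ext fun w => Subtype.ext (by
        rw [hBk', ← pow_mul, ← pow_add, Nat.add_sub_cancel' hkn.le, hxP, map_one]; rfl))
      (fun g c => ⟨lam g c, LinearMap.ext fun w => Subtype.ext (hτcom g c w)⟩)
      (fun g hg => hscalR g (hrad g hg))
      (fun e => hne fun g hg => (hscal_iff ⟨g, hg⟩).mp (e ▸ Subgroup.mem_top _))
      hfree with ⟨w, hw0, hw⟩ | ⟨d, hd, hdP⟩
  · exact absurd (Subtype.ext (hW'f w w.2 (congrArg Subtype.val hw))) hw0
  obtain ⟨r, -, rfl⟩ := (Nat.dvd_prime_pow hqf.out).mp ((Dvd.intro _ rfl).trans (hd ▸ hdvd))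
  have hq3 : 3 ≤ q := by
    obtain ⟨a, rfl⟩ := hq
    have := hqf.out.two_le
    omega
  have hr1 : 1 ≤ r := by
    by_contra h0
    refine hne (Subgroup.relIndex_eq_one.mp ?_)
    rw [← hidx, ← hd, show r = 0 by omega]
    simp
  have hr := eq_one_of_pow_add_one hq3 hq hr1 hdP
  subst hr
  rw [pow_one] at hdP hd
  exact ⟨k, hkn, hdP, by rw [← hidx, ← hd, sq], fun i hi => hinv i (by omega), W', hW'le, hW'0, hW'Q, hW'b,
    hW'f, hW'scal, hwit⟩

end Cfsg.Agent.GenA.ShultGross.Two
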