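import Cfsg.Agent.GenA.ShultGross.TwoStage

/-!
The pairing given by the scalars of the commutators on a common eigenspace, and an involution on it.
-/

set_option autoImplicit false

namespace Cfsg.Agent.GenA.ShultGross.Two

open Module (End)
open Cfsg.Agent.PLocal.TheoremB (Normalizes)
open scoped commutatorElement

variable {K : Type*} [Field K] {V : Type*} [AddCommGroup V] [Module K V]
variable {Γ : Type*} [Group Γ] (ρ : Γ →* End K V) (Q : Subgroup Γ)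

/-- The eigenspace of the commutators of `Q` for the scalars `lam`. -/
def pairSpace (lam : Γ → Γ → K) : Submodule K V :=
  eigs (fun p : Q × Q => ρ ⁅(p.1 : Γ), (p.2 : Γ)⁆) fun p => lam p.1 p.2

/-- Scalars of commutators on a nonzero subspace, the commutators being central in the image. -/
structure Pairing (lam : Γ → Γ → K) : Prop where
  comm : ∀ a ∈ Q, ∀ b ∈ Q, ∀ c ∈ Q, Commute (ρ ⁅a, b⁆) (ρ c)
  ne : pairSpace ρ Q lam ≠ ⊥

/-- `g` preserves the scalars. -/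
def Preserves (lam : Γ → Γ → K) (g : Γ) : Prop :=
  Normalizes g Q ∧ ∀ a ∈ Q, ∀ b ∈ Q, lam (g * a * g⁻¹) (g * b * g⁻¹) = lam a b

variable {ρ Q} {lam : Γ → Γ → K}

theorem mem_pairSpace {w : V} (hw : w ∈ pairSpace ρ Q lam) {a b : Γ} (ha : a ∈ Q) (hb : b ∈ Q) :
    ρ ⁅a, b⁆ w = lam a b • w := mem_eigs.mp hw (⟨a, ha⟩, ⟨b, hb⟩)

theorem mul_conj (g h a : Γ) : g * h * a * (g * h)⁻¹ = g * (h * a * h⁻¹) * g⁻¹ := by group

theorem Preserves.one : Preserves Q lam 1 := ⟨fun a ha => by simpa using ha, by simp⟩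

theorem Preserves.mul {g h : Γ} (hg : Preserves Q lam g) (hh : Preserves Q lam h) :
    Preserves Q lam (g * h) := by
  refine ⟨fun a ha => ?_, fun a ha b hb => ?_⟩
  · rw [mul_conj]; exact hg.1 _ (hh.1 a ha)
  · rw [mul_conj, mul_conj, hg.2 _ (hh.1 a ha) _ (hh.1 b hb), hh.2 a ha b hb]

theorem Preserves.pow {g : Γ} (hg : Preserves Q lam g) : ∀ i : ℕ, Preserves Q lam (g ^ i) := fun i => by
  induction i with
  | zero => rw [pow_zero]; exact Preserves.one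
  | succ i ih => rw [pow_succ]; exact ih.mul hg

theorem Preserves.inv [Finite Γ] {g : Γ} (hg : Preserves Q lam g) : Preserves Q lam g⁻¹ := by
  rw [inv_eq_of_mul_eq_one_left (a := g ^ (orderOf g - 1)) (b := g) (by
    rw [← pow_succ, Nat.sub_add_cancel (orderOf_pos g), pow_orderOf_eq_one])]
  exact hg.pow _

theorem Preserves.map_pairSpace [Finite Γ] {g : Γ} (hg : Preserves Q lam g) :
    ∀ w ∈ pairSpace ρ Q lam, ρ g w ∈ pairSpace ρ Q lam := fun w hw => mem_eigs.mpr fun p => by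
  have ha := hg.inv.1 _ p.1.2
  have hb := hg.inv.1 _ p.2.2
  have h := hg.2 _ ha _ hb
  simp only [inv_inv, mul_assoc, mul_inv_cancel_left, mul_inv_cancel, mul_one] at h ha hb
  show ρ ⁅(p.1 : Γ), (p.2 : Γ)⁆ (ρ g w) = lam p.1 p.2 • ρ g w
  rw [h, ← map_smul, ← mem_pairSpace hw ha hb, ← Module.End.mul_apply, ← Module.End.mul_apply, ← map_mul,
    ← map_mul]
  congr 2
  simp only [commutatorElement_def]
  group

namespace Pairing

variable (h : Pairing ρ Q lam)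
include h

theorem invariant {g : Γ} (hg : g ∈ Q) : ∀ w ∈ pairSpace ρ Q lam, ρ g w ∈ pairSpace ρ Q lam :=
  eigs_invariant fun p => (h.comm _ p.1.2 _ p.2.2 _ hg).symm

theorem eq_scalar {a b : Γ} (ha : a ∈ Q) (hb : b ∈ Q) {c : K}
    (hc : ∀ w ∈ pairSpace ρ Q lam, ρ ⁅a, b⁆ w = c • w) : lam a b = c := by
  obtain ⟨w, hw, hw0⟩ := Submodule.exists_mem_ne_zero_of_ne_bot h.ne
  exact smul_left_injective K hw0 ((mem_pairSpace hw ha hb).symm.trans (hc w hw))

theorem mul_left {a b c : Γ} (ha : a ∈ Q) (hb : b ∈ Q) (hc : c ∈ Q) :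
    lam (a * b) c = lam a c * lam b c := by
  refine h.eq_scalar (mul_mem ha hb) hc fun w hw => ?_
  have e : ρ ⁅a * b, c⁆ = ρ ⁅b, c⁆ * ρ ⁅a, c⁆ := by
    rw [commutatorElement_mul_left_eq_conj_mul, map_mul, map_mul, map_mul, ← (h.comm b hb c hc a ha).eq,
      mul_assoc (ρ ⁅b, c⁆) (ρ a), ← map_mul ρ a, mul_inv_cancel, map_one, mul_one]
  rw [e, Module.End.mul_apply, mem_pairSpace hw ha hc, map_smul, mem_pairSpace hw hb hc, smul_smul]

theorem one_left {c : Γ} (hc : c ∈ Q) : lam 1 c = 1 :=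
  h.eq_scalar (one_mem Q) hc fun w _ => by simp

theorem one_right {a : Γ} (ha : a ∈ Q) : lam a 1 = 1 :=
  h.eq_scalar ha (one_mem Q) fun w _ => by simp

theorem inv_left {a c : Γ} (ha : a ∈ Q) (hc : c ∈ Q) : lam a⁻¹ c * lam a c = 1 := by
  rw [← h.mul_left (inv_mem ha) ha hc, inv_mul_cancel, h.one_left hc]

theorem swap {a b : Γ} (ha : a ∈ Q) (hb : b ∈ Q) : lam a b * lam b a = 1 := by
  obtain ⟨w, hw, hw0⟩ := Submodule.exists_mem_ne_zero_of_ne_bot h.ne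
  refine smul_left_injective K hw0 ?_
  show (lam a b * lam b a) • w = (1 : K) • w
  rw [one_smul, mul_smul, ← mem_pairSpace hw hb ha, ← map_smul, ← mem_pairSpace hw ha hb,
    ← Module.End.mul_apply, ← map_mul, ← commutatorElement_inv a b, inv_mul_cancel, map_one, Module.End.one_apply]

theorem ne_zero {a b : Γ} (ha : a ∈ Q) (hb : b ∈ Q) : lam a b ≠ 0 :=
  left_ne_zero_of_mul (h.swap ha hb ▸ one_ne_zero)

theorem mul_right {a b c : Γ} (ha : a ∈ Q) (hb : b ∈ Q) (hc : c ∈ Q) :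
    lam a (b * c) = lam a b * lam a c := by
  refine mul_right_cancel₀ (h.ne_zero (mul_mem hb hc) ha) ?_
  rw [h.swap ha (mul_mem hb hc), h.mul_left hb hc ha, mul_mul_mul_comm, h.swap ha hb, h.swap ha hc, mul_one]

theorem sq_eq_one {q : ℕ} (hq : Odd q) (hQ : IsPGroup q Q) {a b : Γ} (ha : a ∈ Q) (hb : b ∈ Q)
    (h2 : lam a b * lam a b = 1) : lam a b = 1 := by
  obtain ⟨k, hk⟩ := hQ ⟨a, ha⟩
  have hk' : a ^ q ^ k = 1 := by simpa using congrArg Subtype.val hk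
  have hpow : ∀ i : ℕ, lam (a ^ i) b = lam a b ^ i := by
    intro i
    induction i with
    | zero => rw [pow_zero, pow_zero, h.one_left hb]
    | succ i ih => rw [pow_succ, h.mul_left (pow_mem ha i) ha hb, ih, pow_succ]
  obtain ⟨m, hm⟩ := hq.pow (n := k)
  have := hpow (q ^ k)
  rw [hk', h.one_left hb, hm, pow_succ, pow_mul, sq, h2, one_pow, one_mul] at this
  exact this.symm

end Pairing

/-- The elements pairing trivially with `Q`. -/
def radSub [Finite Γ] (h : Pairing ρ Q lam) : Subgroup Γ where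
  carrier := {g | g ∈ Q ∧ ∀ b ∈ Q, lam g b = 1}
  one_mem' := ⟨one_mem Q, fun b hb => h.one_left hb⟩
  mul_mem' := fun {a c} ha hc => ⟨mul_mem ha.1 hc.1, fun b hb => by
    rw [h.mul_left ha.1 hc.1 hb, ha.2 b hb, hc.2 b hb, one_mul]⟩
  inv_mem' := fun {a} ha => ⟨inv_mem ha.1, fun b hb => by
    have := h.inv_left ha.1 hb
    rwa [ha.2 b hb, mul_one] at this⟩

/-- The elements inverted by `t` modulo the radical. -/
def antiSub [Finite Γ] (h : Pairing ρ Q lam) (t : Γ) (ht : Normalizes t Q) : Subgroup Γ where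
  carrier := {g | g ∈ Q ∧ ∀ b ∈ Q, lam (t * g * t⁻¹) b * lam g b = 1}
  one_mem' := ⟨one_mem Q, fun b hb => by simp [h.one_left hb]⟩
  mul_mem' := fun {a c} ha hc => ⟨mul_mem ha.1 hc.1, fun b hb => by
    rw [show t * (a * c) * t⁻¹ = t * a * t⁻¹ * (t * c * t⁻¹) by group, h.mul_left (ht a ha.1) (ht c hc.1) hb,
      h.mul_left ha.1 hc.1 hb, mul_mul_mul_comm, ha.2 b hb, hc.2 b hb, one_mul]⟩
  inv_mem' := fun {a} ha => ⟨inv_mem ha.1, fun b hb => by
    have h1 := h.inv_left (ht a ha.1) hb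
    have h2 := h.inv_left ha.1 hb
    rw [show t * a⁻¹ * t⁻¹ = (t * a * t⁻¹)⁻¹ by group]
    calc lam (t * a * t⁻¹)⁻¹ b * lam a⁻¹ b
        = lam (t * a * t⁻¹)⁻¹ b * lam a⁻¹ b * (lam (t * a * t⁻¹) b * lam a b) := by rw [ha.2 b hb, mul_one]
      _ = 1 := by rw [mul_mul_mul_comm, h1, h2, one_mul]⟩

variable [Finite Γ] {h : Pairing ρ Q lam}

theorem mem_radSub {g : Γ} : g ∈ radSub h ↔ g ∈ Q ∧ ∀ b ∈ Q, lam g b = 1 := Iff.rfl

theorem mem_antiSub {t : Γ} {ht : Normalizes t Q} {g : Γ} :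
    g ∈ antiSub h t ht ↔ g ∈ Q ∧ ∀ b ∈ Q, lam (t * g * t⁻¹) b * lam g b = 1 := Iff.rfl

theorem Preserves.lam_conj {g : Γ} (hg : Preserves Q lam g) {a b : Γ} (ha : a ∈ Q) (hb : b ∈ Q) :
    lam (g * a * g⁻¹) b = lam a (g⁻¹ * b * g) := by
  have hb' : g⁻¹ * b * g ∈ Q := by simpa using hg.inv.1 b hb
  have := hg.2 a ha _ hb'
  rwa [show g * (g⁻¹ * b * g) * g⁻¹ = b by group] at this

theorem Preserves.conj_radSub {g a : Γ} (hg : Preserves Q lam g) (ha : a ∈ radSub h) :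
    g * a * g⁻¹ ∈ radSub h :=
  ⟨hg.1 a ha.1, fun b hb => by rw [hg.lam_conj ha.1 hb]; exact ha.2 _ (by simpa using hg.inv.1 b hb)⟩

theorem Preserves.conj_antiSub {g a t : Γ} {ht : Normalizes t Q} (hg : Preserves Q lam g)
    (hgt : Commute g t) (ha : a ∈ antiSub h t ht) : g * a * g⁻¹ ∈ antiSub h t ht := by
  refine ⟨hg.1 a ha.1, fun b hb => ?_⟩
  have e : t * (g * a * g⁻¹) * t⁻¹ = g * (t * a * t⁻¹) * g⁻¹ := by
    calc t * (g * a * g⁻¹) * t⁻¹ = t * g * a * (t * g)⁻¹ := by group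
      _ = g * t * a * (g * t)⁻¹ := by rw [hgt.eq]
      _ = _ := by group
  rw [e, hg.lam_conj (ht a ha.1) hb, hg.lam_conj ha.1 hb]
  exact ha.2 _ (by simpa using hg.inv.1 b hb)

section Involution

variable {t : Γ} {ht : Normalizes t Q} (hp : Preserves Q lam t) (ht2 : t * t = 1)
include hp ht2

theorem lam_conj_right {a b : Γ} (ha : a ∈ Q) (hb : b ∈ Q) :
    lam (t * a * t⁻¹) b = lam a (t * b * t⁻¹) := by
  rw [hp.lam_conj ha hb, (eq_inv_of_mul_eq_one_left ht2).symm]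

theorem rad_le_anti : radSub h ≤ antiSub h t ht := fun g hg =>
  ⟨hg.1, fun b hb => by rw [hg.2 b hb, (hp.conj_radSub hg).2 b hb, one_mul]⟩

theorem comm_mem_anti {g : Γ} (hg : g ∈ Q) : g⁻¹ * (t * g * t⁻¹) ∈ antiSub h t ht := by
  refine ⟨mul_mem (inv_mem hg) (ht g hg), fun b hb => ?_⟩
  have e : t * (g⁻¹ * (t * g * t⁻¹)) * t⁻¹ = (g⁻¹ * (t * g * t⁻¹))⁻¹ := by
    have et : t⁻¹ = t := (eq_inv_of_mul_eq_one_left ht2).symm
    simp only [et, mul_inv_rev, inv_inv, mul_assoc, ht2, mul_one]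
  rw [e, h.inv_left (mul_mem (inv_mem hg) (ht g hg)) hb]

theorem anti_nondeg {q : ℕ} (hq : Odd q) (hQ : IsPGroup q Q) {g : Γ} (hg : g ∈ antiSub h t ht)
    (hall : ∀ c ∈ antiSub h t ht, lam g c = 1) : g ∈ radSub h := by
  refine ⟨hg.1, fun b hb => h.sq_eq_one hq hQ hg.1 hb ?_⟩
  have h1 := hall _ (comm_mem_anti (h := h) (ht := ht) hp ht2 hb)
  rw [h.mul_right hg.1 (inv_mem hb) (ht b hb), ← lam_conj_right hp ht2 hg.1 hb] at h1
  have h2 : lam g b⁻¹ * lam g b = 1 := by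
    rw [← h.mul_right hg.1 (inv_mem hb) hb, inv_mul_cancel, h.one_right hg.1]
  calc lam g b * lam g b
      = lam g b⁻¹ * lam (t * g * t⁻¹) b * (lam g b * lam g b) := by rw [h1, one_mul]
    _ = 1 := by rw [mul_mul_mul_comm, h2, hg.2 b hb, one_mul]

omit hp ht2 in
theorem anti_free {q : ℕ} (hq : Odd q) (hQ : IsPGroup q Q) {g : Γ} (hg : g ∈ antiSub h t ht)
    (hr : ∀ b ∈ Q, lam (t * g * t⁻¹) b = lam g b) : g ∈ radSub h :=
  ⟨hg.1, fun b hb => h.sq_eq_one hq hQ hg.1 hb (by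
    have h1 := hg.2 b hb
    rwa [hr b hb] at h1)⟩

end Involution

end Cfsg.Agent.GenA.ShultGross.Two
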