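import Cfsg.Agent.GenA.ShultGross.TwoLower

/-!
Bounds from an operator close to the identity, and the case of a pairing on nine elements.
-/

set_option autoImplicit false

namespace Cfsg.Agent.GenA.ShultGross.Two

open Module (End finrank)
open Cfsg.Agent.PLocal.TheoremB (Normalizes)
open scoped commutatorElement

variable {K : Type*} [Field K]

section Rank

variable {U : Type*} [AddCommGroup U] [Module K U] [FiniteDimensional K U]

/-- The eigenspaces of `y` permuted cyclically by `F`. -/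
theorem eigen_bound (y F : End K U) (hF : Function.Injective F) (ζ : K)
    (hy : ∀ w, y (F w) = ζ • F (y w)) (s : ℕ)
    (hζ : ∀ i j, i < s → j < s → ζ ^ i = ζ ^ j → i = j) :
    s * finrank K (LinearMap.ker (y - 1)) ≤ finrank K U := by
  classical
  set X := LinearMap.ker (y - 1) with hX
  have hFi : ∀ (i : ℕ) (w : X), y ((F ^ i) (w : U)) = ζ ^ i • (F ^ i) (w : U) := by
    intro i
    induction i with
    | zero =>
      intro w
      have h1 : (y - 1) (w : U) = 0 := LinearMap.mem_ker.mp w.2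
      rw [LinearMap.sub_apply, Module.End.one_apply, sub_eq_zero] at h1
      simpa using h1
    | succ i ih =>
      intro w
      rw [pow_succ', Module.End.mul_apply, hy, ih, map_smul, smul_smul, ← pow_succ']
  let Φ : (Fin s → X) →ₗ[K] U :=
    ∑ i : Fin s, ((F ^ (i : ℕ)).comp X.subtype).comp (LinearMap.proj i)
  have hΦ : Function.Injective Φ := (injective_iff_map_eq_zero _).mpr fun v hv => funext fun i => by
    have hv' : ∑ i : Fin s, (F ^ (i : ℕ)) (v i : U) = 0 := by simpa [Φ] using hv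
    have h0 := eigen_indep (fun _ : Unit => y) (fun (i : Fin s) (_ : Unit) => ζ ^ (i : ℕ)) Finset.univ
      (fun i => (F ^ (i : ℕ)) (v i : U)) (fun i _ _ => hFi _ _)
      (fun a _ b _ e => Fin.ext (hζ _ _ a.2 b.2 (congrFun e ()))) hv' i (Finset.mem_univ i)
    have hinj : Function.Injective ((F ^ (i : ℕ) : End K U) : U → U) := by
      rw [Module.End.coe_pow]; exact hF.iterate _
    exact Subtype.ext (hinj (by simpa using h0))
  have := LinearMap.finrank_le_finrank_of_injective hΦ
  rwa [Module.finrank_pi_fintype, Finset.sum_const, Finset.card_univ, Fintype.card_fin, smul_eq_mul] at this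

/-- Common fixed vectors of `T` and of `T` conjugated by `A`. -/
theorem finrank_fix_inf (T A : End K U) {r : ℕ} (hr : finrank K (LinearMap.range (T - 1)) ≤ r) :
    finrank K U ≤ finrank K ↥(LinearMap.ker (T - 1) ⊓ LinearMap.ker ((T - 1) * A)) + 2 * r := by
  have h1 := LinearMap.finrank_range_add_finrank_ker (T - 1)
  have h2 := LinearMap.finrank_range_add_finrank_ker ((T - 1) * A)
  have h3 : finrank K (LinearMap.range ((T - 1) * A)) ≤ finrank K (LinearMap.range (T - 1)) :=
    Submodule.finrank_mono (LinearMap.range_comp_le_range A (T - 1))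
  have h4 := Submodule.finrank_sup_add_finrank_inf_eq (LinearMap.ker (T - 1)) (LinearMap.ker ((T - 1) * A))
  have h5 := Submodule.finrank_le (LinearMap.ker (T - 1) ⊔ LinearMap.ker ((T - 1) * A))
  omega

theorem mem_fix_inf {T A : End K U} {w : U}
    (hw : w ∈ LinearMap.ker (T - 1) ⊓ LinearMap.ker ((T - 1) * A)) : T w = w ∧ T (A w) = A w := by
  obtain ⟨h1, h2⟩ := hw
  rw [SetLike.mem_coe, LinearMap.mem_ker, LinearMap.sub_apply, sub_eq_zero] at h1
  rw [SetLike.mem_coe, LinearMap.mem_ker, Module.End.mul_apply, LinearMap.sub_apply, sub_eq_zero] at h2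
  exact ⟨h1, h2⟩

theorem finrank_range_restrict {Y : Type*} [AddCommGroup Y] [Module K Y] (f : End K Y) (X : Submodule K Y)
    (hX : ∀ w ∈ X, f w ∈ X) : finrank K (LinearMap.range (f.restrict hX)) = finrank K (X.map f) := by
  have e : (LinearMap.range (f.restrict hX)).map X.subtype = X.map f := by
    ext w
    constructor
    · rintro ⟨_, ⟨v, rfl⟩, rfl⟩
      exact ⟨v, v.2, rfl⟩
    · rintro ⟨v, hv, rfl⟩
      exact ⟨_, ⟨⟨v, hv⟩, rfl⟩, rfl⟩
  rw [← e, Submodule.finrank_map_subtype_eq]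

end Rank

variable {V : Type*} [AddCommGroup V] [Module K V]
variable {Γ : Type*} [Group Γ] [Finite Γ] {ρ : Γ →* End K V} {Q : Subgroup Γ} {lam : Γ → Γ → K}

/-- An anti-involution of order four on nine elements sends no element to one orthogonal to it. -/
theorem mem_rad_of_orth (h : Pairing ρ Q lam) {s : ℕ} (hsp : s.Prime) (hs4 : s = 3) (hsQ : IsPGroup s Q)
    {t b : Γ} {ht : Normalizes t Q} (hp : Preserves Q lam t) (ht2 : t * t = 1)
    (hidx : (radSub h).relIndex (antiSub h t ht) = s ^ 2) (hb : Preserves Q lam b) (hb2 : b * b = t)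
    {y : Γ} (hy : y ∈ antiSub h t ht) (hyb : lam y (b * y * b⁻¹) = 1) : y ∈ radSub h := by
  subst hs4
  set N1 := antiSub h t ht with hN1
  set R := radSub h with hR
  by_contra hyR
  have hbt : Commute b t := by rw [← hb2]; exact (Commute.refl b).mul_right (Commute.refl b)
  let O : Subgroup Γ :=
    { carrier := {z | z ∈ N1 ∧ lam y z = 1}
      one_mem' := ⟨one_mem _, h.one_right hy.1⟩
      mul_mem' := fun {a c} ha hc => ⟨mul_mem ha.1 hc.1, by
        rw [h.mul_right hy.1 ha.1.1 hc.1.1, ha.2, hc.2, one_mul]⟩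
      inv_mem' := fun {a} ha => ⟨inv_mem ha.1, by
        have := h.mul_right hy.1 (inv_mem ha.1.1) ha.1.1
        rw [inv_mul_cancel, h.one_right hy.1, ha.2, mul_one] at this
        exact this.symm⟩ }
  let E : Subgroup Γ :=
    { carrier := {z | z ∈ N1 ∧ ∃ i : ℕ, ∀ c ∈ Q, lam z c = lam y c ^ i}
      one_mem' := ⟨one_mem _, 0, fun c hc => by rw [h.one_left hc, pow_zero]⟩
      mul_mem' := fun {a c} ha hc => by
        obtain ⟨i, hi⟩ := ha.2
        obtain ⟨i', hi'⟩ := hc.2
        exact ⟨mul_mem ha.1 hc.1, i + i', fun d hd => by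
          rw [h.mul_left ha.1.1 hc.1.1 hd, hi d hd, hi' d hd, pow_add]⟩
      inv_mem' := fun {a} ha => by
        obtain ⟨i, hi⟩ := ha.2
        obtain ⟨k, hk⟩ := hsQ ⟨y, hy.1⟩
        refine ⟨inv_mem ha.1, i * (3 ^ k - 1), fun d hd => ?_⟩
        have hyk : lam y d ^ 3 ^ k = 1 := by
          have hpow : ∀ m : ℕ, lam (y ^ m) d = lam y d ^ m := by
            intro m
            induction m with
            | zero => rw [pow_zero, pow_zero, h.one_left hd]
            | succ m ih => rw [pow_succ, h.mul_left (pow_mem hy.1 m) hy.1 hd, ih, pow_succ]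
          rw [← hpow, show y ^ 3 ^ k = 1 by simpa using congrArg Subtype.val hk, h.one_left hd]
        have h1 := h.inv_left ha.1.1 hd
        calc lam a⁻¹ d = lam a⁻¹ d * (lam y d ^ 3 ^ k) ^ i := by rw [hyk, one_pow, mul_one]
          _ = lam a⁻¹ d * lam a d * lam y d ^ (i * (3 ^ k - 1)) := by
            rw [hi d hd, mul_assoc, ← pow_add, ← pow_mul, show i + i * (3 ^ k - 1) = 3 ^ k * i by
              rw [Nat.mul_sub_one, Nat.mul_comm (3 ^ k) i]
              have := Nat.le_mul_of_pos_right i (pow_pos (by norm_num : 0 < 3) k)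
              omega]
          _ = _ := by rw [h1, one_mul] }
  have hRE : R ≤ E := fun z hz => ⟨rad_le_anti hp ht2 hz, 0, fun c hc => by rw [hz.2 c hc, pow_zero]⟩
  have hyE : y ∈ E := ⟨hy, 1, fun c _ => (pow_one _).symm⟩
  have hyy : lam y y = 1 := h.sq_eq_one (q := 3) (by decide) hsQ hy.1 hy.1 (h.swap hy.1 hy.1)
  have hEO : E ≤ O := fun z hz => ⟨hz.1, by
    obtain ⟨i, hi⟩ := hz.2
    have h1 := h.swap hy.1 hz.1.1
    rwa [hi y hy.1, hyy, one_pow, mul_one] at h1⟩
  have hON : O ≤ N1 := fun z hz => hz.1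
  have hne1 : R.relIndex E ≠ 1 := fun e => hyR (Subgroup.relIndex_eq_one.mp e hyE)
  have hne3 : O.relIndex N1 ≠ 1 := fun e => hyR (anti_nondeg hp ht2 (q := 3) (by decide) hsQ hy
    fun c hc => (Subgroup.relIndex_eq_one.mp e hc).2)
  have hmul : R.relIndex E * E.relIndex O * O.relIndex N1 = 3 ^ 2 := by
    rw [← hidx, Subgroup.relIndex_mul_relIndex R E O hRE hEO,
      Subgroup.relIndex_mul_relIndex R O N1 (hRE.trans hEO) hON]
  obtain ⟨a, -, ha⟩ := (Nat.dvd_prime_pow hsp).mp
    (Dvd.intro _ ((mul_assoc _ _ _).symm.trans hmul) : R.relIndex E ∣ 3 ^ 2)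
  obtain ⟨c, -, hc⟩ := (Nat.dvd_prime_pow hsp).mp (Dvd.intro_left _ hmul : O.relIndex N1 ∣ 3 ^ 2)
  have hOE : O ≤ E := Subgroup.relIndex_eq_one.mp (by
    rw [ha, hc] at hmul
    rw [ha] at hne1
    rw [hc] at hne3
    obtain ⟨e, -, he⟩ := (Nat.dvd_prime_pow hsp).mp
      (Dvd.intro_left _ ((mul_right_comm _ _ _).trans hmul) : E.relIndex O ∣ 3 ^ 2)
    rw [he, ← pow_add, ← pow_add] at hmul
    have := Nat.pow_right_injective (by norm_num) hmul
    rcases a with - | a <;> rcases c with - | c <;> simp at hne1 hne3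
    rw [he, show e = 0 by omega, pow_zero])
  obtain ⟨hbyN, i, hi⟩ := hOE ⟨hb.conj_antiSub hbt hy, hyb⟩
  -- `b ^ 2 = t` inverts
  refine hyR ⟨hy.1, fun c hc => ?_⟩
  have hbc : b⁻¹ * c * b ∈ Q := by simpa using hb.inv.1 c hc
  have h1 : lam (t * y * t⁻¹) c = lam y c ^ (i * i) := by
    rw [← hb2, show b * b * y * (b * b)⁻¹ = b * (b * y * b⁻¹) * b⁻¹ by group,
      hb.lam_conj hbyN.1 hc, hi _ hbc, ← hb.lam_conj hy.1 hc, hi c hc, ← pow_mul]
  have h2 := hy.2 c hc
  rw [h1, ← pow_succ] at h2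
  obtain ⟨k, hk⟩ := hsQ ⟨y, hy.1⟩
  have hyk : lam y c ^ 3 ^ k = 1 := by
    have hpow : ∀ m : ℕ, lam (y ^ m) c = lam y c ^ m := by
      intro m
      induction m with
      | zero => rw [pow_zero, pow_zero, h.one_left hc]
      | succ m ih => rw [pow_succ, h.mul_left (pow_mem hy.1 m) hy.1 hc, ih, pow_succ]
    rw [← hpow, show y ^ 3 ^ k = 1 by simpa using congrArg Subtype.val hk, h.one_left hc]
  have hcop : Nat.Coprime (i * i + 1) (3 ^ k) := by
    refine Nat.Coprime.pow_right k (Nat.Coprime.symm ((Nat.prime_three.coprime_iff_not_dvd).mpr fun h3 => ?_))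
    rw [Nat.dvd_iff_mod_eq_zero, Nat.add_mod, Nat.mul_mod] at h3
    have := Nat.mod_lt i (show 3 > 0 by norm_num)
    interval_cases (i % 3) <;> simp at h3
  have := pow_gcd_eq_one.mpr ⟨h2, hyk⟩
  rwa [hcop.gcd_eq_one, pow_one] at this

end Cfsg.Agent.GenA.ShultGross.Two
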