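import Cfsg.Agent.GenA.ShultGross.Basic
import Cfsg.Agent.GenA.ShultGross.Scalar

/-!
Systems of eigenvalues permuted by a fixed-point-free operator of two-power order.
-/

set_option autoImplicit false

namespace Cfsg.Agent.GenA.ShultGross.Two

open Module (End finrank)
open Cfsg.Agent.PLocal.TheoremB (Normalizes)

variable {K : Type*} [Field K] {V : Type*} [AddCommGroup V] [Module K V]

/-- The vectors on which every `f s` is the scalar `χ s`. -/
def eigs {S : Type*} (f : S → End K V) (χ : S → K) : Submodule K V := ⨅ s, (f s).eigenspace (χ s)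

theorem mem_eigs {S : Type*} {f : S → End K V} {χ : S → K} {w : V} :
    w ∈ eigs f χ ↔ ∀ s, f s w = χ s • w := by
  simp [eigs, Submodule.mem_iInf, Module.End.mem_eigenspace_iff]

theorem eigs_invariant {S : Type*} {f : S → End K V} {χ : S → K} {g : End K V}
    (hg : ∀ s, Commute g (f s)) : ∀ w ∈ eigs f χ, g w ∈ eigs f χ := fun w hw => mem_eigs.mpr fun s => by
  rw [← Module.End.mul_apply, ← (hg s).eq, Module.End.mul_apply, mem_eigs.mp hw s, map_smul]

/-- A commuting family has a common eigenvector. -/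
theorem exists_joint_eigen [IsAlgClosed K] [FiniteDimensional K V] [Nontrivial V] {S : Type*}
    (f : S → End K V) (hf : ∀ a b, Commute (f a) (f b)) : ∃ χ, eigs f χ ≠ ⊥ := by
  obtain ⟨U, ⟨hU0, hUf⟩, hUmin⟩ := (wellFounded_lt (α := Submodule K V)).has_min
    {U : Submodule K V | U ≠ ⊥ ∧ ∀ s, ∀ w ∈ U, f s w ∈ U}
    ⟨⊤, top_ne_bot, fun _ _ _ => Submodule.mem_top⟩
  haveI : Nontrivial U := Submodule.nontrivial_iff_ne_bot.mpr hU0
  have hscal : ∀ s, ∃ c : K, ∀ w ∈ U, f s w = c • w := by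
    intro s
    obtain ⟨c, hc⟩ := Module.End.exists_eigenvalue ((f s).restrict (hUf s))
    refine ⟨c, ?_⟩
    set X := U ⊓ (f s).eigenspace c with hX
    have hX0 : X ≠ ⊥ := by
      obtain ⟨v, hv, hv0⟩ := hc.exists_hasEigenvector
      refine (Submodule.ne_bot_iff _).mpr ⟨v.1, ⟨v.2, ?_⟩, fun h => hv0 (Subtype.ext h)⟩
      rw [SetLike.mem_coe, Module.End.mem_eigenspace_iff]
      exact congrArg Subtype.val (Module.End.mem_eigenspace_iff.mp hv)
    have hXf : ∀ t, ∀ w ∈ X, f t w ∈ X := by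
      rintro t w ⟨hwU, hw⟩
      refine ⟨hUf t w hwU, ?_⟩
      rw [SetLike.mem_coe, Module.End.mem_eigenspace_iff] at hw ⊢
      rw [← Module.End.mul_apply, (hf s t).eq, Module.End.mul_apply, hw, map_smul]
    have := eq_of_le_of_not_lt (inf_le_left : X ≤ U) (hUmin X ⟨hX0, hXf⟩)
    intro w hw
    exact Module.End.mem_eigenspace_iff.mp ((this.ge hw : w ∈ X).2)
  choose χ hχ using hscal
  exact ⟨χ, fun h => hU0 (le_bot_iff.mp (h ▸ fun w hw => mem_eigs.mpr fun s => hχ s w hw))⟩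

/-- An operator of invertible order fixing all common eigenvectors of a commuting family is trivial. -/
theorem eq_one_of_joint [IsAlgClosed K] [FiniteDimensional K V] {S : Type*}
    (f : S → End K V) (hf : ∀ a b, Commute (f a) (f b)) (d : End K V) (hd : ∀ s, Commute d (f s))
    {N : ℕ} (hN : (N : K) ≠ 0) (hdN : d ^ N = 1)
    (hfix : ∀ χ : S → K, ∀ w ∈ eigs f χ, d w = w) : d = 1 := by
  set e : End K V := (N : K)⁻¹ • ∑ i ∈ Finset.range N, d ^ i with he
  have hcomm : ∀ s, Commute e (f s) := fun s => by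
    rw [he]
    exact (Commute.sum_left _ _ _ fun i _ => (hd s).pow_left i).smul_left _
  have hde : e * (d - 1) = 0 := by
    rw [he, smul_mul_assoc, geom_sum_mul, hdN, sub_self, smul_zero]
  by_contra hd1
  obtain ⟨v, hv⟩ : ∃ v, (d - 1) v ≠ 0 := by
    by_contra! h
    exact hd1 (sub_eq_zero.mp (LinearMap.ext h))
  set X := LinearMap.ker e with hX
  have hXne : X ≠ ⊥ := (Submodule.ne_bot_iff _).mpr ⟨_, LinearMap.congr_fun hde v, hv⟩
  have hXf : ∀ s, ∀ w ∈ X, f s w ∈ X := fun s w hw => by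
    rw [hX, LinearMap.mem_ker] at hw ⊢
    rw [← Module.End.mul_apply, (hcomm s).eq, Module.End.mul_apply, hw, map_zero]
  haveI : Nontrivial X := Submodule.nontrivial_iff_ne_bot.mpr hXne
  obtain ⟨χ, hχ⟩ := exists_joint_eigen (fun s => (f s).restrict (hXf s)) fun a b =>
    LinearMap.ext fun w => Subtype.ext (LinearMap.congr_fun (hf a b).eq w.1)
  obtain ⟨w, hw, hw0⟩ := Submodule.exists_mem_ne_zero_of_ne_bot hχ
  have hwV : (w : V) ∈ eigs f χ := mem_eigs.mpr fun s => congrArg Subtype.val (mem_eigs.mp hw s)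
  have hdi : ∀ i : ℕ, (d ^ i) (w : V) = w := by
    intro i
    induction i with
    | zero => rw [pow_zero, Module.End.one_apply]
    | succ i ih => rw [pow_succ, Module.End.mul_apply, hfix χ _ hwV, ih]
  have hew : e (w : V) = (w : V) := by
    rw [he, LinearMap.smul_apply, LinearMap.sum_apply, Finset.sum_congr rfl (fun i _ => hdi i),
      Finset.sum_const, Finset.card_range, ← Nat.cast_smul_eq_nsmul K, smul_smul, inv_mul_cancel₀ hN, one_smul]
  exact hw0 (Subtype.ext (hew.symm.trans w.2))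

/-- The orbit of a system of eigenvalues under a fixed-point-free operator of two-power order. -/
theorem orbit {S : Type*} (f : S → End K V) (θ : Equiv.Perm S) (B : End K V)
    (hB : ∀ s, B * f s = f (θ s) * B) {n : ℕ} (hBn : B ^ 2 ^ n = 1) (hfix : ∀ w, B w = w → w = 0)
    (χ : S → K) (hW : eigs f χ ≠ ⊥) :
    ∃ j < n, (∀ i, j ≤ i → ∀ s, χ ((θ ^ 2 ^ i) s) = χ s) ∧
      (∀ w ∈ eigs f χ, (B ^ 2 ^ j) w ∈ eigs f χ) ∧
      (∀ w ∈ eigs f χ, (B ^ 2 ^ j) w = w → w = 0) ∧
      (1 ≤ j → ∃ s c', c' ≠ χ s ∧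
        ∀ w ∈ eigs f χ, f s ((B ^ 2 ^ (j - 1)) w) = c' • (B ^ 2 ^ (j - 1)) w) := by
  obtain ⟨w₁, hw₁, hw₁0⟩ := Submodule.exists_mem_ne_zero_of_ne_bot hW
  have hBinv : B ^ (2 ^ n - 1) * B = 1 := by
    rw [← pow_succ, Nat.sub_add_cancel Nat.one_le_two_pow, hBn]
  have hBinj : ∀ k : ℕ, Function.Injective ((B ^ k : End K V) : V → V) := fun k => by
    rw [Module.End.coe_pow]
    refine Function.Injective.iterate (Function.LeftInverse.injective
      (g := ((B ^ (2 ^ n - 1) : End K V) : V → V)) fun w => ?_) k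
    rw [← Module.End.mul_apply, hBinv, Module.End.one_apply]
  set F : (S → K) → S → K := fun φ => φ ∘ θ.symm with hF
  have hFl : ∀ (l : ℕ) (φ : S → K) s, F^[l] φ ((θ ^ l) s) = φ s := by
    intro l
    induction l with
    | zero => intro φ s; rfl
    | succ l ih =>
      intro φ s
      rw [Function.iterate_succ_apply', pow_succ', Equiv.Perm.mul_apply]
      show F^[l] φ (θ.symm (θ _)) = _
      rw [Equiv.symm_apply_apply, ih]
  have hBk : ∀ (l : ℕ) s, B ^ l * f s = f ((θ ^ l) s) * B ^ l := by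
    intro l
    induction l with
    | zero => intro s; simp
    | succ l ih =>
      intro s
      rw [pow_succ, mul_assoc, hB, ← mul_assoc, ih, mul_assoc, ← pow_succ, pow_succ θ, Equiv.Perm.mul_apply]
  have hv : ∀ (l : ℕ) s, ∀ w ∈ eigs f χ, f s ((B ^ l) w) = F^[l] χ s • (B ^ l) w := by
    intro l s w hw
    obtain ⟨s', rfl⟩ := (θ ^ l).surjective s
    rw [hFl, ← Module.End.mul_apply, ← hBk, Module.End.mul_apply, mem_eigs.mp hw, map_smul]
  have hN : Function.IsPeriodicPt F (2 ^ n) χ := funext fun s => by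
    have h := hv (2 ^ n) s w₁ hw₁
    rw [hBn, Module.End.one_apply, mem_eigs.mp hw₁ s] at h
    exact (smul_left_injective K hw₁0 h).symm
  obtain ⟨j, hjn, hj⟩ := (Nat.dvd_prime_pow Nat.prime_two).mp hN.minimalPeriod_dvd
  set L := Function.minimalPeriod F χ with hL
  have hper : ∀ i, j ≤ i → F^[2 ^ i] χ = χ := fun i hi =>
    (Function.isPeriodicPt_minimalPeriod F χ).trans_dvd (by rw [← hL, hj]; exact pow_dvd_pow 2 hi)
  have hfixW : ∀ w ∈ eigs f χ, (B ^ 2 ^ j) w = w → w = 0 := by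
    intro w hw hwB
    have hy : B (∑ l ∈ Finset.range L, (B ^ l) w) = ∑ l ∈ Finset.range L, (B ^ l) w := by
      have h1 := Finset.sum_range_succ' (fun l => (B ^ l) w) L
      rw [Finset.sum_range_succ, hj, hwB, pow_zero, Module.End.one_apply, ← hj] at h1
      rw [map_sum]
      refine Eq.trans ?_ (add_right_cancel h1).symm
      exact Finset.sum_congr rfl fun l _ => by rw [pow_succ', Module.End.mul_apply]
    have h0 := eigen_indep (fun s : S => f s) (fun l => F^[l] χ) (Finset.range L) (fun l => (B ^ l) w)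
      (fun l _ s => hv l s w hw) (fun a ha b hb e => Function.iterate_injOn_Iio_minimalPeriod
        (Finset.mem_range.mp ha) (Finset.mem_range.mp hb) e) (hfix _ hy) 0
      (Finset.mem_range.mpr (by rw [hj]; positivity))
    simpa using h0
  refine ⟨j, lt_of_le_of_ne hjn ?_, fun i hi s => ?_, fun w hw => mem_eigs.mpr fun s => ?_, hfixW, fun hj1 => ?_⟩
  · rintro rfl
    exact hw₁0 (hfixW w₁ hw₁ (by rw [hBn, Module.End.one_apply]))
  · have := hFl (2 ^ i) χ s
    rwa [hper i hi] at this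
  · rw [hv _ s w hw, hper j le_rfl]
  · have hlt : 2 ^ (j - 1) < L := by
      rw [hj]; exact Nat.pow_lt_pow_right (by norm_num) (by omega)
    obtain ⟨s, hs⟩ : ∃ s, F^[2 ^ (j - 1)] χ s ≠ χ s := Function.ne_iff.mp fun e =>
      absurd (Function.iterate_injOn_Iio_minimalPeriod (show 2 ^ (j - 1) ∈ Set.Iio L from hlt)
        (show 0 ∈ Set.Iio L from (Nat.zero_le _).trans_lt hlt) e) (Nat.pos_iff_ne_zero.mp Nat.one_le_two_pow)
    exact ⟨s, _, hs, fun w hw => hv _ s w hw⟩

variable {Γ : Type*} [Group Γ] [Finite Γ]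

/-- Conjugation by a normalizing element. -/
noncomputable def conjAut {A : Subgroup Γ} {x : Γ} (hx : Normalizes x A) : MulAut A :=
  MulEquiv.ofBijective
    ({ toFun := fun a => ⟨x * a * x⁻¹, hx a a.2⟩
       map_one' := Subtype.ext (by simp)
       map_mul' := fun a b => Subtype.ext (by simp [mul_assoc]) } : A →* A)
    (Finite.injective_iff_bijective.mp fun a b e => Subtype.ext (by
      have := congrArg Subtype.val e
      simpa using this))

theorem conjAut_apply {A : Subgroup Γ} {x : Γ} (hx : Normalizes x A) (a : A) :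
    ((conjAut hx a : A) : Γ) = x * a * x⁻¹ := rfl

theorem conjAut_pow {A : Subgroup Γ} {x : Γ} (hx : Normalizes x A) :
    ∀ (i : ℕ) (a : A), (((conjAut hx ^ i) a : A) : Γ) = x ^ i * a * (x ^ i)⁻¹ := by
  intro i
  induction i with
  | zero => intro a; simp
  | succ i ih =>
    intro a
    rw [pow_succ', MulAut.mul_apply, conjAut_apply, ih, pow_succ']
    group

theorem pow_aut_toEquiv {A : Type*} [Mul A] (e : MulAut A) :
    ∀ (i : ℕ) (a : A), ((e.toEquiv : Equiv.Perm A) ^ i) a = (e ^ i) a := by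
  intro i
  induction i with
  | zero => intro a; rfl
  | succ i ih => intro a; rw [pow_succ', pow_succ', Equiv.Perm.mul_apply, MulAut.mul_apply, ih]; rfl

/-- The half power of a fixed-point-free element of two-power order centralizes normalized abelian images. -/
theorem abelian_fix [IsAlgClosed K] [FiniteDimensional K V] (ρ : Γ →* End K V) (A : Subgroup Γ) (x : Γ)
    {n q : ℕ} (hn : 1 ≤ n) (hq : (q : K) ≠ 0) (hA : IsPGroup q A) (hxA : Normalizes x A)
    (hcomm : ∀ a ∈ A, ∀ b ∈ A, Commute (ρ a) (ρ b)) (hxP : x ^ 2 ^ n = 1)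
    (hVfix : ∀ v : V, ρ x v = v → v = 0) {a : Γ} (ha : a ∈ A) :
    ρ (x ^ 2 ^ (n - 1) * a * (x ^ 2 ^ (n - 1))⁻¹) = ρ a := by
  set t := x ^ 2 ^ (n - 1) with ht
  have htA : t * a * t⁻¹ ∈ A := hxA.pow _ a ha
  obtain ⟨k, hk⟩ := hA ⟨t * a * t⁻¹ * a⁻¹, mul_mem htA (inv_mem ha)⟩
  have h1 : ρ (t * a * t⁻¹ * a⁻¹) = 1 := by
    refine eq_one_of_joint (fun b : A => ρ b) (fun b c => hcomm _ b.2 _ c.2) _
      (fun b => hcomm _ (mul_mem htA (inv_mem ha)) _ b.2) (N := q ^ k)
      (by rw [Nat.cast_pow]; exact pow_ne_zero k hq)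
      (by rw [← map_pow, show (t * a * t⁻¹ * a⁻¹) ^ q ^ k = 1 by simpa using congrArg Subtype.val hk, map_one])
      fun χ w hw => ?_
    by_cases hW : eigs (fun b : A => ρ b) χ = ⊥
    · rw [hW, Submodule.mem_bot] at hw
      rw [hw, map_zero]
    obtain ⟨j, hjn, hinv, -⟩ := orbit (fun b : A => ρ b) (conjAut hxA).toEquiv (ρ x)
      (fun b => by
        show ρ x * ρ b = ρ ((conjAut hxA b : A) : Γ) * ρ x
        rw [← map_mul, ← map_mul, conjAut_apply, inv_mul_cancel_right])
      (n := n) (by rw [← map_pow, hxP, map_one]) hVfix χ hW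
    have hs : χ ⟨t * a * t⁻¹, htA⟩ = χ ⟨a, ha⟩ := by
      rw [← hinv (n - 1) (by omega) ⟨a, ha⟩]
      congr 1
      refine Subtype.ext ?_
      rw [pow_aut_toEquiv, conjAut_pow]
    have hw' : ρ a⁻¹ w ∈ eigs (fun b : A => ρ b) χ :=
      eigs_invariant (fun b : A => hcomm _ (inv_mem ha) _ b.2) w hw
    rw [map_mul, Module.End.mul_apply, show ρ (t * a * t⁻¹) (ρ a⁻¹ w) = _ from mem_eigs.mp hw' ⟨_, htA⟩, hs,
      ← show ρ a (ρ a⁻¹ w) = _ from mem_eigs.mp hw' ⟨_, ha⟩, ← Module.End.mul_apply, ← map_mul, mul_inv_cancel,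
      map_one, Module.End.one_apply]
  calc ρ (t * a * t⁻¹) = ρ (t * a * t⁻¹ * a⁻¹ * a) := by rw [inv_mul_cancel_right]
    _ = ρ a := by rw [map_mul, h1, one_mul]

end Cfsg.Agent.GenA.ShultGross.Two
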