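import Cfsg.Agent.GenA.ShultGross.TwoCore
import Cfsg.Agent.GenA.ShultGross.Group

/-!
An `s`-group acting on an elementary abelian `q`-group whose quotients see the half power as a perturbation
of rank at most two: the half power centralizes it.
-/

set_option autoImplicit false

namespace Cfsg.Agent.GenA.ShultGross.Two

open Module (End finrank)
open Cfsg.Agent.PLocal.TheoremB (Normalizes Moves Minimal stab mem_stab onQuot onQuot_apply)
open scoped TensorProduct commutatorElement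

universe u

variable {q : ℕ} [Fact q.Prime] {A : Type u} [CommGroup A] [Module (ZMod q) (Additive A)]

/-- The image of an element in the module over the algebraic closure. -/
noncomputable def mk1 (q : ℕ) [Fact q.Prime] {A : Type u} [CommGroup A] [Module (ZMod q) (Additive A)] (a : A) :
    AlgebraicClosure (ZMod q) ⊗[ZMod q] Additive A :=
  (1 : AlgebraicClosure (ZMod q)) ⊗ₜ[ZMod q] Additive.ofMul a

theorem mk1_mul (a b : A) : mk1 q (a * b) = mk1 q a + mk1 q b := by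
  simp [mk1, TensorProduct.tmul_add]

theorem smul_mk1 (c : AlgebraicClosure (ZMod q)) (a : A) : c • mk1 q a = c ⊗ₜ[ZMod q] Additive.ofMul a := by
  simp [mk1, TensorProduct.smul_tmul']

/-- The span of a subgroup in the module over the algebraic closure. -/
noncomputable def spanOf (q : ℕ) [Fact q.Prime] {A : Type u} [CommGroup A] [Module (ZMod q) (Additive A)]
    (N : Subgroup A) :
    Submodule (AlgebraicClosure (ZMod q)) (AlgebraicClosure (ZMod q) ⊗[ZMod q] Additive A) :=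
  Submodule.span _ (mk1 q '' (N : Set A))

/-- A nonzero tensor avoids the span of some subgroup avoiding one of its coordinates. -/
theorem exists_not_mem_span (z : AlgebraicClosure (ZMod q) ⊗[ZMod q] Additive A) (hz : z ≠ 0) :
    ∃ a : A, a ≠ 1 ∧ ∀ N : Subgroup A, a ∉ N → z ∉ spanOf q N := by
  classical
  let b := Module.Free.chooseBasis (ZMod q) (AlgebraicClosure (ZMod q))
  set E := TensorProduct.equivFinsuppOfBasisLeft (N := Additive A) b with hE
  obtain ⟨i, hi⟩ : ∃ i, E z i ≠ 0 := by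
    by_contra! h
    exact hz (E.injective (Finsupp.ext fun i => by rw [h i, map_zero]; rfl))
  refine ⟨Additive.toMul (E z i), fun h => hi (Additive.toMul.injective h), fun N hN hmem => hN ?_⟩
  suffices h : ∀ z ∈ spanOf q N, ∀ c : AlgebraicClosure (ZMod q), Additive.toMul (E (c • z) i) ∈ N by
    simpa using h z hmem 1
  intro z hz
  induction hz using Submodule.span_induction with
  | mem z hz =>
    intro c
    obtain ⟨a, ha, rfl⟩ := hz
    rw [smul_mk1, hE, TensorProduct.equivFinsuppOfBasisLeft_apply_tmul_apply, ← ZMod.natCast_zmod_val (b.repr c i),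
      Nat.cast_smul_eq_nsmul, toMul_nsmul]
    exact pow_mem ha _
  | zero => intro c; simp
  | add y w _ _ hy hw =>
    intro c
    rw [smul_add, map_add, Finsupp.add_apply, toMul_add]
    exact mul_mem (hy c) (hw c)
  | smul d y _ hy => intro c; rw [smul_smul]; exact hy _

set_option maxHeartbeats 1000000 in
/-- No quotient sees the piece `W'` with the half power of rank at most two on it. -/
theorem upper_step {K : Type*} [Field K] [IsAlgClosed K] {V : Type*} [AddCommGroup V] [Module K V]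
    [FiniteDimensional K V] {Γ : Type*} [Group Γ] [Finite Γ] {ρ : Γ →* End K V} {D : Subgroup Γ}
    {lam : Γ → Γ → K} {h : Pairing ρ D lam} {s : ℕ} [Fact s.Prime] (hso : Odd s) (hsK : (s : K) ≠ 0)
    (hD : IsPGroup s D) {x : Γ} {n : ℕ} (hn : 1 ≤ n) (hxD : Normalizes x D) (hxP : x ^ 2 ^ n = 1)
    (hne : ¬ antiSub h (x ^ 2 ^ (n - 1)) (hxD.pow _) ≤ radSub h) {k' : ℕ} (hk'n : k' < n)
    (hsP : s + 1 = 2 ^ (n - k'))
    (hidx : (radSub h).relIndex (antiSub h (x ^ 2 ^ (n - 1)) (hxD.pow _)) = s ^ 2)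
    (hpres : ∀ i, k' ≤ i → Preserves D lam (x ^ 2 ^ i)) {W' : Submodule K V} (hW'le : W' ≤ pairSpace ρ D lam)
    (hW'N : ∀ g ∈ antiSub h (x ^ 2 ^ (n - 1)) (hxD.pow _), ∀ w ∈ W', ρ g w ∈ W')
    (hW'b : ∀ w ∈ W', ρ (x ^ 2 ^ k') w ∈ W') (hW'fix : ∀ w ∈ W', ρ (x ^ 2 ^ k') w = w → w = 0)
    (hW'scal : ∀ g ∈ radSub h, ∃ c : K, ∀ w ∈ W', ρ g w = c • w)
    (hwit : 1 ≤ k' → ∃ g ∈ D, ∃ c c' : K, c' ≠ c ∧ ∀ w ∈ W',
      ρ g w = c • w ∧ ρ g (ρ (x ^ 2 ^ (k' - 1)) w) = c' • ρ (x ^ 2 ^ (k' - 1)) w)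
    {q : ℕ} [Fact q.Prime] (hqo : Odd q) (hqs : q ≠ s) (Nb : Submodule K V) (hWN : ¬ W' ≤ Nb)
    (hDNb : ∀ g ∈ D, ∀ w ∈ Nb, ρ g w ∈ Nb) (htNb : ∀ w ∈ Nb, ρ (x ^ 2 ^ (n - 1)) w ∈ Nb)
    (hNt : LinearMap.range (ρ (x ^ 2 ^ (n - 1)) - 1) ≤ Nb ∨
      ∃ k < n, q + 1 = 2 ^ (n - k) ∧ (∀ i, k ≤ i → ∀ w ∈ Nb, ρ (x ^ 2 ^ i) w ∈ Nb) ∧
        ∃ P : Submodule K V, finrank K P ≤ 2 ∧ LinearMap.range (ρ (x ^ 2 ^ (n - 1)) - 1) ≤ P ⊔ Nb) :
    False := by
  classical
  set t := x ^ 2 ^ (n - 1) with ht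
  have ht2 : t * t = 1 := by rw [ht, ← pow_add, ← two_mul, ← pow_succ', Nat.sub_add_cancel hn, hxP]
  have hp : Preserves D lam t := hpres (n - 1) (by omega)
  have hW't : ∀ w ∈ W', ρ t w ∈ W' := by
    have : ∀ i : ℕ, ∀ w ∈ W', ρ ((x ^ 2 ^ k') ^ i) w ∈ W' := by
      intro i
      induction i with
      | zero => intro w hw; simpa using hw
      | succ i ih => intro w hw; rw [pow_succ', map_mul, Module.End.mul_apply]; exact hW'b _ (ih w hw)
    intro w hw
    have h1 := this (2 ^ (n - 1 - k')) w hw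
    rwa [← pow_mul, ← pow_add, Nat.add_sub_cancel' (by omega : k' ≤ n - 1), ← ht] at h1
  let G1 : Subgroup Γ := stab ρ Nb ⊓ stab ρ (W' ⊔ Nb)
  have hG1 : ∀ {g : Γ}, (∀ w ∈ Nb, ρ g w ∈ Nb) → (∀ w ∈ W', ρ g w ∈ W') → g ∈ G1 := fun {g} hg hgW =>
    ⟨mem_stab hg, mem_stab fun w hw => by
      obtain ⟨a, ha, b, hb, rfl⟩ := Submodule.mem_sup.mp hw
      rw [map_add]
      exact Submodule.add_mem_sup (hgW a ha) (hg b hb)⟩
  have htG : t ∈ G1 := hG1 htNb hW't
  let τY : stab ρ Nb →* End K (V ⧸ Nb) := onQuot ρ Nb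
  set U := W'.map Nb.mkQ with hU
  have hUmem : ∀ g : G1, ∀ w ∈ U, τY ⟨g.1, g.2.1⟩ w ∈ U := by
    rintro g _ ⟨w, hw, rfl⟩
    obtain ⟨a, ha, b, hb, e⟩ := Submodule.mem_sup.mp (g.2.2.1 w (Submodule.mem_sup_left hw))
    refine ⟨a, ha, ?_⟩
    show Nb.mkQ a = Nb.mkQ (ρ g w)
    rw [← e, map_add, show Nb.mkQ b = 0 from (Submodule.Quotient.mk_eq_zero Nb).mpr hb, add_zero]
  let σ : G1 →* End K U :=
    { toFun := fun g => (τY ⟨g.1, g.2.1⟩).restrict (hUmem g)
      map_one' := by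
        refine LinearMap.ext fun w => Subtype.ext ?_
        show τY ⟨(1 : G1).1, (1 : G1).2.1⟩ w.1 = _
        rw [show (⟨(1 : G1).1, (1 : G1).2.1⟩ : stab ρ Nb) = 1 from rfl, map_one]
        rfl
      map_mul' := fun a b => by
        refine LinearMap.ext fun w => Subtype.ext ?_
        show τY ⟨(a * b : G1).1, (a * b : G1).2.1⟩ w.1 = _
        rw [show (⟨(a * b : G1).1, (a * b : G1).2.1⟩ : stab ρ Nb) = ⟨a.1, a.2.1⟩ * ⟨b.1, b.2.1⟩ from rfl, map_mul]
        rfl }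
  obtain ⟨z, hzW, hzN⟩ := SetLike.not_le_iff_exists.mp hWN
  have hU0 : U ≠ ⊥ := fun e => hzN ((Submodule.Quotient.mk_eq_zero Nb).mp
    ((Submodule.mem_bot K).mp (e ▸ Submodule.mem_map_of_mem hzW)))
  haveI : Nontrivial U := Submodule.nontrivial_iff_ne_bot.mpr hU0
  have hU' : ∀ w : U, ∃ w' : W', w = ⟨Nb.mkQ w', Submodule.mem_map_of_mem w'.2⟩ := by
    rintro ⟨_, w', hw', rfl⟩; exact ⟨⟨w', hw'⟩, rfl⟩
  have hσ : Realizes h t (hxD.pow _) σ :=
    ⟨fun g hg => hG1 (hDNb g hg.1) (hW'N g hg), fun a b => LinearMap.ext fun w => Subtype.ext (by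
      obtain ⟨w', rfl⟩ := hU' w
      show Nb.mkQ (ρ ⁅(a : Γ), (b : Γ)⁆ w') = lam a b • Nb.mkQ w'
      rw [mem_pairSpace (hW'le w'.2) a.2.1 b.2.1, map_smul]), fun g hg => by
      obtain ⟨c, hc⟩ := hW'scal _ hg
      refine ⟨c, LinearMap.ext fun w => Subtype.ext ?_⟩
      obtain ⟨w', rfl⟩ := hU' w
      show Nb.mkQ (ρ (g : Γ) w') = c • Nb.mkQ w'
      rw [hc _ w'.2, map_smul]⟩
  have hdim := le_finrank hso hsK hD hp ht2 hσ hidx
  obtain ⟨g₀, hg₀, hg₀R⟩ := Set.not_subset.mp hne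
  set T := σ ⟨t, htG⟩ with hT
  set TY := τY ⟨t, htG.1⟩ with hTY
  have hrU : finrank K (LinearMap.range (T - 1)) = finrank K (U.map (TY - 1)) := by
    rw [← finrank_range_restrict (TY - 1) U fun w hw => sub_mem (hUmem ⟨t, htG⟩ w hw) hw]
    rfl
  have hrange : ∀ P : Submodule K V, LinearMap.range (ρ t - 1) ≤ P ⊔ Nb →
      LinearMap.range (TY - 1) ≤ P.map Nb.mkQ := by
    rintro P hP _ ⟨w, rfl⟩
    obtain ⟨w, rfl⟩ := Nb.mkQ_surjective w
    obtain ⟨a, ha, b, hb, e⟩ := Submodule.mem_sup.mp (hP (LinearMap.mem_range_self _ w))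
    refine ⟨a, ha, ?_⟩
    rw [LinearMap.sub_apply, Module.End.one_apply, hTY, onQuot_apply, ← map_sub,
      show ρ t w - w = a + b from e.symm, map_add, show Nb.mkQ b = 0 from (Submodule.Quotient.mk_eq_zero Nb).mpr hb,
      add_zero]
  have hs3 : 3 ≤ s := by
    obtain ⟨a, rfl⟩ := hso
    have := (Fact.out : (2 * a + 1).Prime).two_le
    omega
  rcases hNt with htriv | ⟨k, hkn, hqP, hkinv, P, hP2, hP⟩
  · have h0 : finrank K (LinearMap.range (T - 1)) ≤ 0 := by
      rw [hrU]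
      refine (Submodule.finrank_mono (LinearMap.map_le_range.trans
        (hrange ⊥ (by rwa [bot_sup_eq])))).trans ?_
      rw [Submodule.map_bot, finrank_bot]
    have h1 := rank_bound hso hD hp ht2 hσ htG hg₀ hg₀R h0
    rw [Nat.mul_zero, Nat.zero_mul, Nat.le_zero, mul_eq_zero] at h1
    omega
  have hY2 : finrank K (LinearMap.range (TY - 1)) ≤ 2 :=
    ((Submodule.finrank_mono (hrange P hP)).trans (Submodule.finrank_map_le _ _)).trans hP2
  have hs : s = 3 := by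
    have h1 := rank_bound hso hD hp ht2 hσ htG hg₀ hg₀R
      (hrU ▸ (Submodule.finrank_mono LinearMap.map_le_range).trans hY2)
    have h2 : (s - 1) * s ≤ 4 * s := (Nat.mul_le_mul_left _ hdim).trans h1
    have h3 := Nat.le_of_mul_le_mul_right h2 (by omega)
    have h5 : s = 3 ∨ s = 4 ∨ s = 5 := by omega
    rcases h5 with h5 | h5 | h5
    · exact h5
    · exact absurd (h5 ▸ (Fact.out : s.Prime)) (by norm_num)
    · exfalso
      rw [h5] at hsP
      have h6 : n - k' < 3 := (Nat.pow_lt_pow_iff_right (by norm_num : 1 < 2)).mp (by rw [← hsP]; norm_num)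
      interval_cases (n - k') <;> simp at hsP
  have hk2 : n - k' = 2 := Nat.pow_right_injective le_rfl (hsP.symm.trans (by rw [hs]))
  have hk : k + 1 ≤ k' := by
    have hq5 : 5 ≤ q := by
      obtain ⟨a, rfl⟩ := hqo
      have := (Fact.out : (2 * a + 1).Prime).two_le
      omega
    have : 2 < n - k := (Nat.pow_lt_pow_iff_right (by norm_num : 1 < 2)).mp (by rw [← hqP]; omega)
    omega
  set b := x ^ 2 ^ k' with hb
  have hb2 : b * b = t := by
    rw [hb, ht, ← pow_add, ← two_mul, ← pow_succ']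
    congr 2
    omega
  have hbG : b ∈ G1 := hG1 (hkinv k' (by omega)) hW'b
  have hBfix : ∀ w : U, σ ⟨b, hbG⟩ w = w → w = 0 := by
    intro w hw
    obtain ⟨w', rfl⟩ := hU' w
    have he : Nb.mkQ (ρ b w') = Nb.mkQ w' := congrArg Subtype.val hw
    have hd : ρ b w' - w' ∈ W' ⊓ Nb := ⟨sub_mem (hW'b _ w'.2) w'.2, (Submodule.Quotient.eq Nb).mp he⟩
    have hmap : ∀ a ∈ W' ⊓ Nb, (ρ b - 1 : End K V) a ∈ W' ⊓ Nb := fun a ha =>
      ⟨sub_mem (hW'b _ ha.1) ha.1, sub_mem (hbG.1.1 a ha.2) ha.2⟩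
    have hinj : Function.Injective ((ρ b - 1 : End K V).restrict hmap) := (injective_iff_map_eq_zero _).mpr
      fun a ha => Subtype.ext (hW'fix a a.2.1 (sub_eq_zero.mp (congrArg Subtype.val ha)))
    obtain ⟨a, ha⟩ := LinearMap.surjective_of_injective hinj ⟨_, hd⟩
    have ha' : ρ b (a : V) - (a : V) = ρ b w' - w' := congrArg Subtype.val ha
    have : (w' : V) = a := sub_eq_zero.mp (hW'fix _ (sub_mem w'.2 a.2.1) (by
      rw [map_sub]
      exact sub_eq_sub_iff_sub_eq_sub.mp ha'.symm))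
    exact Subtype.ext ((Submodule.Quotient.mk_eq_zero Nb).mpr (this ▸ a.2.2))
  have hr2 := two_le_rank hso hsK hD hp ht2 hσ hs hidx htG hg₀ hg₀R hbG (hpres k' le_rfl) hb2 hBfix
  -- the translate of `U`
  obtain ⟨g, hgD, c, c', hcc, hgc⟩ := hwit (by omega)
  set u := x ^ 2 ^ (k' - 1) with hu
  have huG : u ∈ stab ρ Nb := mem_stab (hkinv (k' - 1) (by omega))
  have hgG : g ∈ stab ρ Nb := mem_stab (hDNb g hgD)
  set Eu := τY ⟨u, huG⟩ with hEu
  set R1 := U.map (TY - 1) with hR1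
  have hTYc : Commute TY Eu := by
    show TY * Eu = Eu * TY
    rw [hTY, hEu, ← map_mul, ← map_mul]
    exact congrArg τY (Subtype.ext ((Commute.refl x).pow_pow _ _).eq)
  have hEinj : Function.Injective Eu := Function.LeftInverse.injective (g := τY ⟨u, huG⟩⁻¹) fun w => by
    rw [hEu, ← Module.End.mul_apply, ← map_mul, inv_mul_cancel, map_one]; rfl
  have hR1U : R1 ≤ U := Submodule.map_le_iff_le_comap.mpr fun w hw => sub_mem (hUmem ⟨t, htG⟩ w hw) hw
  have hdisj : U ⊓ U.map Eu = ⊥ := by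
    rw [eq_bot_iff]
    rintro v ⟨⟨w, hw, rfl⟩, _, ⟨w', hw', rfl⟩, e⟩
    have h1 : τY ⟨g, hgG⟩ (Nb.mkQ w) = c • Nb.mkQ w := by
      rw [onQuot_apply, (hgc w hw).1, map_smul]
    have h2 : τY ⟨g, hgG⟩ (Nb.mkQ w) = c' • Nb.mkQ w := by
      rw [← e, hEu, onQuot_apply, onQuot_apply, (hgc w' hw').2, map_smul]
    rw [h1] at h2
    exact (Submodule.mem_bot K).mpr ((smul_eq_zero.mp (by rw [sub_smul, h2, sub_self] :
      (c - c') • Nb.mkQ w = 0)).resolve_left (sub_ne_zero.mpr hcc.symm))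
  have h4 := Submodule.finrank_sup_add_finrank_inf_eq R1 (R1.map Eu)
  rw [eq_bot_iff.mpr ((inf_le_inf hR1U (Submodule.map_mono hR1U)).trans hdisj.le), finrank_bot, Nat.add_zero,
    (Submodule.equivMapOfInjective Eu hEinj R1).finrank_eq.symm] at h4
  have h5 : R1 ⊔ R1.map Eu ≤ LinearMap.range (TY - 1) := by
    refine sup_le LinearMap.map_le_range ?_
    rintro _ ⟨_, ⟨w, _, rfl⟩, rfl⟩
    exact ⟨Eu w, LinearMap.congr_fun ((hTYc.sub_left (Commute.one_left Eu)).eq) w⟩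
  have h6 := Submodule.finrank_mono h5
  rw [hrU] at hr2
  omega

set_option maxHeartbeats 1000000 in
/-- The half power centralizes the action, the module and its coordinates given abstractly. -/
theorem upper_aux (hqo : Odd q) {s : ℕ} [Fact s.Prime] (hso : Odd s) (hqs : q ≠ s) {Γ : Type*} [Group Γ] [Finite Γ]
    (φ : Γ →* MulAut A) (S : Subgroup Γ) (x : Γ) {n : ℕ} (hn : 1 ≤ n) (hS : IsPGroup s S)
    (hxP : x ^ 2 ^ n = 1) (hxS : Normalizes x S) {K : Type*} [Field K] [IsAlgClosed K] (hsK : (s : K) ≠ 0)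
    (h2K : (2 : K) ≠ 0) {V : Type*} [AddCommGroup V] [Module K V] [FiniteDimensional K V] (ρ : Γ →* End K V)
    (mk : A → V) (hmk : ∀ a b, mk (a * b) = mk a + mk b) (hspan : Submodule.span K (Set.range mk) = ⊤)
    (hρ : ∀ g a, ρ g (mk a) = mk (φ g a)) (hVfix : ∀ w, ρ x w = w → w = 0)
    (hsepV : ∀ z : V, z ≠ 0 → ∃ a : A, a ≠ 1 ∧ ∀ N : Subgroup A, a ∉ N →
      z ∉ Submodule.span K (mk '' (N : Set A)))
    (hN : ∀ a : A, a ≠ 1 → ∃ N : Subgroup A, a ∉ N ∧ (∀ g ∈ S, ∀ z ∈ N, φ g z ∈ N) ∧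
      (∀ z ∈ N, φ (x ^ 2 ^ (n - 1)) z ∈ N) ∧
      ((∀ z : A, z⁻¹ * φ (x ^ 2 ^ (n - 1)) z ∈ N) ∨
        ∃ k < n, q + 1 = 2 ^ (n - k) ∧ (∀ i, k ≤ i → ∀ z ∈ N, φ (x ^ 2 ^ i) z ∈ N) ∧
          ∃ a b : A, ∀ z : A, z⁻¹ * φ (x ^ 2 ^ (n - 1)) z ∈ N ⊔ Subgroup.zpowers a ⊔ Subgroup.zpowers b)) :
    ¬ Moves ρ S (x ^ 2 ^ (n - 1)) := by
  classical
  intro hmove
  set t := x ^ 2 ^ (n - 1) with ht
  have hs2 : s ≠ 2 := by rintro rfl; exact absurd hso (by decide)
  have hmk1 : mk 1 = 0 := by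
    have h1 := hmk 1 1
    rw [mul_one] at h1
    exact left_eq_add.mp h1
  have ht2 : t * t = 1 := by rw [ht, ← pow_add, ← two_mul, ← pow_succ', Nat.sub_add_cancel hn, hxP]
  -- a minimal moved subgroup
  obtain ⟨D, ⟨hDS, hxD, hDm⟩, hDmin⟩ := (wellFounded_lt (α := Subgroup Γ)).has_min
    {D : Subgroup Γ | D ≤ S ∧ Normalizes x D ∧ Moves ρ D t} ⟨S, le_rfl, hxS, hmove⟩
  have hDp : IsPGroup s D := hS.to_le hDS
  have hmin : Minimal ρ D x t := fun D₁ hle hne' hinv hm =>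
    hDmin D₁ ⟨hle.trans hDS, hinv, hm⟩ (lt_of_le_of_ne hle hne')
  have hxt : Commute x t := (Commute.refl x).pow_right _
  have hgen := closure_eq (p := 2) (q := s) (Ne.symm hs2) hDp (by rw [sq]; exact ht2) hxt hxD (hxD.pow _) hDm hmin
  have hcomm : ∀ a ∈ D, ∀ b ∈ D, ∀ c ∈ D, Commute (ρ ⁅a, b⁆) (ρ c) := by
    have hle : ⁅D, D⁆ ≤ D := Subgroup.commutator_le.mpr fun a ha b hb =>
      mul_mem (mul_mem (mul_mem ha hb) (inv_mem ha)) (inv_mem hb)
    have hnormR : ∀ g : Γ, Normalizes g D → Normalizes g ⁅D, D⁆ := fun g hg d hd => by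
      have : ⁅D, D⁆ ≤ ⁅D, D⁆.comap (MulAut.conj g).toMonoidHom := Subgroup.commutator_le.mpr fun a ha b hb => by
        rw [Subgroup.mem_comap, map_commutatorElement]
        exact Subgroup.commutator_mem_commutator (hg a ha) (hg b hb)
      exact this hd
    have hDne : D ≠ ⊥ := by
      rintro rfl
      obtain ⟨g, hg, hg'⟩ := hDm
      rw [Subgroup.mem_bot.mp hg, map_one] at hg'
      exact hg' (Commute.one_right _)
    have hne' : ⁅D, D⁆ ≠ D := by
      intro he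
      haveI := hDp.isNilpotent
      haveI : Nontrivial D := (Subgroup.nontrivial_iff_ne_bot D).mpr hDne
      refine (Group.IsSolvable.commutator_lt_top_of_nontrivial D).ne ?_
      refine Subgroup.map_injective D.subtype_injective ?_
      rw [Subgroup.map_subtype_commutator, ← MonoidHom.range_eq_map, Subgroup.range_subtype]
      exact he
    have hc : ∀ d ∈ ⁅D, D⁆, Commute (ρ t) (ρ d) := fun d hd => by
      by_contra hc
      exact hmin _ hle hne' (hnormR x hxD) ⟨d, hd, hc⟩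
    exact fun a ha b hb => commute_of_centralized hgen
      (fun g hg => hnormR g fun c hc => mul_mem (mul_mem hg hc) (inv_mem hg)) hc _
      (Subgroup.commutator_mem_commutator ha hb)
  -- the structure of `D`
  obtain ⟨lam, h, hlam⟩ : ∃ (lam : Γ → Γ → K) (h : Pairing ρ D lam),
      ¬ antiSub h (x ^ 2 ^ (n - 1)) (hxD.pow _) ≤ radSub h := by
    by_contra! hall
    exact not_moves_of_forall hso hsK hDp hxD hxP hn hVfix hcomm hall hDm
  obtain ⟨k', hk'n, hsP, hidx, hpres, W', hW'le, hW'0, hW'N, hW'b, hW'fix, hW'scal, hwit⟩ :=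
    lower hso hsK h2K hDp hxD hxP hn hVfix h hlam
  -- a quotient seeing `W'`
  obtain ⟨z, hzW, hz0⟩ := Submodule.exists_mem_ne_zero_of_ne_bot hW'0
  obtain ⟨a₀, ha₀, hsep⟩ := hsepV z hz0
  obtain ⟨N, haN, hSN, htN, hNt⟩ := hN a₀ ha₀
  have hstab : ∀ g : Γ, (∀ a ∈ N, φ g a ∈ N) → ∀ w ∈ (Submodule.span K (mk '' (N : Set A))), ρ g w ∈ (Submodule.span K (mk '' (N : Set A))) := by
    intro g hg w hw
    induction hw using Submodule.span_induction with
    | mem w hw =>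
      obtain ⟨a, ha, rfl⟩ := hw
      rw [hρ]
      exact Submodule.subset_span ⟨_, hg a ha, rfl⟩
    | zero => simp
    | add y w _ _ hy hw => rw [map_add]; exact add_mem hy hw
    | smul d y _ hy => rw [map_smul]; exact Submodule.smul_mem _ _ hy
  have hrange : ∀ P : Submodule K V, (∀ a : A, mk (a⁻¹ * φ t a) ∈ P) → LinearMap.range (ρ t - 1) ≤ P := by
    intro P hP
    rw [LinearMap.range_eq_map, ← hspan, Submodule.map_span_le]
    rintro _ ⟨a, rfl⟩
    have h1 := hmk a (a⁻¹ * φ t a)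
    rw [mul_inv_cancel_left] at h1
    rw [LinearMap.sub_apply, Module.End.one_apply, hρ, h1, add_sub_cancel_left]
    exact hP a
  refine upper_step hso hsK hDp hn hxD hxP hlam hk'n hsP hidx hpres hW'le hW'N hW'b hW'fix hW'scal hwit hqo hqs
    ((Submodule.span K (mk '' (N : Set A)))) (fun hle => hsep N haN (hle hzW)) (fun g hg => hstab g (hSN g (hDS hg))) (hstab t htN) ?_
  rcases hNt with htriv | ⟨k, hkn, hqP, hkinv, a, b, hab⟩
  · exact Or.inl (hrange _ fun a => Submodule.subset_span ⟨_, htriv a, rfl⟩)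
  refine Or.inr ⟨k, hkn, hqP, fun i hi => hstab _ (hkinv i hi),
    Submodule.span K (({mk a, mk b} : Finset V) : Set V),
    (finrank_span_finset_le_card _).trans Finset.card_le_two, hrange _ fun z => ?_⟩
  let P2 : Subgroup A :=
    { carrier := {w | mk w ∈ Submodule.span K (({mk a, mk b} : Finset V) : Set V) ⊔ (Submodule.span K (mk '' (N : Set A)))}
      one_mem' := by
        simp only [Set.mem_setOf_eq] at *
        rw [hmk1]; exact zero_mem _
      mul_mem' := fun {u v} hu hv => by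
        simp only [Set.mem_setOf_eq] at *
        rw [hmk]; exact add_mem hu hv
      inv_mem' := fun {u} hu => by
        simp only [Set.mem_setOf_eq] at *
        have h1 : mk u⁻¹ = -mk u := eq_neg_of_add_eq_zero_left (by rw [← hmk, inv_mul_cancel, hmk1])
        rw [h1]; exact neg_mem hu }
  exact (sup_le (sup_le (fun w hw => Submodule.mem_sup_right (Submodule.subset_span ⟨w, hw, rfl⟩))
      (Subgroup.zpowers_le.mpr (Submodule.mem_sup_left (Submodule.subset_span (by simp)))))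
      (Subgroup.zpowers_le.mpr (Submodule.mem_sup_left (Submodule.subset_span (by simp)))) :
    N ⊔ Subgroup.zpowers a ⊔ Subgroup.zpowers b ≤ P2) (hab z)

set_option maxHeartbeats 1000000 in
/-- The half power centralizes the action. -/
theorem upper (hqo : Odd q) {s : ℕ} [Fact s.Prime] (hso : Odd s) (hqs : q ≠ s) {Γ : Type u} [Group Γ] [Finite Γ]
    [Finite A] (φ : Γ →* MulAut A) (S : Subgroup Γ) (x : Γ) {n : ℕ} (hn : 1 ≤ n) (hS : IsPGroup s S)
    (hxP : x ^ 2 ^ n = 1) (hxS : Normalizes x S) (hAfix : ∀ a : A, φ x a = a → a = 1)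
    (hN : ∀ a : A, a ≠ 1 → ∃ N : Subgroup A, a ∉ N ∧ (∀ g ∈ S, ∀ z ∈ N, φ g z ∈ N) ∧
      (∀ z ∈ N, φ (x ^ 2 ^ (n - 1)) z ∈ N) ∧
      ((∀ z : A, z⁻¹ * φ (x ^ 2 ^ (n - 1)) z ∈ N) ∨
        ∃ k < n, q + 1 = 2 ^ (n - k) ∧ (∀ i, k ≤ i → ∀ z ∈ N, φ (x ^ 2 ^ i) z ∈ N) ∧
          ∃ a b : A, ∀ z : A, z⁻¹ * φ (x ^ 2 ^ (n - 1)) z ∈ N ⊔ Subgroup.zpowers a ⊔ Subgroup.zpowers b)) :
    ∀ g ∈ S, φ (x ^ 2 ^ (n - 1)) * φ g = φ g * φ (x ^ 2 ^ (n - 1)) := by
  classical
  haveI : Finite (Additive A) := Finite.of_equiv _ Additive.ofMul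
  haveI : Module.Finite (ZMod q) (Additive A) := Module.Finite.of_finite
  let Kq := AlgebraicClosure (ZMod q)
  haveI : CharP Kq q := charP_of_injective_algebraMap (algebraMap (ZMod q) Kq).injective q
  have hne : ∀ r : ℕ, r.Prime → r ≠ q → (r : Kq) ≠ 0 := fun r hr hrq h => hrq
    ((Nat.prime_dvd_prime_iff_eq Fact.out hr).mp ((CharP.cast_eq_zero_iff Kq q r).mp h)).symm
  have hs2 : s ≠ 2 := by rintro rfl; exact absurd hso (by decide)
  have hq2 : q ≠ 2 := by rintro rfl; exact absurd hqo (by decide)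
  have hsK : (s : Kq) ≠ 0 := hne s Fact.out (Ne.symm hqs)
  have h2K : (2 : Kq) ≠ 0 := by exact_mod_cast hne 2 Nat.prime_two (Ne.symm hq2)
  let bc : Module.End (ZMod q) (Additive A) →ₐ[ZMod q] Module.End Kq (Kq ⊗[ZMod q] Additive A) :=
    Module.End.baseChangeHom (ZMod q) Kq (Additive A)
  have hbc : Function.Injective bc := fun a b h =>
    LinearMap.baseChangeHom_injective (ZMod q) _ (M := Additive A) h
  let ρ : Γ →* Module.End Kq (Kq ⊗[ZMod q] Additive A) := bc.toMonoidHom.comp (toEnd q φ)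
  have hρ : ∀ g (a : A), ρ g (mk1 q a) = mk1 q (φ g a) := fun g a => by
    show ((toEnd q φ g).baseChange Kq) ((1 : Kq) ⊗ₜ[ZMod q] Additive.ofMul a) = _
    rw [LinearMap.baseChange_tmul]
    rfl
  have hVfix : ∀ w, ρ x w = w → w = 0 := by
    have h0 : Function.Injective (toEnd q φ x - 1 : Module.End (ZMod q) (Additive A)) := by
      refine (injective_iff_map_eq_zero _).mpr fun v hv => ?_
      refine Additive.toMul.injective (hAfix _ ?_)
      exact congrArg Additive.toMul (sub_eq_zero.mp hv)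
    have h1 : Function.Injective (bc (toEnd q φ x - 1)) := by
      show Function.Injective ((toEnd q φ x - 1).baseChange Kq)
      rw [LinearMap.baseChange_eq_ltensor]
      exact Module.Flat.lTensor_preserves_injective_linearMap _ h0
    intro w hw
    refine h1 ?_
    rw [map_sub, map_one, LinearMap.sub_apply, Module.End.one_apply, map_zero, sub_eq_zero]
    exact hw
  have hspan : Submodule.span Kq (Set.range (fun a : A => mk1 q a)) = ⊤ := by
    refine eq_top_iff.mpr fun z _ => ?_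
    induction z using TensorProduct.induction_on with
    | zero => exact zero_mem _
    | tmul c a =>
      obtain ⟨a, rfl⟩ := Additive.ofMul.surjective a
      rw [← smul_mk1]
      exact Submodule.smul_mem _ _ (Submodule.subset_span ⟨a, rfl⟩)
    | add y w hy hw => exact add_mem (hy trivial) (hw trivial)
  have hnot : ¬ Moves ρ S (x ^ 2 ^ (n - 1)) :=
    upper_aux hqo hso hqs φ S x hn hS hxP hxS hsK h2K ρ (fun a => mk1 q a) mk1_mul hspan hρ hVfix
      exists_not_mem_span hN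
  intro g hg
  simp only [Moves, not_exists, not_and, not_not] at hnot
  have h := (hnot g hg).eq
  have h' : toEnd q φ (x ^ 2 ^ (n - 1) * g) = toEnd q φ (g * x ^ 2 ^ (n - 1)) := hbc (by
    show ρ _ = ρ _
    rw [map_mul, map_mul]; exact h)
  rw [← map_mul, ← map_mul]
  exact MulEquiv.ext fun a => congrArg Additive.toMul (LinearMap.congr_fun h' (Additive.ofMul a))

end Cfsg.Agent.GenA.ShultGross.Two
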